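import Mathlib
import Cfsg.Prelude.Def_LocalEven
import Cfsg.Agent.Lib.LocalEven.InvolvesFour

/-!
Alternating groups: small embeddings, perfectness, non-solvability, and sections down to smaller degree.
-/

set_option autoImplicit false

namespace CfsgLib.AltCentral

open Subgroup Equiv

/-- The alternating group of degree at least five is not solvable. -/
theorem not_isSolvable_alt {m : ℕ} (hm : 5 ≤ m) : ¬ Group.IsSolvable (alternatingGroup (Fin m)) := by
  intro h
  have hne : alternatingGroup (Fin m) ≠ ⊥ ∧ _root_.commutator (alternatingGroup (Fin m)) = ⊤ := by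
    have hs : IsSimpleGroup (alternatingGroup (Fin m)) := alternatingGroup.isSimpleGroup (by simpa using hm)
    have hnc : ¬ IsMulCommutative (alternatingGroup (Fin m)) := by
      intro hc
      have := alternatingGroup.center_eq_bot (α := Fin m) (by simp; omega)
      rw [center_eq_top_iff.mpr hc] at this
      exact top_ne_bot this
    refine ⟨fun hb => hnc ⟨⟨fun a b => ?_⟩⟩, ?_⟩
    · have ha := a.2; have hb' := b.2
      simp only [hb, mem_bot] at ha hb'
      apply Subtype.ext
      simp [ha, hb']
    · rcases (_root_.commutator (alternatingGroup (Fin m))).normal_of_characteristic.eq_bot_or_eq_top with h1 | h1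
      · exact absurd (⟨⟨fun a b => by
          rw [← commutatorElement_eq_one_iff_mul_comm, ← Subgroup.mem_bot, ← h1, _root_.commutator_def]
          exact commutator_mem_commutator (mem_top a) (mem_top b)⟩⟩) hnc
      · exact h1
  haveI := h
  haveI : Nontrivial (alternatingGroup (Fin m)) := (nontrivial_iff_ne_bot _).2 hne.1
  exact absurd hne.2 (Group.IsSolvable.commutator_lt_top_of_nontrivial _).ne

/-- The alternating group of degree at least five is perfect. -/
theorem commutator_alt {m : ℕ} (hm : 5 ≤ m) :
    _root_.commutator (alternatingGroup (Fin m)) = ⊤ := by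
  have hs : IsSimpleGroup (alternatingGroup (Fin m)) := alternatingGroup.isSimpleGroup (by simpa using hm)
  rcases (_root_.commutator (alternatingGroup (Fin m))).normal_of_characteristic.eq_bot_or_eq_top with h1 | h1
  · exfalso
    apply not_isSolvable_alt hm
    exact ⟨1, by rw [derivedSeries_one, h1]⟩
  · exact h1

/-- The alternating group of a smaller degree embeds. -/
noncomputable def altEmb {m d : ℕ} (e : Fin m ↪ Fin d) :
    alternatingGroup (Fin m) →* alternatingGroup (Fin d) where
  toFun g := ⟨(g : Perm (Fin m)).viaEmbedding e, by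
    have hg := g.2
    rw [Perm.mem_alternatingGroup] at hg ⊢
    rw [Perm.viaEmbedding, Perm.sign_extendDomain]
    exact hg⟩
  map_one' := by
    apply Subtype.ext
    exact map_one (Perm.viaEmbeddingHom e)
  map_mul' a b := by
    apply Subtype.ext
    exact map_mul (Perm.viaEmbeddingHom e) (a : Perm (Fin m)) b

theorem altEmb_injective {m d : ℕ} (e : Fin m ↪ Fin d) : Function.Injective (altEmb e) := by
  intro a b h
  apply Subtype.ext
  exact Perm.viaEmbeddingHom_injective e (congrArg Subtype.val h)

/-- If a larger alternating group is a section, some subgroup maps onto a given smaller one. -/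
theorem exists_hom {G : Type*} [Group G] {m d : ℕ} (hmd : m ≤ d)
    (h : Cfsg.Involves (alternatingGroup (Fin d)) G) :
    ∃ (H : Subgroup G) (f : H →* alternatingGroup (Fin m)), Function.Surjective f := by
  obtain ⟨H, f, hf⟩ := CfsgLib.LocalEven.Involved.exists_hom_of_involves h
  let j := altEmb (Fin.castLEEmb hmd)
  have hj := altEmb_injective (Fin.castLEEmb hmd)
  let H₀ : Subgroup H := j.range.comap f
  let e : alternatingGroup (Fin m) ≃* j.range := MonoidHom.ofInjective hj
  let f₀ : H₀ →* alternatingGroup (Fin m) :=
    e.symm.toMonoidHom.comp ((f.comp H₀.subtype).codRestrict j.range fun x => x.2)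
  have hf₀ : Function.Surjective f₀ := by
    intro a
    obtain ⟨x, hx⟩ := hf (j a)
    refine ⟨⟨x, ⟨a, hx.symm⟩⟩, ?_⟩
    apply e.injective
    rw [show f₀ _ = e.symm _ from rfl, e.apply_symm_apply]
    exact Subtype.ext hx
  let k := Subgroup.equivMapOfInjective H₀ H.subtype H.subtype_injective
  exact ⟨H₀.map H.subtype, f₀.comp k.symm.toMonoidHom, hf₀.comp k.symm.surjective⟩

end CfsgLib.AltCentral
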