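import Mathlib.GroupTheory.SpecificGroups.Alternating
import Mathlib.Algebra.BigOperators.Group.List.Basic
import Mathlib.Algebra.Module.Basic
import Mathlib.Tactic.Abel

/-!
Checkable certificates that a vector of a module over an alternating group vanishes.

A vector `u` is given which is an eigenvector for some group elements (generating a subgroup `H`), and a
list of rules "vectors with prescribed eigenvalues satisfy a linear relation".  The certificate works in
the monomial module on the cosets of `H`; every step is a combination that must map to zero.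
-/

set_option autoImplicit false

namespace CfsgLib.AltCentral

open Equiv

/-! ### Permutations as tables -/

/-- Composition of tables. -/
def compT (a b : List ℕ) : List ℕ := b.map fun x => a.getD x 0

/-- The table of values of a permutation. -/
def tab {n : ℕ} (σ : Perm (Fin n)) : List ℕ := List.ofFn fun i => (σ i : ℕ)

theorem tab_one (n : ℕ) : tab (1 : Perm (Fin n)) = List.range n := by
  apply List.ext_getElem <;> simp [tab]

theorem tab_mul {n : ℕ} (σ τ : Perm (Fin n)) : tab (σ * τ) = compT (tab σ) (tab τ) := by
  apply List.ext_getElem <;> simp [tab, compT, List.getD_eq_getElem?_getD]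

theorem tab_injective {n : ℕ} : Function.Injective (tab (n := n)) := by
  intro σ τ h
  ext i
  simpa [tab] using congrArg (fun l => l.getD (i : ℕ) 0) h

/-- The table is that of an even permutation. -/
def Good (n : ℕ) (t : List ℕ) : Prop := ∃ σ : alternatingGroup (Fin n), tab (σ : Perm (Fin n)) = t

theorem good_range (n : ℕ) : Good n (List.range n) := ⟨1, by simp [tab_one]⟩

theorem good_compT {n : ℕ} {a b : List ℕ} (ha : Good n a) (hb : Good n b) : Good n (compT a b) := by
  obtain ⟨σ, rfl⟩ := ha
  obtain ⟨τ, rfl⟩ := hb
  exact ⟨σ * τ, by simp [tab_mul]⟩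

open Classical in
/-- The even permutation with a given table (or one). -/
noncomputable def elemT (n : ℕ) (t : List ℕ) : alternatingGroup (Fin n) :=
  if h : Good n t then h.choose else 1

theorem tab_elemT {n : ℕ} {t : List ℕ} (h : Good n t) : tab (elemT n t : Perm (Fin n)) = t := by
  rw [elemT, dif_pos h]; exact h.choose_spec

theorem elemT_tab {n : ℕ} (σ : alternatingGroup (Fin n)) : elemT n (tab (σ : Perm (Fin n))) = σ :=
  Subtype.ext (tab_injective (tab_elemT ⟨σ, rfl⟩))

theorem elemT_range (n : ℕ) : elemT n (List.range n) = 1 := by
  rw [← tab_one n]; exact elemT_tab 1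

theorem elemT_compT {n : ℕ} {a b : List ℕ} (ha : Good n a) (hb : Good n b) :
    elemT n (compT a b) = elemT n a * elemT n b := by
  apply Subtype.ext
  apply tab_injective
  rw [tab_elemT (good_compT ha hb), Subgroup.coe_mul, tab_mul, tab_elemT ha, tab_elemT hb]

/-! ### Zero test for sparse combinations -/

/-- A trie indexed by natural numbers. -/
inductive Trie
  | nil
  | node (c : ℕ) (l r : Trie)

/-- Add `c` at index `i`. -/
def Trie.ins : ℕ → Trie → ℕ → ℕ → Option Trie
  | 0, _, _, _ => none
  | k + 1, t, i, c =>
    match t with
    | .nil =>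
      if i = 0 then some (.node c .nil .nil)
      else if i % 2 = 1 then (Trie.ins k .nil (i / 2) c).map fun l => .node 0 l .nil
      else (Trie.ins k .nil (i / 2 - 1) c).map fun r => .node 0 .nil r
    | .node d l r =>
      if i = 0 then some (.node (d + c) l r)
      else if i % 2 = 1 then (Trie.ins k l (i / 2) c).map fun l' => .node d l' r
      else (Trie.ins k r (i / 2 - 1) c).map fun r' => .node d l r'

/-- All entries vanish modulo `p`. -/
def Trie.isZero (p : ℕ) : Trie → Bool
  | .nil => true
  | .node c l r => c % p == 0 && (l.isZero p && r.isZero p)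

/-- Insert all terms. -/
def Trie.insAll : List (ℕ × ℕ) → Trie → Option Trie
  | [], t => some t
  | (i, c) :: v, t =>
    match Trie.ins 24 t i c with
    | none => none
    | some t' => Trie.insAll v t'

/-- The combination vanishes coefficientwise modulo `p`. -/
def zeroB (p : ℕ) (v : List (ℕ × ℕ)) : Bool :=
  match Trie.insAll v .nil with
  | none => false
  | some t => t.isZero p

section Eval

variable {W : Type*} [AddCommMonoid W]

/-- The value of a trie. -/
def Trie.ev : Trie → (ℕ → W) → W
  | .nil, _ => 0
  | .node c l r, f => c • f 0 + (l.ev (fun i => f (2 * i + 1)) + r.ev (fun i => f (2 * i + 2)))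

/-- The value of a sparse combination. -/
def evV (f : ℕ → W) (v : List (ℕ × ℕ)) : W := (v.map fun x => x.2 • f x.1).sum

theorem evV_append (f : ℕ → W) (a b : List (ℕ × ℕ)) : evV f (a ++ b) = evV f a + evV f b := by
  simp [evV]

theorem evV_cons (f : ℕ → W) (x : ℕ × ℕ) (b : List (ℕ × ℕ)) :
    evV f (x :: b) = x.2 • f x.1 + evV f b := by
  simp [evV]

theorem Trie.ev_ins : ∀ (k : ℕ) (t t' : Trie) (i c : ℕ) (f : ℕ → W),
    Trie.ins k t i c = some t' → t'.ev f = t.ev f + c • f i := by
  intro k
  induction k with
  | zero => intro t t' i c f h; simp [Trie.ins] at h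
  | succ k ih =>
    intro t t' i c f h
    cases t with
    | nil =>
      simp only [Trie.ins] at h
      split_ifs at h with h0 h1
      · cases h; subst h0; simp [Trie.ev]
      · obtain ⟨l, hl, rfl⟩ := Option.map_eq_some_iff.1 h
        have := ih _ _ _ _ (fun j => f (2 * j + 1)) hl
        simp [Trie.ev, this, show 2 * (i / 2) + 1 = i by omega]
      · obtain ⟨r, hr, rfl⟩ := Option.map_eq_some_iff.1 h
        have := ih _ _ _ _ (fun j => f (2 * j + 2)) hr
        simp [Trie.ev, this, show 2 * (i / 2 - 1) + 2 = i by omega]
    | node d l r =>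
      simp only [Trie.ins] at h
      split_ifs at h with h0 h1
      · cases h; subst h0; simp only [Trie.ev, add_smul]; abel
      · obtain ⟨l', hl, rfl⟩ := Option.map_eq_some_iff.1 h
        have := ih _ _ _ _ (fun j => f (2 * j + 1)) hl
        simp only [Trie.ev, this, show 2 * (i / 2) + 1 = i by omega]
        abel
      · obtain ⟨r', hr, rfl⟩ := Option.map_eq_some_iff.1 h
        have := ih _ _ _ _ (fun j => f (2 * j + 2)) hr
        simp only [Trie.ev, this, show 2 * (i / 2 - 1) + 2 = i by omega]
        abel

theorem Trie.ev_insAll : ∀ (v : List (ℕ × ℕ)) (t t' : Trie) (f : ℕ → W),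
    Trie.insAll v t = some t' → t'.ev f = t.ev f + evV f v := by
  intro v
  induction v with
  | nil => intro t t' f h; simp [Trie.insAll] at h; simp [h, evV]
  | cons x v ih =>
    obtain ⟨i, c⟩ := x
    intro t t' f h
    simp only [Trie.insAll] at h
    split at h
    · simp at h
    · rename_i t'' h''
      rw [ih _ _ _ h, Trie.ev_ins _ _ _ _ _ f h'', evV_cons]
      simp [add_assoc]

theorem Trie.ev_isZero {p : ℕ} (hp : ∀ w : W, p • w = 0) :
    ∀ (t : Trie) (f : ℕ → W), t.isZero p = true → t.ev f = 0 := by
  intro t
  induction t with
  | nil => intros; rfl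
  | node c l r ihl ihr =>
    intro f h
    simp only [Trie.isZero, Bool.and_eq_true, beq_iff_eq] at h
    obtain ⟨hc, hl, hr⟩ := h
    have : c = p * (c / p) := by
      conv_lhs => rw [← Nat.div_add_mod c p, hc, add_zero]
    rw [Trie.ev, ihl _ hl, ihr _ hr, this, mul_comm, mul_smul, hp]
    simp

theorem evV_eq_zero {p : ℕ} (hp : ∀ w : W, p • w = 0) (f : ℕ → W) {v : List (ℕ × ℕ)}
    (h : zeroB p v = true) : evV f v = 0 := by
  unfold zeroB at h
  split at h
  · simp at h
  · rename_i t ht
    have := Trie.ev_insAll v .nil t f ht
    rw [Trie.ev_isZero hp t f h] at this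
    simpa [Trie.ev] using this.symm

theorem mod_nsmul {p : ℕ} (hp : ∀ w : W, p • w = 0) (c : ℕ) (w : W) : (c % p) • w = c • w := by
  conv_rhs => rw [← Nat.mod_add_div c p, add_smul, mul_comm p, mul_smul, hp]
  simp

end Eval

/-! ### Certificates -/

/-- Lookup in a list stored in blocks of length 32. -/
def look {α : Type} (L : List (List α)) (i : ℕ) (d : α) : α := (L.getD (i / 32) []).getD (i % 32) d

/-- A rule: vectors with the eigenvalues `conds` (generator, value) are killed by `out` (coefficient, generator). -/
structure Rule where
  conds : List (ℕ × ℕ)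
  out : List (ℕ × ℕ)

/-- A step of a certificate, with the vector it produces. -/
inductive Step
  | rule (r : ℕ) (v : List (ℕ × ℕ)) (combs : List (List (ℕ × ℕ))) (res : List (ℕ × ℕ))
  | tr (g : ℕ) (k : ℕ) (res : List (ℕ × ℕ))

/-- The vector produced by a step. -/
def Step.res : Step → List (ℕ × ℕ)
  | .rule _ _ _ v => v
  | .tr _ _ v => v

/-- Certificate data.  `hgens` lists (generator, eigenvalue) for `u`; `hel` lists
(generator of `hgens`, parent, table, eigenvalue); `reps` lists (generator, parent, table). -/
structure Cert where
  n : ℕ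
  p : ℕ
  N : ℕ
  gens : List (List ℕ)
  hgens : List (ℕ × ℕ)
  hel : List (List (ℕ × ℕ × List ℕ × ℕ))
  reps : List (List (ℕ × ℕ × List ℕ))
  act : List (List (List (ℕ × ℕ)))
  rules : List Rule
  steps : List (List Step)
  final : List (ℕ × ℕ)

namespace Cert

variable (C : Cert)

/-- Generator table. -/
def gT (g : ℕ) : List ℕ := C.gens.getD g (List.range C.n)

/-- Element of the stabiliser. -/
def hAt (h : ℕ) : ℕ × ℕ × List ℕ × ℕ := look C.hel h (0, 0, List.range C.n, 1)

/-- Coset representative. -/
def rT (i : ℕ) : List ℕ := (look C.reps i (0, 0, List.range C.n)).2.2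

/-- Action entry: (new coset, stabiliser element). -/
def actAt (g i : ℕ) : ℕ × ℕ := look (C.act.getD g []) i (0, 0)

/-- The stabiliser list is closed: entry zero is one, the others are generator times earlier ones. -/
def helOK : ℕ → Bool
  | 0 => true
  | k + 1 => helOK k &&
    (let e := C.hAt k
     if k = 0 then e.2.2.1 == List.range C.n && e.2.2.2 % C.p == 1 % C.p
     else
       let hg := C.hgens.getD e.1 (C.gens.length, 1)
       let q := C.hAt e.2.1
       decide (e.2.1 < k) && (e.2.2.1 == compT (C.gT hg.1) q.2.2.1 &&
         e.2.2.2 % C.p == (hg.2 * q.2.2.2) % C.p))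

/-- The representatives are products of generators. -/
def repsOK : ℕ → Bool
  | 0 => true
  | k + 1 => repsOK k &&
    (let e := look C.reps k (0, 0, List.range C.n)
     if k = 0 then e.2.2 == List.range C.n
     else decide (e.2.1 < k) && e.2.2 == compT (C.gT e.1) (C.rT e.2.1))

/-- The action table of generator `g` is right. -/
def actOKAt (g : ℕ) (nh : ℕ) : ℕ → Bool
  | 0 => true
  | i + 1 => actOKAt g nh i &&
    (let e := C.actAt g i
     decide (e.1 < C.N) && (decide (e.2 < nh) &&
       compT (C.gT g) (C.rT i) == compT (C.rT e.1) (C.hAt e.2).2.2.1))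

/-- Number of listed stabiliser elements. -/
def nH : ℕ := (C.hel.map List.length).sum

/-- The table of one generator is empty or right. -/
def actPart (g : ℕ) : Bool := (C.act.getD g []).isEmpty || C.actOKAt g C.nH C.N

/-- All tables are right for the generators with nonempty tables. -/
def actOK : Bool := (List.range C.gens.length).all C.actPart

/-- The generator has a table. -/
def hasAct (g : ℕ) : Bool := decide (g < C.gens.length) && !(C.act.getD g []).isEmpty

/-- The action of a generator on a combination. -/
def actV (g : ℕ) (v : List (ℕ × ℕ)) : List (ℕ × ℕ) :=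
  v.map fun x =>
    if x.1 < C.N then
      let e := C.actAt g x.1
      (e.1, (x.2 * (C.hAt e.2).2.2.2) % C.p)
    else (x.1, 0)

/-- Scale a combination. -/
def scale (c : ℕ) (v : List (ℕ × ℕ)) : List (ℕ × ℕ) := v.map fun x => (x.1, (c * x.2) % C.p)

/-- The step with a given number. -/
def stepAt (k : ℕ) : Step := look C.steps k (.tr 0 0 [])

/-- Number of steps. -/
def numSteps : ℕ := (C.steps.map List.length).sum

/-- The vector of step `k`, if it comes before step `i`. -/
def before (i k : ℕ) : List (ℕ × ℕ) := if k < i then (C.stepAt k).res else []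

/-- A combination of steps before step `i`. -/
def combine (i : ℕ) (cb : List (ℕ × ℕ)) : List (ℕ × ℕ) :=
  cb.flatMap fun x => C.scale x.2 (C.before i x.1)

/-- The output of a rule on a vector. -/
def outV (R : Rule) (v : List (ℕ × ℕ)) : List (ℕ × ℕ) :=
  R.out.flatMap fun x => C.scale x.1 (C.actV x.2 v)

/-- Check one step, given its number. -/
def stepOK (i : ℕ) : Bool :=
  match C.stepAt i with
  | .rule r v combs res =>
    match C.rules[r]? with
    | none => false
    | some R =>
      (res == C.outV R v) && ((R.out.all fun x => C.hasAct x.2) &&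
        (List.range R.conds.length).all fun k =>
          let c := R.conds.getD k (0, 0)
          C.hasAct c.1 && zeroB C.p (C.actV c.1 v ++ (C.scale ((C.p - 1) * c.2) v ++
            C.combine i (combs.getD k []))))
  | .tr g k res => C.hasAct g && res == C.actV g (C.before i k)

/-- Check the steps up to a given number. -/
def stepsOK (m : ℕ) : Bool := (List.range m).all C.stepOK

/-- The basic tables and the final combination are right. -/
def baseOK : Bool :=
  decide (0 < C.N ∧ 0 < C.p) && (C.helOK C.nH && (C.repsOK C.N &&
    zeroB C.p ((0, 1) :: C.combine C.numSteps C.final)))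

/-- All the checks. -/
def check : Bool := C.baseOK && (C.actOK && C.stepsOK C.numSteps)

/-- Extend the checked range of steps. -/
theorem stepsOK_add {a : ℕ} (h : C.stepsOK a = true) (l : ℕ)
    (h' : (List.range' a l).all C.stepOK = true) : C.stepsOK (a + l) = true := by
  simp only [stepsOK, List.all_eq_true, List.mem_range, List.mem_range'_1] at h h' ⊢
  intro k hk
  by_cases hka : k < a
  · exact h k hka
  · exact h' k ⟨by omega, hk⟩

theorem all_range_succ {m : ℕ} {f : ℕ → Bool} (h : (List.range m).all f = true) (h' : f m = true) :
    (List.range (m + 1)).all f = true := by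
  simp only [List.all_eq_true, List.mem_range] at h ⊢
  intro k hk
  rcases Nat.lt_succ_iff_lt_or_eq.1 hk with hk | rfl
  · exact h k hk
  · exact h'

/-! ### Soundness -/

variable {W : Type*} [AddCommGroup W] [DistribMulAction (alternatingGroup (Fin C.n)) W]

/-- A generator as a group element. -/
noncomputable def gE (g : ℕ) : alternatingGroup (Fin C.n) := elemT C.n (C.gT g)

/-- The rule holds in the module. -/
def RuleHolds (W : Type*) [AddCommGroup W] [DistribMulAction (alternatingGroup (Fin C.n)) W]
    (R : Rule) : Prop :=
  ∀ w : W, (∀ c ∈ R.conds, C.gE c.1 • w = c.2 • w) → (R.out.map fun x => x.1 • (C.gE x.2 • w)).sum = 0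

theorem sound (hgood : ∀ t ∈ C.gens, Good C.n t) (hcheck : C.check = true)
    (hp : ∀ w : W, C.p • w = 0) (u : W) (hu : ∀ c ∈ C.hgens, C.gE c.1 • u = c.2 • u)
    (hrules : ∀ R ∈ C.rules, C.RuleHolds W R) : u = 0 := by
  simp only [check, baseOK, Bool.and_eq_true, decide_eq_true_eq] at hcheck
  obtain ⟨⟨⟨hN, hp0⟩, hhel, hreps, hfinal⟩, hact, hsteps⟩ := hcheck
  have hgT : ∀ g, Good C.n (C.gT g) := by
    intro g
    by_cases hg : g < C.gens.length
    · simp only [gT, List.getD_eq_getElem?_getD, List.getElem?_eq_getElem hg, Option.getD_some]
      exact hgood _ (List.getElem_mem hg)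
    · simp only [gT, List.getD_eq_getElem?_getD]
      rw [List.getElem?_eq_none (by omega)]
      exact good_range _
  -- stabiliser elements
  have hH : ∀ m, C.helOK m = true → ∀ k < m, Good C.n (C.hAt k).2.2.1 ∧
      elemT C.n (C.hAt k).2.2.1 • u = (C.hAt k).2.2.2 • u := by
    intro m
    induction m with
    | zero => intro _ k hk; omega
    | succ m ih =>
      intro hm k hk
      simp only [helOK, Bool.and_eq_true] at hm
      rcases Nat.lt_succ_iff_lt_or_eq.1 hk with hk' | rfl
      · exact ih hm.1 k hk'
      have hm2 := hm.2
      split_ifs at hm2 with h0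
      · simp only [Bool.and_eq_true, beq_iff_eq] at hm2
        rw [hm2.1, elemT_range, one_smul, ← mod_nsmul hp, hm2.2, mod_nsmul hp, one_smul]
        exact ⟨good_range _, rfl⟩
      · simp only [Bool.and_eq_true, decide_eq_true_eq, beq_iff_eq] at hm2
        obtain ⟨hlt, ht, hc⟩ := hm2
        obtain ⟨hq, hqu⟩ := ih hm.1 _ hlt
        set e := C.hAt k
        rw [ht]
        refine ⟨good_compT (hgT _) hq, ?_⟩
        rw [elemT_compT (hgT _) hq, mul_smul, hqu, ← mod_nsmul hp e.2.2.2, hc, mod_nsmul hp,
          smul_comm, mul_comm, mul_smul]
        congr 1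
        by_cases hg : e.1 < C.hgens.length
        · rw [List.getD_eq_getElem?_getD, List.getElem?_eq_getElem hg, Option.getD_some]
          exact hu _ (List.getElem_mem hg)
        · rw [List.getD_eq_getElem?_getD, List.getElem?_eq_none (by omega), Option.getD_none]
          show elemT C.n (C.gT C.gens.length) • u = 1 • u
          rw [gT, List.getD_eq_getElem?_getD, List.getElem?_eq_none le_rfl, Option.getD_none,
            elemT_range, one_smul, one_smul]
  -- representatives
  have hR : ∀ m, C.repsOK m = true → ∀ k < m, Good C.n (C.rT k) := by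
    intro m
    induction m with
    | zero => intro _ k hk; omega
    | succ m ih =>
      intro hm k hk
      simp only [repsOK, Bool.and_eq_true] at hm
      rcases Nat.lt_succ_iff_lt_or_eq.1 hk with hk' | rfl
      · exact ih hm.1 k hk'
      have hm2 := hm.2
      split_ifs at hm2 with h0
      · rw [beq_iff_eq] at hm2
        rw [rT, hm2]; exact good_range _
      · simp only [Bool.and_eq_true, decide_eq_true_eq, beq_iff_eq] at hm2
        rw [rT, hm2.2]
        exact good_compT (hgT _) (ih hm.1 _ hm2.1)
  let f : ℕ → W := fun i => if i < C.N then elemT C.n (C.rT i) • u else 0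
  have hf0 : f 0 = u := by
    have h1 : ∀ m, C.repsOK (m + 1) = true → C.rT 0 = List.range C.n := by
      intro m
      induction m with
      | zero => intro h; simpa [repsOK, rT] using h
      | succ m ih =>
        intro h
        simp only [repsOK, Bool.and_eq_true] at h
        exact ih (by simp only [repsOK, Bool.and_eq_true]; exact h.1)
    obtain ⟨m, hm⟩ : ∃ m, C.N = m + 1 := ⟨C.N - 1, by omega⟩
    simp only [f, if_pos hN, h1 m (hm ▸ hreps), elemT_range, one_smul]
  have hAV : ∀ g, C.hasAct g = true → ∀ v, C.gE g • evV f v = evV f (C.actV g v) := by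
    intro g hg v
    simp only [hasAct, Bool.and_eq_true, decide_eq_true_eq, Bool.not_eq_true'] at hg
    have hg' : C.actOKAt g C.nH C.N = true := by
      have := List.all_eq_true.1 hact g (List.mem_range.2 hg.1)
      rw [actPart] at this
      simp only [hg.2, Bool.false_or] at this
      exact this
    have key : ∀ m, C.actOKAt g C.nH m = true → ∀ i < m, (C.actAt g i).1 < C.N ∧
        (C.actAt g i).2 < C.nH ∧
        compT (C.gT g) (C.rT i) = compT (C.rT (C.actAt g i).1) (C.hAt (C.actAt g i).2).2.2.1 := by
      intro m
      induction m with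
      | zero => intro _ i hi; omega
      | succ m ih =>
        intro hm i hi
        simp only [actOKAt, Bool.and_eq_true, decide_eq_true_eq, beq_iff_eq] at hm
        rcases Nat.lt_succ_iff_lt_or_eq.1 hi with hi' | rfl
        · exact ih hm.1 i hi'
        · exact hm.2
    induction v with
    | nil => simp [evV, actV]
    | cons x v ih =>
      rw [evV_cons, smul_add, ih]
      simp only [actV, List.map_cons, evV_cons]
      congr 1
      split_ifs with hx
      · obtain ⟨hj, hh, he⟩ := key C.N hg' x.1 hx
        obtain ⟨hhg, hhu⟩ := hH C.nH hhel _ hh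
        simp only [f, if_pos hx, if_pos hj]
        rw [smul_comm, ← mul_smul, gE, ← elemT_compT (hgT _) (hR _ hreps _ hx), he,
          elemT_compT (hR _ hreps _ hj) hhg, mul_smul, hhu, mod_nsmul hp, mul_smul]
        rw [smul_comm (elemT C.n (C.rT (C.actAt g x.1).1)) (C.hAt (C.actAt g x.1).2).2.2.2]
      · simp [f, hx]
  have hscale : ∀ c v, evV f (C.scale c v) = c • evV f v := by
    intro c v
    induction v with
    | nil => simp [evV, scale]
    | cons x v ih =>
      simp only [scale, List.map_cons, evV_cons] at ih ⊢
      rw [ih, mod_nsmul hp, mul_smul, smul_add]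
  have hbefore : ∀ i, (∀ k < i, evV f (C.stepAt k).res = 0) → ∀ k, evV f (C.before i k) = 0 := by
    intro i hk k
    unfold before
    split_ifs with h
    · exact hk k h
    · simp [evV]
  have hcomb : ∀ i, (∀ k < i, evV f (C.stepAt k).res = 0) → ∀ cb, evV f (C.combine i cb) = 0 := by
    intro i hk cb
    induction cb with
    | nil => simp [evV, combine]
    | cons x cb ih =>
      simp only [combine, List.flatMap_cons] at ih ⊢
      rw [evV_append, ih, hscale, hbefore i hk, smul_zero, add_zero]
  have main : ∀ m ≤ C.numSteps, ∀ k < m, evV f (C.stepAt k).res = 0 := by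
    intro m
    induction m with
    | zero => intro _ k hk; omega
    | succ m ih =>
      intro hm k hk
      have hknown := ih (by omega)
      rcases Nat.lt_succ_iff_lt_or_eq.1 hk with hk' | rfl
      · exact hknown k hk'
      have hs : C.stepOK k = true := List.all_eq_true.1 hsteps k (List.mem_range.2 (by omega))
      unfold stepOK at hs
      cases hst : C.stepAt k with
      | tr g j res =>
        simp only [hst, Bool.and_eq_true, beq_iff_eq] at hs
        show evV f res = 0
        rw [hs.2, ← hAV g hs.1, hbefore k hknown, smul_zero]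
      | rule r v combs res =>
        simp only [hst] at hs
        split at hs
        · simp at hs
        rename_i R hR'
        simp only [Bool.and_eq_true, beq_iff_eq, List.all_eq_true] at hs
        obtain ⟨hres, hout, hc⟩ := hs
        show evV f res = 0
        have hw : ∀ c ∈ R.conds, C.gE c.1 • evV f v = c.2 • evV f v := by
          intro c hc'
          obtain ⟨j, hj, rfl⟩ := List.getElem_of_mem hc'
          have := hc j (List.mem_range.2 hj)
          rw [List.getD_eq_getElem?_getD, List.getElem?_eq_getElem hj, Option.getD_some] at this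
          have h0 := evV_eq_zero hp f this.2
          rw [evV_append, evV_append, hscale, hcomb k hknown, add_zero, ← hAV _ this.1] at h0
          rw [eq_neg_of_add_eq_zero_left h0]
          refine (eq_neg_of_add_eq_zero_left ?_).symm
          rw [← add_smul]
          rw [show (R.conds[j]).2 + (C.p - 1) * (R.conds[j]).2 = C.p * (R.conds[j]).2 by
            conv_rhs => rw [show C.p = 1 + (C.p - 1) by omega, add_mul, one_mul]]
          rw [mul_comm, mul_smul, hp, smul_zero]
        have h0 := hrules R (List.mem_of_getElem? hR') (evV f v) hw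
        rw [← h0, hres]
        unfold outV
        have hgen : ∀ o : List (ℕ × ℕ), (∀ x ∈ o, C.hasAct x.2 = true) →
            evV f (o.flatMap fun x => C.scale x.1 (C.actV x.2 v))
              = (o.map fun x => x.1 • (C.gE x.2 • evV f v)).sum := by
          intro o
          induction o with
          | nil => intro; simp [evV]
          | cons x o ih2 =>
            intro ho
            simp only [List.flatMap_cons, List.map_cons, List.sum_cons]
            rw [evV_append, hscale, ← hAV _ (ho x (by simp)), ih2 (fun y hy => ho y (by simp [hy]))]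
        exact hgen R.out hout
  have h1 := evV_eq_zero hp f hfinal
  rw [evV_cons, hcomb _ (main _ le_rfl), add_zero, one_smul, hf0] at h1
  exact h1

end Cert

end CfsgLib.AltCentral
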