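import Cfsg.Agent.Lib.AltCentral.Cert

/-!
Certifying that tables are tables of even permutations, by writing them as products of 3-cycles.
-/

set_option autoImplicit false

namespace CfsgLib.AltCentral

open Equiv

/-- Table of the product of two transpositions `(a b)(b c)`. -/
def triT (n : ℕ) (t : ℕ × ℕ × ℕ) : List ℕ :=
  (List.range n).map fun x => if x = t.1 then t.2.1 else if x = t.2.1 then t.2.2 else if x = t.2.2 then t.1 else x

/-- The table is the product of the listed 3-cycles. -/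
def wordOK (n : ℕ) (t : List ℕ) (w : List (ℕ × ℕ × ℕ)) : Bool :=
  (w.all fun x => decide (x.1 < n ∧ x.2.1 < n ∧ x.2.2 < n ∧ x.1 ≠ x.2.1 ∧ x.1 ≠ x.2.2 ∧ x.2.1 ≠ x.2.2))
    && (t == w.foldr (fun x r => compT (triT n x) r) (List.range n))

theorem good_triT {n : ℕ} {x : ℕ × ℕ × ℕ}
    (h : x.1 < n ∧ x.2.1 < n ∧ x.2.2 < n ∧ x.1 ≠ x.2.1 ∧ x.1 ≠ x.2.2 ∧ x.2.1 ≠ x.2.2) :
    Good n (triT n x) := by
  obtain ⟨ha, hb, hc, hab, hac, hbc⟩ := h
  set a : Fin n := ⟨x.1, ha⟩
  set b : Fin n := ⟨x.2.1, hb⟩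
  set c : Fin n := ⟨x.2.2, hc⟩
  have hab' : a ≠ b := by simp [a, b, Fin.ext_iff, hab]
  have hbc' : b ≠ c := by simp [b, c, Fin.ext_iff, hbc]
  refine ⟨⟨swap a b * swap b c, ?_⟩, ?_⟩
  · rw [Perm.mem_alternatingGroup, map_mul, Perm.sign_swap hab', Perm.sign_swap hbc']
    rfl
  · apply List.ext_getElem
    · simp [tab, triT]
    intro i h1 h2
    have hi : i < n := by simpa [tab] using h1
    simp only [tab, triT, List.getElem_ofFn, List.getElem_map, List.getElem_range, Perm.mul_apply,
      swap_apply_def, a, b, c, Fin.ext_iff]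
    split_ifs <;> simp_all <;> omega

theorem good_of_wordOK {n : ℕ} {t : List ℕ} {w : List (ℕ × ℕ × ℕ)} (h : wordOK n t w = true) :
    Good n t := by
  simp only [wordOK, Bool.and_eq_true, List.all_eq_true, decide_eq_true_eq, beq_iff_eq] at h
  rw [h.2]
  have hw := h.1
  clear h
  induction w with
  | nil => exact good_range n
  | cons x w ih =>
    exact good_compT (good_triT (hw x (by simp))) (ih fun y hy => hw y (by simp [hy]))

/-- All generators of a certificate are even permutations. -/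
theorem Cert.gens_good (C : Cert) (ws : List (List (ℕ × ℕ × ℕ))) (hlen : ws.length = C.gens.length)
    (h : ((C.gens.zip ws).all fun x => wordOK C.n x.1 x.2) = true) : ∀ t ∈ C.gens, Good C.n t := by
  intro t ht
  obtain ⟨i, hi, rfl⟩ := List.getElem_of_mem ht
  rw [List.all_eq_true] at h
  have hm : (C.gens[i], ws[i]'(hlen ▸ hi)) ∈ C.gens.zip ws := by
    rw [List.mem_iff_getElem]
    exact ⟨i, by simp [hi, hlen], by simp⟩
  exact good_of_wordOK (h _ hm)

end CfsgLib.AltCentral
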