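import Cfsg.Agent.Lib.AltCentral.CertGood

/-! Certificate data: stage FiveA, degree 10, characteristic 5. -/

set_option autoImplicit false
set_option maxRecDepth 100000

namespace CfsgLib.AltCentral.FiveA

def gens : List (List ℕ) :=
  [[1, 2, 3, 4, 0, 5, 6, 7, 8, 9], [1, 2, 0, 3, 4, 5, 6, 7, 8, 9], [0, 1, 2, 3, 4, 6, 7, 8, 9, 5], [0, 1, 2, 3, 4, 6, 7, 5, 8, 9], [0, 1, 2, 3, 4, 5, 9, 8, 7, 6], [0, 2, 3, 1, 4, 5, 6, 7, 8, 9], [0, 2, 1, 4, 3, 5, 6, 7, 8, 9], [1, 3, 2, 0, 4, 5, 6, 7, 8, 9], [0, 1, 2, 3, 4, 5, 6, 7, 8, 9], [0, 1, 2, 3, 4, 5, 7, 6, 9, 8], [0, 1, 2, 3, 4, 6, 8, 7, 5, 9], [0, 2, 1, 4, 3, 5, 7, 6, 9, 8], [1, 3, 2, 0, 4, 6, 8, 7, 5, 9], [0, 2, 1, 4, 3, 7, 6, 5, 9, 8], [1, 3, 2, 0, 4, 8, 5, 7, 6, 9]]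

def hel : List (List (ℕ × ℕ × List ℕ × ℕ)) :=
  [[(0, 0, [0, 1, 2, 3, 4, 5, 6, 7, 8, 9], 1), (0, 0, [0, 1, 2, 3, 4, 6, 7, 8, 9, 5], 1), (1, 0, [0, 1, 2, 3, 4, 5, 9, 8, 7, 6], 4), (2, 0, [1, 2, 0, 3, 4, 5, 6, 7, 8, 9], 1), (3, 0, [0, 2, 3, 1, 4, 5, 6, 7, 8, 9], 1), (0, 1, [0, 1, 2, 3, 4, 7, 8, 9, 5, 6], 1), (1, 1, [0, 1, 2, 3, 4, 9, 8, 7, 6, 5], 4), (2, 1, [1, 2, 0, 3, 4, 6, 7, 8, 9, 5], 1), (3, 1, [0, 2, 3, 1, 4, 6, 7, 8, 9, 5], 1), (0, 2, [0, 1, 2, 3, 4, 6, 5, 9, 8, 7], 4), (2, 2, [1, 2, 0, 3, 4, 5, 9, 8, 7, 6], 4), (3, 2, [0, 2, 3, 1, 4, 5, 9, 8, 7, 6], 4), (2, 3, [2, 0, 1, 3, 4, 5, 6, 7, 8, 9], 1), (3, 3, [2, 3, 0, 1, 4, 5, 6, 7, 8, 9], 1), (2, 4, [1, 0, 3, 2, 4, 5, 6, 7, 8, 9], 1), (3, 4, [0, 3, 1, 2, 4, 5, 6, 7, 8, 9], 1), (0, 5, [0, 1, 2, 3, 4, 8, 9, 5, 6, 7], 1), (1, 5, [0, 1, 2, 3, 4, 8, 7, 6,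 5, 9], 4), (2, 5, [1, 2, 0, 3, 4, 7, 8, 9, 5, 6], 1), (3, 5, [0, 2, 3, 1, 4, 7, 8, 9, 5, 6], 1), (2, 6, [1, 2, 0, 3, 4, 9, 8, 7, 6, 5], 4), (3, 6, [0, 2, 3, 1, 4, 9, 8, 7, 6, 5], 4), (2, 7, [2, 0, 1, 3, 4, 6, 7, 8, 9, 5], 1), (3, 7, [2, 3, 0, 1, 4, 6, 7, 8, 9, 5], 1), (2, 8, [1, 0, 3, 2, 4, 6, 7, 8, 9, 5], 1), (3, 8, [0, 3, 1, 2, 4, 6, 7, 8, 9, 5], 1), (0, 9, [0, 1, 2, 3, 4, 7, 6, 5, 9, 8], 4), (1, 9, [0, 1, 2, 3, 4, 9, 5, 6, 7, 8], 1), (2, 9, [1, 2, 0, 3, 4, 6, 5, 9, 8, 7], 4), (3, 9, [0, 2, 3, 1, 4, 6, 5, 9, 8, 7], 4), (2, 10, [2, 0, 1, 3, 4, 5, 9, 8, 7, 6], 4), (3, 10, [2, 3, 0, 1, 4, 5, 9, 8, 7, 6], 4)], [(2, 11, [1, 0, 3, 2, 4, 5, 9, 8, 7, 6], 4), (3, 11, [0, 3, 1, 2, 4, 5, 9, 8, 7, 6], 4), (3, 12, [3, 0, 2, 1, 4, 5, 6, 7, 8, 9], 1), (3, 13, [3, 1, 0, 2, 4, 5, 6, 7, 8, 9], 1), (2, 14, [2, 1, 3, 0,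 4, 5, 6, 7, 8, 9], 1), (2, 15, [1, 3, 2, 0, 4, 5, 6, 7, 8, 9], 1), (2, 16, [1, 2, 0, 3, 4, 8, 9, 5, 6, 7], 1), (3, 16, [0, 2, 3, 1, 4, 8, 9, 5, 6, 7], 1), (2, 17, [1, 2, 0, 3, 4, 8, 7, 6, 5, 9], 4), (3, 17, [0, 2, 3, 1, 4, 8, 7, 6, 5, 9], 4), (2, 18, [2, 0, 1, 3, 4, 7, 8, 9, 5, 6], 1), (3, 18, [2, 3, 0, 1, 4, 7, 8, 9, 5, 6], 1), (2, 19, [1, 0, 3, 2, 4, 7, 8, 9, 5, 6], 1), (3, 19, [0, 3, 1, 2, 4, 7, 8, 9, 5, 6], 1), (2, 20, [2, 0, 1, 3, 4, 9, 8, 7, 6, 5], 4), (3, 20, [2, 3, 0, 1, 4, 9, 8, 7, 6, 5], 4), (2, 21, [1, 0, 3, 2, 4, 9, 8, 7, 6, 5], 4), (3, 21, [0, 3, 1, 2, 4, 9, 8, 7, 6, 5], 4), (3, 22, [3, 0, 2, 1, 4, 6, 7, 8, 9, 5], 1), (3, 23, [3, 1, 0, 2, 4, 6, 7, 8, 9, 5], 1), (2, 24, [2, 1, 3, 0, 4, 6, 7, 8, 9, 5], 1), (2, 25, [1, 3, 2, 0, 4, 6, 7, 8, 9, 5], 1), (2, 26, [1, 2, 0, 3, 4, 7, 6, 5, 9, 8], 4),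 (3, 26, [0, 2, 3, 1, 4, 7, 6, 5, 9, 8], 4), (2, 27, [1, 2, 0, 3, 4, 9, 5, 6, 7, 8], 1), (3, 27, [0, 2, 3, 1, 4, 9, 5, 6, 7, 8], 1), (2, 28, [2, 0, 1, 3, 4, 6, 5, 9, 8, 7], 4), (3, 28, [2, 3, 0, 1, 4, 6, 5, 9, 8, 7], 4), (2, 29, [1, 0, 3, 2, 4, 6, 5, 9, 8, 7], 4), (3, 29, [0, 3, 1, 2, 4, 6, 5, 9, 8, 7], 4), (3, 30, [3, 0, 2, 1, 4, 5, 9, 8, 7, 6], 4), (3, 31, [3, 1, 0, 2, 4, 5, 9, 8, 7, 6], 4)], [(2, 32, [2, 1, 3, 0, 4, 5, 9, 8, 7, 6], 4), (2, 33, [1, 3, 2, 0, 4, 5, 9, 8, 7, 6], 4), (2, 35, [3, 2, 1, 0, 4, 5, 6, 7, 8, 9], 1), (2, 38, [2, 0, 1, 3, 4, 8, 9, 5, 6, 7], 1), (3, 38, [2, 3, 0, 1, 4, 8, 9, 5, 6, 7], 1), (2, 39, [1, 0, 3, 2, 4, 8, 9, 5, 6, 7], 1), (3, 39, [0, 3, 1, 2, 4, 8, 9, 5, 6, 7], 1), (2, 40, [2, 0, 1, 3, 4, 8, 7, 6, 5, 9], 4), (3, 40, [2, 3, 0, 1, 4, 8, 7, 6, 5, 9], 4), (2, 41, [1, 0, 3, 2,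 4, 8, 7, 6, 5, 9], 4), (3, 41, [0, 3, 1, 2, 4, 8, 7, 6, 5, 9], 4), (3, 42, [3, 0, 2, 1, 4, 7, 8, 9, 5, 6], 1), (3, 43, [3, 1, 0, 2, 4, 7, 8, 9, 5, 6], 1), (2, 44, [2, 1, 3, 0, 4, 7, 8, 9, 5, 6], 1), (2, 45, [1, 3, 2, 0, 4, 7, 8, 9, 5, 6], 1), (3, 46, [3, 0, 2, 1, 4, 9, 8, 7, 6, 5], 4), (3, 47, [3, 1, 0, 2, 4, 9, 8, 7, 6, 5], 4), (2, 48, [2, 1, 3, 0, 4, 9, 8, 7, 6, 5], 4), (2, 49, [1, 3, 2, 0, 4, 9, 8, 7, 6, 5], 4), (2, 51, [3, 2, 1, 0, 4, 6, 7, 8, 9, 5], 1), (2, 54, [2, 0, 1, 3, 4, 7, 6, 5, 9, 8], 4), (3, 54, [2, 3, 0, 1, 4, 7, 6, 5, 9, 8], 4), (2, 55, [1, 0, 3, 2, 4, 7, 6, 5, 9, 8], 4), (3, 55, [0, 3, 1, 2, 4, 7, 6, 5, 9, 8], 4), (2, 56, [2, 0, 1, 3, 4, 9, 5, 6, 7, 8], 1), (3, 56, [2, 3, 0, 1, 4, 9, 5, 6, 7, 8], 1), (2, 57, [1, 0, 3, 2, 4, 9, 5, 6, 7, 8], 1), (3, 57, [0, 3, 1, 2, 4, 9, 5, 6, 7, 8], 1),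 (3, 58, [3, 0, 2, 1, 4, 6, 5, 9, 8, 7], 4), (3, 59, [3, 1, 0, 2, 4, 6, 5, 9, 8, 7], 4), (2, 60, [2, 1, 3, 0, 4, 6, 5, 9, 8, 7], 4), (2, 61, [1, 3, 2, 0, 4, 6, 5, 9, 8, 7], 4)], [(2, 63, [3, 2, 1, 0, 4, 5, 9, 8, 7, 6], 4), (3, 67, [3, 0, 2, 1, 4, 8, 9, 5, 6, 7], 1), (3, 68, [3, 1, 0, 2, 4, 8, 9, 5, 6, 7], 1), (2, 69, [2, 1, 3, 0, 4, 8, 9, 5, 6, 7], 1), (2, 70, [1, 3, 2, 0, 4, 8, 9, 5, 6, 7], 1), (3, 71, [3, 0, 2, 1, 4, 8, 7, 6, 5, 9], 4), (3, 72, [3, 1, 0, 2, 4, 8, 7, 6, 5, 9], 4), (2, 73, [2, 1, 3, 0, 4, 8, 7, 6, 5, 9], 4), (2, 74, [1, 3, 2, 0, 4, 8, 7, 6, 5, 9], 4), (2, 76, [3, 2, 1, 0, 4, 7, 8, 9, 5, 6], 1), (2, 80, [3, 2, 1, 0, 4, 9, 8, 7, 6, 5], 4), (3, 84, [3, 0, 2, 1, 4, 7, 6, 5, 9, 8], 4), (3, 85, [3, 1, 0, 2, 4, 7, 6, 5, 9, 8], 4), (2, 86, [2, 1, 3, 0, 4, 7, 6, 5, 9, 8], 4), (2, 87, [1, 3, 2, 0,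 4, 7, 6, 5, 9, 8], 4), (3, 88, [3, 0, 2, 1, 4, 9, 5, 6, 7, 8], 1), (3, 89, [3, 1, 0, 2, 4, 9, 5, 6, 7, 8], 1), (2, 90, [2, 1, 3, 0, 4, 9, 5, 6, 7, 8], 1), (2, 91, [1, 3, 2, 0, 4, 9, 5, 6, 7, 8], 1), (2, 93, [3, 2, 1, 0, 4, 6, 5, 9, 8, 7], 4), (2, 98, [3, 2, 1, 0, 4, 8, 9, 5, 6, 7], 1), (2, 102, [3, 2, 1, 0, 4, 8, 7, 6, 5, 9], 4), (2, 108, [3, 2, 1, 0, 4, 7, 6, 5, 9, 8], 4), (2, 112, [3, 2, 1, 0, 4, 9, 5, 6, 7, 8], 1)]]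

def reps : List (List (ℕ × ℕ × List ℕ)) :=
  [[(0, 0, [0, 1, 2, 3, 4, 5, 6, 7, 8, 9]), (0, 0, [1, 2, 3, 4, 0, 5, 6, 7, 8, 9]), (3, 0, [0, 1, 2, 3, 4, 6, 7, 5, 8, 9]), (0, 1, [2, 3, 4, 0, 1, 5, 6, 7, 8, 9]), (3, 1, [1, 2, 3, 4, 0, 6, 7, 5, 8, 9]), (2, 2, [0, 1, 2, 3, 4, 7, 8, 6, 9, 5]), (3, 2, [0, 1, 2, 3, 4, 7, 5, 6, 8, 9]), (0, 3, [3, 4, 0, 1, 2, 5, 6, 7, 8, 9]), (3, 3, [2, 3, 4, 0, 1, 6, 7, 5, 8, 9]), (2, 4, [1, 2, 3, 4, 0, 7, 8, 6, 9, 5]), (3, 4, [1, 2, 3, 4, 0, 7, 5, 6, 8, 9]), (3, 5, [0, 1, 2, 3, 4, 5, 8, 7, 9, 6]), (2, 6, [0, 1, 2, 3, 4, 8, 6, 7, 9, 5]), (0, 7, [4, 0, 1, 2, 3, 5, 6, 7, 8, 9]), (3, 7, [3, 4, 0, 1, 2, 6, 7, 5, 8, 9]), (2, 8, [2, 3, 4, 0, 1, 7, 8, 6, 9, 5]), (3, 8, [2, 3, 4, 0, 1, 7, 5, 6, 8, 9]), (3, 9, [1, 2, 3, 4, 0, 5, 8, 7, 9, 6]), (2, 10, [1, 2, 3, 4, 0, 8, 6, 7, 9, 5]), (3,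 13, [4, 0, 1, 2, 3, 6, 7, 5, 8, 9]), (2, 14, [3, 4, 0, 1, 2, 7, 8, 6, 9, 5]), (3, 14, [3, 4, 0, 1, 2, 7, 5, 6, 8, 9]), (3, 15, [2, 3, 4, 0, 1, 5, 8, 7, 9, 6]), (2, 16, [2, 3, 4, 0, 1, 8, 6, 7, 9, 5]), (2, 19, [4, 0, 1, 2, 3, 7, 8, 6, 9, 5]), (3, 19, [4, 0, 1, 2, 3, 7, 5, 6, 8, 9]), (3, 20, [3, 4, 0, 1, 2, 5, 8, 7, 9, 6]), (2, 21, [3, 4, 0, 1, 2, 8, 6, 7, 9, 5]), (3, 24, [4, 0, 1, 2, 3, 5, 8, 7, 9, 6]), (2, 25, [4, 0, 1, 2, 3, 8, 6, 7, 9, 5])]]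

def act0 : List (List (ℕ × ℕ)) :=
  [[(1, 0), (3, 0), (4, 0), (7, 0), (8, 0), (9, 0), (10, 0), (13, 0), (14, 0), (15, 0), (16, 0), (17, 0), (18, 0), (0, 0), (19, 0), (20, 0), (21, 0), (22, 0), (23, 0), (2, 0), (24, 0), (25, 0), (26, 0), (27, 0), (5, 0), (6, 0), (28, 0), (29, 0), (11, 0), (12, 0)]]

def act1 : List (List (ℕ × ℕ)) :=
  [[(0, 3), (3, 15), (2, 3), (7, 12), (8, 15), (5, 3), (6, 3), (1, 13), (14, 12), (15, 15), (16, 15), (11, 3), (12, 3), (13, 4), (4, 13), (20, 12), (21, 12), (22, 15), (23, 15), (19, 4), (9, 13), (10, 13), (26, 12), (27, 12), (24, 4), (25, 4), (17, 13), (18, 13), (28, 4), (29, 4)]]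

def act2 : List (List (ℕ × ℕ)) :=
  [[(0, 1), (1, 1), (5, 0), (3, 1), (9, 0), (6, 16), (12, 0), (7, 1), (15, 0), (10, 16), (18, 0), (2, 2), (11, 17), (13, 1), (20, 0), (16, 16), (23, 0), (4, 2), (17, 17), (24, 0), (21, 16), (27, 0), (8, 2), (22, 17), (25, 16), (29, 0), (14, 2), (26, 17), (19, 2), (28, 17)]]

def act3 : List (List (ℕ × ℕ)) :=
  [[(2, 0), (4, 0), (6, 0), (8, 0), (10, 0), (11, 0), (0, 0), (14, 0), (16, 0), (17, 0), (1, 0), (12, 9), (5, 9), (19, 0), (21, 0), (22, 0), (3, 0), (18, 9), (9, 9), (25, 0), (26, 0), (7, 0), (23, 9), (15, 9), (28, 0), (13, 0), (27, 9), (20, 9), (29, 9), (24, 9)]]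

def act4 : List (List (ℕ × ℕ)) :=
  []

def act5 : List (List (ℕ × ℕ)) :=
  []

def act6 : List (List (ℕ × ℕ)) :=
  [[(13, 37), (1, 14), (19, 37), (7, 35), (4, 14), (24, 37), (25, 37), (3, 36), (14, 35), (9, 14), (10, 14), (28, 37), (29, 37), (0, 34), (8, 36), (20, 35), (21, 35), (17, 14), (18, 14), (2, 34), (15, 36), (16, 36), (26, 35), (27, 35), (5, 34), (6, 34), (22, 36), (23, 36), (11, 34), (12, 34)]]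

def act7 : List (List (ℕ × ℕ)) :=
  [[(0, 37), (3, 14), (2, 37), (13, 35), (8, 14), (5, 37), (6, 37), (7, 36), (19, 35), (15, 14), (16, 14), (11, 37), (12, 37), (1, 34), (14, 36), (24, 35), (25, 35), (22, 14), (23, 14), (4, 34), (20, 36), (21, 36), (28, 35), (29, 35), (9, 34), (10, 34), (26, 36), (27, 36), (17, 34), (18, 34)]]

def act8 : List (List (ℕ × ℕ)) :=
  [[(0, 0), (1, 0), (2, 0), (3, 0), (4, 0), (5, 0), (6, 0), (7, 0), (8, 0), (9, 0), (10, 0), (11, 0), (12, 0), (13, 0), (14, 0), (15, 0), (16, 0), (17, 0), (18, 0), (19, 0), (20, 0), (21, 0), (22, 0), (23, 0), (24, 0), (25, 0), (26, 0), (27, 0), (28, 0), (29, 0)]]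

def act9 : List (List (ℕ × ℕ)) :=
  [[(2, 26), (4, 26), (0, 26), (8, 26), (1, 26), (11, 6), (6, 26), (14, 26), (3, 26), (17, 6), (10, 26), (5, 6), (12, 17), (19, 26), (7, 26), (22, 6), (16, 26), (9, 6), (18, 17), (13, 26), (26, 6), (21, 26), (15, 6), (23, 17), (28, 6), (25, 26), (20, 6), (27, 17), (24, 6), (29, 17)]]

def act10 : List (List (ℕ × ℕ)) :=
  [[(5, 26), (9, 26), (0, 17), (15, 26), (1, 17), (2, 1), (12, 26), (20, 26), (3, 17), (4, 1), (18, 26), (6, 26), (11, 0), (24, 26), (7, 17), (8, 1), (23, 26), (10, 26), (17, 0), (13, 17), (14, 1), (27, 26), (16, 26), (22, 0), (19, 1), (29, 26), (21, 26), (26, 0), (25, 26), (28, 0)]]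

def act11 : List (List (ℕ × ℕ)) :=
  [[(19, 110), (4, 86), (13, 110), (14, 108), (1, 86), (28, 82), (25, 110), (8, 109), (7, 108), (17, 48), (10, 86), (24, 82), (29, 104), (2, 107), (3, 109), (26, 80), (21, 108), (9, 48), (18, 73), (0, 107), (22, 81), (16, 109), (20, 80), (27, 102), (11, 79), (6, 107), (15, 81), (23, 103), (5, 79), (12, 101)]]

def act12 : List (List (ℕ × ℕ)) :=
  [[(5, 110), (15, 86), (0, 104), (24, 108), (3, 73), (2, 53), (12, 110), (20, 109), (13, 102), (8, 24), (23, 86), (6, 110), (11, 37), (9, 107), (7, 103), (19, 51), (29, 108), (16, 86), (22, 14), (1, 101), (14, 52), (27, 109), (25, 108), (28, 35), (4, 50), (18, 107), (21, 109), (26, 36), (10, 107), (17, 34)]]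

def act13 : List (List (ℕ × ℕ)) :=
  [[(13, 110), (1, 86), (25, 110), (7, 108), (10, 86), (24, 82), (19, 110), (3, 109), (21, 108), (9, 48), (4, 86), (29, 78), (28, 100), (0, 107), (16, 109), (20, 80), (14, 108), (18, 44), (17, 69), (6, 107), (15, 81), (8, 109), (27, 76), (26, 98), (5, 79), (2, 107), (23, 77), (22, 99), (12, 75), (11, 97)]]

def act14 : List (List (ℕ × ℕ)) :=
  [[(2, 104), (8, 73), (5, 114), (19, 102), (15, 90), (0, 110), (11, 110), (14, 103), (24, 112), (3, 86), (22, 86), (12, 37), (6, 110), (4, 101), (20, 113), (13, 108), (28, 108), (23, 14), (16, 86), (9, 111), (7, 109), (26, 109), (29, 35), (25, 108), (1, 107), (17, 107), (27, 36), (21, 109), (18, 34), (10, 107)]]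

def steps0 : List Step :=
  [.rule 0 [(0, 1), (1, 1), (3, 1), (7, 1), (13, 1)] [[], []] [(0, 1), (1, 1), (3, 1), (7, 1), (13, 1)],
   .tr 3 0 [(2, 1), (4, 1), (8, 1), (14, 1), (19, 1)],
   .tr 2 1 [(5, 1), (9, 1), (15, 1), (20, 1), (24, 1)],
   .tr 3 1 [(6, 1), (10, 1), (16, 1), (21, 1), (25, 1)],
   .tr 3 2 [(11, 1), (17, 1), (22, 1), (26, 1), (28, 1)],
   .tr 2 3 [(12, 1), (18, 1), (23, 1), (27, 1), (29, 1)],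
   .rule 2 [(0, 3), (1, 1), (2, 3), (3, 4), (4, 2), (5, 1), (6, 3), (7, 2), (8, 1), (9, 4), (10, 4), (11, 1), (12, 4), (14, 4), (15, 3), (16, 2), (17, 2), (18, 2), (20, 2), (21, 1), (22, 4), (23, 3), (26, 3), (27, 1)] [[(0, 3), (1, 3), (2, 1), (3, 3), (4, 1), (5, 4)], [(0, 1), (1, 2), (2, 4), (3, 4), (4, 2), (5, 2)]] [(0, 3), (1, 1), (2, 3), (3, 4), (4, 2), (5, 1), (6, 3), (7, 2), (8, 1), (9, 4), (10, 4), (11, 1), (12, 4), (14, 4), (15, 3), (16, 2), (17, 2), (18, 2), (20, 2), (21, 1), (22, 4), (23, 3), (26, 3), (27, 1)],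
   .tr 0 6 [(1, 3), (3, 1), (4, 3), (7, 4), (8, 2), (9, 1), (10, 3), (13, 2), (14, 1), (15, 4), (16, 4), (17, 1), (18, 4), (19, 4), (20, 3), (21, 2), (22, 2), (23, 2), (24, 2), (25, 1), (26, 4), (27, 3), (28, 3), (29, 1)],
   .tr 1 6 [(0, 3), (3, 1), (2, 3), (7, 4), (8, 2), (5, 1), (6, 3), (1, 2), (14, 1), (15, 4), (16, 4), (11, 1), (12, 4), (4, 4), (20, 3), (21, 2), (22, 2), (23, 2), (9, 2), (10, 1), (26, 4), (27, 3), (17, 3), (18, 1)],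
   .tr 2 6 [(0, 3), (1, 1), (5, 3), (3, 4), (9, 2), (6, 1), (12, 3), (7, 2), (15, 1), (10, 4), (18, 4), (2, 4), (11, 1), (20, 4), (16, 3), (23, 2), (4, 3), (17, 3), (21, 2), (27, 1), (8, 1), (22, 2), (14, 2), (26, 4)],
   .tr 3 6 [(2, 3), (4, 1), (6, 3), (8, 4), (10, 2), (11, 1), (0, 3), (14, 2), (16, 1), (17, 4), (1, 4), (12, 4), (5, 1), (21, 4), (22, 3), (3, 2), (18, 3), (9, 3), (26, 2), (7, 1), (23, 1), (15, 2), (27, 2), (20, 4)],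
   .tr 1 7 [(3, 3), (7, 1), (8, 3), (1, 4), (14, 2), (15, 1), (16, 3), (13, 2), (4, 1), (20, 4), (21, 4), (22, 1), (23, 4), (19, 4), (9, 3), (10, 2), (26, 2), (27, 2), (24, 2), (25, 1), (17, 4), (18, 3), (28, 3), (29, 1)],
   .tr 3 7 [(4, 3), (8, 1), (10, 3), (14, 4), (16, 2), (17, 1), (1, 3), (19, 2), (21, 1), (22, 4), (3, 4), (18, 4), (9, 1), (25, 4), (26, 3), (7, 2), (23, 3), (15, 3), (28, 2), (13, 1), (27, 1), (20, 2), (29, 2), (24, 4)],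
   .tr 0 8 [(1, 3), (7, 1), (4, 3), (13, 4), (14, 2), (9, 1), (10, 3), (3, 2), (19, 1), (20, 4), (21, 4), (17, 1), (18, 4), (8, 4), (24, 3), (25, 2), (26, 2), (27, 2), (15, 2), (16, 1), (28, 4), (29, 3), (22, 3), (23, 1)],
   .tr 2 8 [(0, 3), (3, 1), (5, 3), (7, 4), (15, 2), (6, 1), (12, 3), (1, 2), (20, 1), (16, 4), (23, 4), (2, 4), (11, 1), (9, 4), (21, 3), (27, 2), (8, 3), (22, 3), (10, 2), (18, 1), (14, 1), (26, 2), (4, 2), (17, 4)],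
   .rule 2 [(0, 2), (1, 2), (3, 3), (4, 4), (5, 1), (7, 3), (8, 2), (9, 3), (14, 4), (15, 1)] [[(0, 3), (1, 1), (2, 3), (3, 1), (4, 2), (5, 3), (6, 4), (7, 2), (8, 2), (9, 3), (10, 2), (11, 2), (12, 3), (13, 4), (14, 2)], [(0, 2), (1, 4), (2, 3)]] [(0, 2), (1, 2), (3, 3), (4, 4), (5, 1), (7, 3), (8, 2), (9, 3), (14, 4), (15, 1)],
   .tr 0 15 [(1, 2), (3, 2), (7, 3), (8, 4), (9, 1), (13, 3), (14, 2), (15, 3), (19, 4), (20, 1)],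
   .tr 1 15 [(0, 2), (3, 2), (7, 3), (8, 4), (5, 1), (1, 3), (14, 2), (15, 3), (4, 4), (20, 1)],
   .tr 2 15 [(0, 2), (1, 2), (3, 3), (9, 4), (6, 1), (7, 3), (15, 2), (10, 3), (20, 4), (16, 1)],
   .tr 3 15 [(2, 2), (4, 2), (8, 3), (10, 4), (11, 1), (14, 3), (16, 2), (17, 3), (21, 4), (22, 1)],
   .tr 1 16 [(3, 2), (7, 2), (1, 3), (14, 4), (15, 1), (13, 3), (4, 2), (20, 3), (19, 4), (9, 1)],
   .tr 3 16 [(4, 2), (8, 2), (14, 3), (16, 4), (17, 1), (19, 3), (21, 2), (22, 3), (25, 4), (26, 1)],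
   .tr 0 17 [(1, 2), (7, 2), (13, 3), (14, 4), (9, 1), (3, 3), (19, 2), (20, 3), (8, 4), (24, 1)],
   .tr 2 17 [(0, 2), (3, 2), (7, 3), (15, 4), (6, 1), (1, 3), (20, 2), (16, 3), (9, 4), (21, 1)],
   .rule 0 [(0, 1)] [[(1, 3), (3, 2), (4, 2), (5, 1), (6, 2), (7, 4), (8, 4), (9, 4), (11, 3), (12, 1), (14, 1), (16, 4), (17, 4), (18, 3), (19, 2), (20, 2), (21, 3), (22, 2), (23, 2)], []] [(0, 1)]]

def data : Cert where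
  n := 10
  p := 5
  N := 30
  gens := gens
  hgens := [(2, 1), (4, 4), (1, 1), (5, 1)]
  hel := hel
  reps := reps
  act := [act0, act1, act2, act3, act4, act5, act6, act7, act8, act9, act10, act11, act12, act13, act14]
  rules := [⟨[(6, 1), (7, 1)], [(1, 8)]⟩, ⟨[(9, 1), (10, 1)], [(1, 8)]⟩, ⟨[(11, 1), (12, 1)], [(1, 8)]⟩, ⟨[(13, 1), (14, 1)], [(1, 8)]⟩]
  steps := [steps0]
  final := [(24, 4)]

theorem gens_good : ∀ t ∈ data.gens, Good data.n t :=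
  data.gens_good [[(0, 1, 2), (2, 3, 4)], [(0, 1, 2)], [(5, 6, 7), (7, 8, 9)], [(5, 6, 7)], [(6, 9, 7), (7, 8, 9)], [(1, 2, 3)], [(1, 2, 3), (2, 3, 4)], [(0, 1, 3)], [], [(6, 7, 8), (7, 8, 9)], [(5, 6, 8)], [(1, 2, 3), (2, 3, 4), (6, 7, 8), (7, 8, 9)], [(0, 1, 3), (5, 6, 8)], [(1, 2, 3), (2, 3, 4), (5, 7, 8), (7, 8, 9)], [(0, 1, 3), (5, 8, 6)]] rfl (by decide +kernel)

theorem base : data.baseOK = true := by decide +kernel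

theorem actP0 : (List.range 0).all data.actPart = true := rfl

theorem actP1 : (List.range 1).all data.actPart = true :=
  Cert.all_range_succ actP0 (by decide +kernel)

theorem actP2 : (List.range 2).all data.actPart = true :=
  Cert.all_range_succ actP1 (by decide +kernel)

theorem actP3 : (List.range 3).all data.actPart = true :=
  Cert.all_range_succ actP2 (by decide +kernel)

theorem actP4 : (List.range 4).all data.actPart = true :=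
  Cert.all_range_succ actP3 (by decide +kernel)

theorem actP5 : (List.range 5).all data.actPart = true :=
  Cert.all_range_succ actP4 (by decide +kernel)

theorem actP6 : (List.range 6).all data.actPart = true :=
  Cert.all_range_succ actP5 (by decide +kernel)

theorem actP7 : (List.range 7).all data.actPart = true :=
  Cert.all_range_succ actP6 (by decide +kernel)

theorem actP8 : (List.range 8).all data.actPart = true :=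
  Cert.all_range_succ actP7 (by decide +kernel)

theorem actP9 : (List.range 9).all data.actPart = true :=
  Cert.all_range_succ actP8 (by decide +kernel)

theorem actP10 : (List.range 10).all data.actPart = true :=
  Cert.all_range_succ actP9 (by decide +kernel)

theorem actP11 : (List.range 11).all data.actPart = true :=
  Cert.all_range_succ actP10 (by decide +kernel)

theorem actP12 : (List.range 12).all data.actPart = true :=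
  Cert.all_range_succ actP11 (by decide +kernel)

theorem actP13 : (List.range 13).all data.actPart = true :=
  Cert.all_range_succ actP12 (by decide +kernel)

theorem actP14 : (List.range 14).all data.actPart = true :=
  Cert.all_range_succ actP13 (by decide +kernel)

theorem actP15 : (List.range 15).all data.actPart = true :=
  Cert.all_range_succ actP14 (by decide +kernel)

theorem stp0 : data.stepsOK 0 = true := rfl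

theorem stp1 : data.stepsOK 25 = true :=
  data.stepsOK_add stp0 25 (by decide +kernel)

theorem numSteps_eq : data.numSteps = 25 := by decide +kernel

theorem check : data.check = true := by
  simp only [Cert.check, Bool.and_eq_true]
  exact ⟨base, actP15, numSteps_eq ▸ stp1⟩

end CfsgLib.AltCentral.FiveA
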