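import Cfsg.Agent.Lib.AltCentral.CertGood

/-! Certificate data: stage FiveB, degree 10, characteristic 5. -/

set_option autoImplicit false
set_option maxRecDepth 100000

namespace CfsgLib.AltCentral.FiveB

def gens : List (List ℕ) :=
  [[1, 2, 3, 4, 0, 5, 6, 7, 8, 9], [1, 2, 0, 3, 4, 5, 6, 7, 8, 9], [0, 1, 2, 3, 4, 6, 7, 8, 9, 5], [0, 1, 2, 3, 4, 6, 7, 5, 8, 9], [0, 1, 2, 3, 4, 5, 9, 8, 7, 6], [1, 0, 3, 2, 4, 5, 6, 7, 8, 9], [2, 3, 0, 1, 4, 5, 6, 7, 8, 9], [0, 2, 1, 4, 3, 5, 6, 7, 8, 9], [1, 3, 2, 0, 4, 5, 6, 7, 8, 9], [0, 1, 2, 3, 4, 5, 6, 7, 8, 9], [0, 1, 2, 3, 4, 5, 7, 6, 9, 8], [0, 1, 2, 3, 4, 6, 8, 7, 5, 9], [0, 2, 1, 4, 3, 5, 7, 6, 9, 8], [1, 3, 2, 0, 4, 6, 8, 7, 5, 9], [0, 2, 1, 4, 3, 7, 6, 5, 9, 8], [1, 3, 2, 0, 4, 8, 5, 7, 6, 9], [0, 2, 3, 1, 4, 5, 6, 7, 8, 9]]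

def hel : List (List (ℕ × ℕ × List ℕ × ℕ)) :=
  [[(0, 0, [0, 1, 2, 3, 4, 5, 6, 7, 8, 9], 1), (0, 0, [0, 1, 2, 3, 4, 6, 7, 8, 9, 5], 1), (1, 0, [0, 1, 2, 3, 4, 5, 9, 8, 7, 6], 1), (2, 0, [1, 0, 3, 2, 4, 5, 6, 7, 8, 9], 1), (3, 0, [2, 3, 0, 1, 4, 5, 6, 7, 8, 9], 1), (0, 1, [0, 1, 2, 3, 4, 7, 8, 9, 5, 6], 1), (1, 1, [0, 1, 2, 3, 4, 9, 8, 7, 6, 5], 1), (2, 1, [1, 0, 3, 2, 4, 6, 7, 8, 9, 5], 1), (3, 1, [2, 3, 0, 1, 4, 6, 7, 8, 9, 5], 1), (0, 2, [0, 1, 2, 3, 4, 6, 5, 9, 8, 7], 1), (2, 2, [1, 0, 3, 2, 4, 5, 9, 8, 7, 6], 1), (3, 2, [2, 3, 0, 1, 4, 5, 9, 8, 7, 6], 1), (3, 3, [3, 2, 1, 0, 4, 5, 6, 7, 8, 9], 1), (0, 5, [0, 1, 2, 3, 4, 8, 9, 5, 6, 7], 1), (1, 5, [0, 1, 2, 3, 4, 8, 7, 6, 5, 9], 1), (2, 5, [1, 0, 3, 2, 4, 7, 8, 9, 5, 6], 1), (3, 5, [2, 3, 0, 1, 4, 7, 8, 9, 5, 6], 1), (2, 6, [1, 0, 3, 2, 4, 9, 8, 7, 6, 5], 1), (3, 6, [2, 3, 0, 1, 4, 9, 8, 7, 6, 5], 1),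 (3, 7, [3, 2, 1, 0, 4, 6, 7, 8, 9, 5], 1), (0, 9, [0, 1, 2, 3, 4, 7, 6, 5, 9, 8], 1), (1, 9, [0, 1, 2, 3, 4, 9, 5, 6, 7, 8], 1), (2, 9, [1, 0, 3, 2, 4, 6, 5, 9, 8, 7], 1), (3, 9, [2, 3, 0, 1, 4, 6, 5, 9, 8, 7], 1), (3, 10, [3, 2, 1, 0, 4, 5, 9, 8, 7, 6], 1), (2, 13, [1, 0, 3, 2, 4, 8, 9, 5, 6, 7], 1), (3, 13, [2, 3, 0, 1, 4, 8, 9, 5, 6, 7], 1), (2, 14, [1, 0, 3, 2, 4, 8, 7, 6, 5, 9], 1), (3, 14, [2, 3, 0, 1, 4, 8, 7, 6, 5, 9], 1), (3, 15, [3, 2, 1, 0, 4, 7, 8, 9, 5, 6], 1), (3, 17, [3, 2, 1, 0, 4, 9, 8, 7, 6, 5], 1), (2, 20, [1, 0, 3, 2, 4, 7, 6, 5, 9, 8], 1)], [(3, 20, [2, 3, 0, 1, 4, 7, 6, 5, 9, 8], 1), (2, 21, [1, 0, 3, 2, 4, 9, 5, 6, 7, 8], 1), (3, 21, [2, 3, 0, 1, 4, 9, 5, 6, 7, 8], 1), (3, 22, [3, 2, 1, 0, 4, 6, 5, 9, 8, 7], 1), (3, 25, [3, 2, 1, 0, 4, 8, 9, 5, 6, 7], 1), (3, 27, [3, 2, 1, 0, 4, 8, 7, 6, 5, 9], 1), (3, 31, [3, 2, 1, 0, 4, 7, 6, 5, 9,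 8], 1), (3, 33, [3, 2, 1, 0, 4, 9, 5, 6, 7, 8], 1)]]

def reps : List (List (ℕ × ℕ × List ℕ)) :=
  [[(0, 0, [0, 1, 2, 3, 4, 5, 6, 7, 8, 9]), (0, 0, [1, 2, 3, 4, 0, 5, 6, 7, 8, 9]), (1, 0, [1, 2, 0, 3, 4, 5, 6, 7, 8, 9]), (3, 0, [0, 1, 2, 3, 4, 6, 7, 5, 8, 9]), (0, 1, [2, 3, 4, 0, 1, 5, 6, 7, 8, 9]), (1, 1, [2, 0, 3, 4, 1, 5, 6, 7, 8, 9]), (3, 1, [1, 2, 3, 4, 0, 6, 7, 5, 8, 9]), (0, 2, [2, 3, 1, 4, 0, 5, 6, 7, 8, 9]), (1, 2, [2, 0, 1, 3, 4, 5, 6, 7, 8, 9]), (3, 2, [1, 2, 0, 3, 4, 6, 7, 5, 8, 9]), (2, 3, [0, 1, 2, 3, 4, 7, 8, 6, 9, 5]), (3, 3, [0, 1, 2, 3, 4, 7, 5, 6, 8, 9]), (0, 4, [3, 4, 0, 1, 2, 5, 6, 7, 8, 9]), (1, 4, [0, 3, 4, 1, 2, 5, 6, 7, 8, 9]), (3, 4, [2, 3, 4, 0, 1, 6, 7, 5, 8, 9]), (0, 5, [3, 1, 4, 0, 2, 5, 6, 7, 8, 9]), (3, 5, [2, 0, 3, 4, 1, 6, 7, 5, 8, 9]), (2, 6, [1, 2, 3, 4, 0, 7, 8, 6, 9, 5]), (3, 6, [1, 2, 3, 4, 0, 7, 5, 6, 8, 9]), (1, 7,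 [0, 3, 2, 4, 1, 5, 6, 7, 8, 9]), (3, 7, [2, 3, 1, 4, 0, 6, 7, 5, 8, 9]), (0, 8, [3, 1, 2, 4, 0, 5, 6, 7, 8, 9]), (3, 8, [2, 0, 1, 3, 4, 6, 7, 5, 8, 9]), (2, 9, [1, 2, 0, 3, 4, 7, 8, 6, 9, 5]), (3, 9, [1, 2, 0, 3, 4, 7, 5, 6, 8, 9]), (3, 10, [0, 1, 2, 3, 4, 5, 8, 7, 9, 6]), (2, 11, [0, 1, 2, 3, 4, 8, 6, 7, 9, 5]), (0, 12, [4, 0, 1, 2, 3, 5, 6, 7, 8, 9]), (3, 12, [3, 4, 0, 1, 2, 6, 7, 5, 8, 9]), (0, 13, [1, 4, 0, 2, 3, 5, 6, 7, 8, 9]), (3, 13, [0, 3, 4, 1, 2, 6, 7, 5, 8, 9]), (2, 14, [2, 3, 4, 0, 1, 7, 8, 6, 9, 5])], [(3, 14, [2, 3, 4, 0, 1, 7, 5, 6, 8, 9]), (0, 15, [4, 2, 0, 1, 3, 5, 6, 7, 8, 9]), (3, 15, [3, 1, 4, 0, 2, 6, 7, 5, 8, 9]), (2, 16, [2, 0, 3, 4, 1, 7, 8, 6, 9, 5]), (3, 16, [2, 0, 3, 4, 1, 7, 5, 6, 8, 9]), (3, 17, [1, 2, 3, 4, 0, 5, 8, 7, 9, 6]), (2, 18, [1, 2, 3, 4, 0, 8, 6, 7, 9, 5]), (3, 19, [0, 3, 2, 4, 1, 6, 7, 5, 8, 9]), (2, 20, [2, 3, 1,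 4, 0, 7, 8, 6, 9, 5]), (3, 20, [2, 3, 1, 4, 0, 7, 5, 6, 8, 9]), (3, 21, [3, 1, 2, 4, 0, 6, 7, 5, 8, 9]), (2, 22, [2, 0, 1, 3, 4, 7, 8, 6, 9, 5]), (3, 22, [2, 0, 1, 3, 4, 7, 5, 6, 8, 9]), (3, 23, [1, 2, 0, 3, 4, 5, 8, 7, 9, 6]), (2, 24, [1, 2, 0, 3, 4, 8, 6, 7, 9, 5]), (3, 27, [4, 0, 1, 2, 3, 6, 7, 5, 8, 9]), (2, 28, [3, 4, 0, 1, 2, 7, 8, 6, 9, 5]), (3, 28, [3, 4, 0, 1, 2, 7, 5, 6, 8, 9]), (3, 29, [1, 4, 0, 2, 3, 6, 7, 5, 8, 9]), (2, 30, [0, 3, 4, 1, 2, 7, 8, 6, 9, 5]), (3, 30, [0, 3, 4, 1, 2, 7, 5, 6, 8, 9]), (3, 31, [2, 3, 4, 0, 1, 5, 8, 7, 9, 6]), (2, 32, [2, 3, 4, 0, 1, 8, 6, 7, 9, 5]), (3, 33, [4, 2, 0, 1, 3, 6, 7, 5, 8, 9]), (2, 34, [3, 1, 4, 0, 2, 7, 8, 6, 9, 5]), (3, 34, [3, 1, 4, 0, 2, 7, 5, 6, 8, 9]), (3, 35, [2, 0, 3, 4, 1, 5, 8, 7, 9, 6]), (2, 36, [2, 0, 3, 4, 1, 8, 6, 7, 9, 5]), (2, 39, [0, 3, 2, 4, 1, 7, 8, 6, 9, 5]), (3, 39, [0, 3, 2, 4, 1, 7,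 5, 6, 8, 9]), (3, 40, [2, 3, 1, 4, 0, 5, 8, 7, 9, 6]), (2, 41, [2, 3, 1, 4, 0, 8, 6, 7, 9, 5])], [(2, 42, [3, 1, 2, 4, 0, 7, 8, 6, 9, 5]), (3, 42, [3, 1, 2, 4, 0, 7, 5, 6, 8, 9]), (3, 43, [2, 0, 1, 3, 4, 5, 8, 7, 9, 6]), (2, 44, [2, 0, 1, 3, 4, 8, 6, 7, 9, 5]), (2, 47, [4, 0, 1, 2, 3, 7, 8, 6, 9, 5]), (3, 47, [4, 0, 1, 2, 3, 7, 5, 6, 8, 9]), (3, 48, [3, 4, 0, 1, 2, 5, 8, 7, 9, 6]), (2, 49, [3, 4, 0, 1, 2, 8, 6, 7, 9, 5]), (2, 50, [1, 4, 0, 2, 3, 7, 8, 6, 9, 5]), (3, 50, [1, 4, 0, 2, 3, 7, 5, 6, 8, 9]), (3, 51, [0, 3, 4, 1, 2, 5, 8, 7, 9, 6]), (2, 52, [0, 3, 4, 1, 2, 8, 6, 7, 9, 5]), (2, 55, [4, 2, 0, 1, 3, 7, 8, 6, 9, 5]), (3, 55, [4, 2, 0, 1, 3, 7, 5, 6, 8, 9]), (3, 56, [3, 1, 4, 0, 2, 5, 8, 7, 9, 6]), (2, 57, [3, 1, 4, 0, 2, 8, 6, 7, 9, 5]), (3, 60, [0, 3, 2, 4, 1, 5, 8, 7, 9, 6]), (2, 61, [0, 3, 2, 4, 1, 8, 6, 7, 9, 5]), (3, 64, [3, 1, 2, 4, 0, 5, 8, 7,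 9, 6]), (2, 65, [3, 1, 2, 4, 0, 8, 6, 7, 9, 5]), (3, 68, [4, 0, 1, 2, 3, 5, 8, 7, 9, 6]), (2, 69, [4, 0, 1, 2, 3, 8, 6, 7, 9, 5]), (3, 72, [1, 4, 0, 2, 3, 5, 8, 7, 9, 6]), (2, 73, [1, 4, 0, 2, 3, 8, 6, 7, 9, 5]), (3, 76, [4, 2, 0, 1, 3, 5, 8, 7, 9, 6]), (2, 77, [4, 2, 0, 1, 3, 8, 6, 7, 9, 5])]]

def act0 : List (List (ℕ × ℕ)) :=
  [[(1, 0), (4, 0), (7, 0), (6, 0), (12, 0), (15, 0), (14, 0), (5, 4), (21, 0), (20, 0), (17, 0), (18, 0), (27, 0), (29, 0), (28, 0), (33, 0), (34, 0), (31, 0), (32, 0), (13, 12), (16, 4), (19, 12), (42, 0), (40, 0), (41, 0), (37, 0), (38, 0), (0, 0), (47, 0), (8, 0), (50, 0), (48, 0)], [(49, 0), (2, 4), (55, 0), (56, 0), (57, 0), (53, 0), (54, 0), (30, 12), (35, 4), (36, 4), (39, 12), (64, 0), (65, 0), (62, 0), (63, 0), (3, 0), (68, 0), (69, 0), (22, 0), (72, 0), (73, 0), (70, 0), (71, 0), (9, 4), (76, 0), (77, 0), (78, 0), (79, 0),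 (51, 12), (52, 12), (58, 4), (59, 4)], [(60, 12), (61, 12), (82, 0), (83, 0), (10, 0), (11, 0), (84, 0), (85, 0), (43, 0), (44, 0), (86, 0), (87, 0), (23, 4), (24, 4), (88, 0), (89, 0), (74, 12), (75, 12), (80, 12), (81, 12), (25, 0), (26, 0), (66, 0), (67, 0), (45, 4), (46, 4)]]

def act1 : List (List (ℕ × ℕ)) :=
  [[(2, 0), (5, 0), (8, 0), (9, 0), (13, 0), (12, 4), (16, 0), (19, 0), (0, 0), (22, 0), (23, 0), (24, 0), (1, 4), (21, 3), (30, 0), (7, 3), (28, 4), (35, 0), (36, 0), (15, 3), (39, 0), (4, 3), (3, 0), (43, 0), (44, 0), (45, 0), (46, 0), (29, 3), (6, 4), (33, 3), (42, 3), (51, 0)], [(52, 0), (27, 0), (20, 3), (48, 4), (49, 4), (58, 0), (59, 0), (34, 3), (60, 0), (61, 0), (14, 3), (10, 0), (11, 0), (66, 0), (67, 0), (50, 3), (17, 4), (18, 4), (55, 3), (64, 3), (65, 3), (74, 0), (75, 0), (47, 0), (40, 3), (41, 3), (70, 4), (71, 4), (56, 3), (57, 3),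 (80, 0), (81, 0)], [(31, 3), (32, 3), (25, 0), (26, 0), (72, 3), (73, 3), (37, 4), (38, 4), (76, 3), (77, 3), (82, 3), (83, 3), (68, 0), (69, 0), (62, 3), (63, 3), (78, 3), (79, 3), (53, 3), (54, 3), (86, 3), (87, 3), (88, 3), (89, 3), (84, 0), (85, 0)]]

def act2 : List (List (ℕ × ℕ)) :=
  [[(0, 1), (1, 1), (2, 1), (10, 0), (4, 1), (5, 1), (17, 0), (7, 1), (8, 1), (23, 0), (11, 13), (26, 0), (12, 1), (13, 1), (31, 0), (15, 1), (35, 0), (18, 13), (38, 0), (19, 1), (40, 0), (21, 1), (43, 0), (24, 13), (46, 0), (3, 2), (25, 14), (27, 1), (48, 0), (29, 1), (51, 0), (32, 13)], [(54, 0), (33, 1), (56, 0), (36, 13), (59, 0), (6, 2), (37, 14), (60, 0), (41, 13), (63, 0), (64, 0), (44, 13), (67, 0), (9, 2), (45, 14), (68, 0), (49, 13), (71, 0), (72, 0), (52, 13), (75, 0), (14, 2), (53, 14), (76, 0), (57, 13), (79, 0), (16, 2), (58, 14), (61, 13), (81, 0), (20, 2),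 (62, 14)], [(65, 13), (83, 0), (22, 2), (66, 14), (69, 13), (85, 0), (28, 2), (70, 14), (73, 13), (87, 0), (30, 2), (74, 14), (77, 13), (89, 0), (34, 2), (78, 14), (39, 2), (80, 14), (42, 2), (82, 14), (47, 2), (84, 14), (50, 2), (86, 14), (55, 2), (88, 14)]]

def act3 : List (List (ℕ × ℕ)) :=
  [[(3, 0), (6, 0), (9, 0), (11, 0), (14, 0), (16, 0), (18, 0), (20, 0), (22, 0), (24, 0), (25, 0), (0, 0), (28, 0), (30, 0), (32, 0), (34, 0), (36, 0), (37, 0), (1, 0), (39, 0), (41, 0), (42, 0), (44, 0), (45, 0), (2, 0), (26, 9), (10, 9), (47, 0), (49, 0), (50, 0), (52, 0), (53, 0)], [(4, 0), (55, 0), (57, 0), (58, 0), (5, 0), (38, 9), (17, 9), (61, 0), (62, 0), (7, 0), (65, 0), (66, 0), (8, 0), (46, 9), (23, 9), (69, 0), (70, 0), (12, 0), (73, 0), (74, 0), (13, 0), (54, 9), (31, 9), (77, 0), (78, 0), (15, 0), (59, 9), (35, 9), (80, 0), (19, 0), (63, 9), (40, 9)],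 [(82, 0), (21, 0), (67, 9), (43, 9), (84, 0), (27, 0), (71, 9), (48, 9), (86, 0), (29, 0), (75, 9), (51, 9), (88, 0), (33, 0), (79, 9), (56, 9), (81, 9), (60, 9), (83, 9), (64, 9), (85, 9), (68, 9), (87, 9), (72, 9), (89, 9), (76, 9)]]

def act4 : List (List (ℕ × ℕ)) :=
  []

def act5 : List (List (ℕ × ℕ)) :=
  []

def act6 : List (List (ℕ × ℕ)) :=
  []

def act7 : List (List (ℕ × ℕ)) :=
  [[(29, 4), (1, 3), (27, 12), (50, 4), (13, 12), (12, 12), (6, 3), (7, 4), (33, 12), (47, 12), (72, 4), (73, 4), (5, 12), (4, 12), (30, 12), (19, 12), (28, 12), (17, 3), (18, 3), (15, 12), (20, 4), (21, 12), (55, 12), (68, 12), (69, 12), (86, 4), (87, 4), (2, 12), (16, 12), (0, 4), (14, 12), (51, 12)], [(52, 12), (8, 12), (39, 12), (48, 12), (49, 12), (37, 3), (38, 3), (34, 12), (40, 4), (41, 4), (42, 12), (76, 12), (77, 12), (84, 12), (85, 12), (9, 12), (35, 12), (36, 12),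 (3, 4), (31, 12), (32, 12), (74, 12), (75, 12), (22, 12), (60, 12), (61, 12), (70, 12), (71, 12), (56, 12), (57, 12), (62, 4), (63, 4)], [(64, 12), (65, 12), (88, 12), (89, 12), (23, 12), (24, 12), (58, 12), (59, 12), (10, 4), (11, 4), (53, 12), (54, 12), (43, 12), (44, 12), (80, 12), (81, 12), (78, 12), (79, 12), (82, 12), (83, 12), (45, 12), (46, 12), (25, 4), (26, 4), (66, 12), (67, 12)]]

def act8 : List (List (ℕ × ℕ)) :=
  [[(8, 4), (4, 3), (0, 12), (22, 4), (29, 12), (27, 12), (14, 3), (5, 0), (2, 3), (3, 12), (43, 4), (44, 4), (15, 12), (12, 12), (50, 12), (13, 0), (47, 12), (31, 3), (32, 3), (33, 12), (16, 0), (19, 0), (9, 3), (10, 12), (11, 12), (66, 4), (67, 4), (7, 12), (34, 12), (1, 4), (28, 12), (72, 12)], [(73, 12), (21, 12), (30, 0), (68, 12), (69, 12), (53, 3), (54, 3), (55, 12), (35, 0), (36, 0), (39, 0), (23, 3), (24, 3), (25, 12), (26, 12),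 (20, 12), (56, 12), (57, 12), (6, 4), (48, 12), (49, 12), (86, 12), (87, 12), (42, 12), (51, 0), (52, 0), (84, 12), (85, 12), (76, 12), (77, 12), (58, 0), (59, 0)], [(60, 0), (61, 0), (45, 3), (46, 3), (40, 12), (41, 12), (78, 12), (79, 12), (17, 4), (18, 4), (70, 12), (71, 12), (64, 12), (65, 12), (74, 0), (75, 0), (88, 12), (89, 12), (80, 0), (81, 0), (62, 12), (63, 12), (37, 4), (38, 4), (82, 12), (83, 12)]]

def act9 : List (List (ℕ × ℕ)) :=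
  [[(0, 0), (1, 0), (2, 0), (3, 0), (4, 0), (5, 0), (6, 0), (7, 0), (8, 0), (9, 0), (10, 0), (11, 0), (12, 0), (13, 0), (14, 0), (15, 0), (16, 0), (17, 0), (18, 0), (19, 0), (20, 0), (21, 0), (22, 0), (23, 0), (24, 0), (25, 0), (26, 0), (27, 0), (28, 0), (29, 0), (30, 0), (31, 0)], [(32, 0), (33, 0), (34, 0), (35, 0), (36, 0), (37, 0), (38, 0), (39, 0), (40, 0), (41, 0), (42, 0), (43, 0), (44, 0), (45, 0), (46, 0), (47, 0), (48, 0), (49, 0), (50, 0), (51, 0), (52, 0), (53, 0), (54, 0), (55, 0), (56, 0), (57, 0), (58, 0), (59, 0), (60, 0), (61, 0), (62, 0), (63, 0)], [(64, 0), (65, 0), (66, 0), (67, 0), (68, 0), (69, 0), (70, 0), (71, 0), (72, 0), (73, 0), (74, 0), (75, 0), (76, 0), (77, 0), (78, 0), (79, 0), (80, 0), (81, 0), (82, 0), (83, 0), (84, 0), (85, 0), (86, 0), (87, 0), (88, 0), (89, 0)]]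

def act10 : List (List (ℕ × ℕ)) :=
  [[(3, 20), (6, 20), (9, 20), (0, 20), (14, 20), (16, 20), (1, 20), (20, 20), (22, 20), (2, 20), (25, 6), (11, 20), (28, 20), (30, 20), (4, 20), (34, 20), (5, 20), (37, 6), (18, 20), (39, 20), (7, 20), (42, 20), (8, 20), (45, 6), (24, 20), (10, 6), (26, 14), (47, 20), (12, 20), (50, 20), (13, 20), (53, 6)], [(32, 20), (55, 20), (15, 20), (58, 6), (36, 20), (17, 6), (38, 14), (19, 20), (62, 6), (41, 20), (21, 20), (66, 6), (44, 20), (23, 6), (46, 14), (27, 20), (70, 6), (49, 20), (29, 20), (74, 6), (52, 20), (31, 6), (54, 14), (33, 20), (78, 6), (57, 20), (35, 6), (59, 14), (80, 6), (61, 20), (40, 6), (63, 14)], [(82, 6), (65, 20), (43, 6), (67, 14), (84, 6), (69, 20), (48, 6), (71, 14), (86, 6), (73, 20), (51, 6), (75, 14), (88, 6), (77, 20), (56, 6), (79, 14), (60, 6), (81, 14), (64, 6), (83, 14), (68, 6), (85, 14), (72,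 6), (87, 14), (76, 6), (89, 14)]]

def act11 : List (List (ℕ × ℕ)) :=
  [[(10, 20), (17, 20), (23, 20), (0, 14), (31, 20), (35, 20), (1, 14), (40, 20), (43, 20), (2, 14), (3, 1), (26, 20), (48, 20), (51, 20), (4, 14), (56, 20), (5, 14), (6, 1), (38, 20), (60, 20), (7, 14), (64, 20), (8, 14), (9, 1), (46, 20), (11, 20), (25, 0), (68, 20), (12, 14), (72, 20), (13, 14), (14, 1)], [(54, 20), (76, 20), (15, 14), (16, 1), (59, 20), (18, 20), (37, 0), (19, 14), (20, 1), (63, 20), (21, 14), (22, 1), (67, 20), (24, 20), (45, 0), (27, 14), (28, 1), (71, 20), (29, 14), (30, 1), (75, 20), (32, 20), (53, 0), (33, 14), (34, 1), (79, 20), (36, 20), (58, 0), (39, 1), (81, 20), (41, 20), (62, 0)], [(42, 1), (83, 20), (44, 20), (66, 0), (47, 1), (85, 20), (49, 20), (70, 0), (50, 1), (87, 20), (52, 20), (74, 0), (55, 1), (89, 20), (57, 20), (78, 0), (61, 20), (80, 0), (65, 20),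 (82, 0), (69, 20), (84, 0), (73, 20), (86, 0), (77, 20), (88, 0)]]

def act12 : List (List (ℕ × ℕ)) :=
  [[(50, 32), (6, 31), (47, 38), (29, 32), (30, 38), (28, 38), (1, 31), (20, 32), (55, 38), (27, 38), (86, 18), (73, 32), (16, 38), (14, 38), (13, 38), (39, 38), (12, 38), (37, 17), (18, 31), (34, 38), (7, 32), (42, 38), (33, 38), (84, 30), (69, 38), (72, 18), (87, 28), (9, 38), (5, 38), (3, 32), (4, 38), (74, 30)], [(52, 38), (22, 38), (19, 38), (70, 30), (49, 38), (17, 17), (38, 27), (15, 38), (62, 18), (41, 32), (21, 38), (88, 30), (77, 38), (68, 30), (85, 37), (2, 38), (58, 30), (36, 38), (0, 32), (53, 30), (32, 38), (51, 30), (75, 37), (8, 38), (80, 30), (61, 38), (48, 30), (71, 37), (78, 30), (57, 38), (40, 18), (63, 28)], [(82, 30), (65, 38), (76, 30), (89, 37), (45, 30), (24, 38), (35, 30), (59, 37), (25, 18), (11, 32), (31, 30), (54, 37), (66, 30),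 (44, 38), (60, 30), (81, 37), (56, 30), (79, 37), (64, 30), (83, 37), (23, 30), (46, 37), (10, 18), (26, 28), (43, 30), (67, 37)]]

def act13 : List (List (ℕ × ℕ)) :=
  [[(43, 32), (31, 31), (10, 38), (8, 28), (72, 38), (68, 38), (4, 27), (35, 20), (23, 31), (0, 37), (22, 8), (67, 32), (56, 38), (48, 38), (29, 37), (51, 20), (27, 37), (14, 7), (54, 31), (76, 38), (5, 14), (60, 20), (2, 27), (3, 19), (26, 38), (44, 32), (66, 4), (40, 38), (15, 37), (17, 32), (12, 37), (50, 19)], [(87, 38), (64, 38), (13, 14), (47, 19), (85, 38), (32, 31), (53, 3), (33, 37), (16, 1), (59, 20), (19, 14), (9, 7), (46, 31), (11, 38), (25, 12), (7, 37), (34, 19), (79, 38), (1, 28), (28, 19), (71, 38), (73, 38), (86, 12), (21, 37), (30, 1), (75, 20), (69, 38), (84, 12), (55, 19), (89, 38), (36, 20), (58, 0)], [(39, 1), (81, 20), (24, 31), (45, 3), (20, 19), (63, 38), (57, 38), (78,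 12), (6, 8), (38, 32), (49, 38), (70, 12), (42, 19), (83, 38), (52, 20), (74, 0), (77, 38), (88, 12), (61, 20), (80, 0), (41, 38), (62, 12), (18, 32), (37, 4), (65, 38), (82, 12)]]

def act14 : List (List (ℕ × ℕ)) :=
  [[(29, 32), (1, 31), (27, 38), (73, 32), (13, 38), (12, 38), (18, 31), (7, 32), (33, 38), (69, 38), (72, 18), (50, 32), (5, 38), (4, 38), (52, 38), (19, 38), (49, 38), (17, 17), (6, 31), (15, 38), (41, 32), (21, 38), (77, 38), (68, 30), (47, 38), (87, 16), (86, 26), (2, 38), (36, 38), (0, 32), (32, 38), (51, 30)], [(30, 38), (8, 38), (61, 38), (48, 30), (28, 38), (38, 15), (37, 25), (57, 38), (40, 18), (20, 32), (65, 38), (76, 30), (55, 38), (85, 29), (84, 36), (24, 38), (35, 30), (16, 38), (11, 32), (31, 30), (14, 38), (75, 29), (74, 36), (44, 38), (60, 30), (39, 38), (71, 29), (70, 36), (56, 30), (34, 38), (63, 16), (62, 26)], [(64, 30), (42,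 38), (89, 29), (88, 36), (23, 30), (9, 38), (59, 29), (58, 36), (10, 18), (3, 32), (54, 29), (53, 36), (43, 30), (22, 38), (81, 29), (80, 36), (79, 29), (78, 36), (83, 29), (82, 36), (46, 29), (45, 36), (26, 16), (25, 26), (67, 29), (66, 36)]]

def act15 : List (List (ℕ × ℕ)) :=
  [[(22, 28), (14, 27), (3, 37), (43, 34), (50, 37), (47, 37), (31, 33), (16, 14), (9, 27), (10, 39), (8, 32), (66, 32), (34, 37), (28, 37), (72, 39), (30, 14), (68, 39), (4, 31), (53, 31), (55, 37), (35, 21), (39, 14), (23, 33), (0, 38), (25, 38), (67, 4), (44, 32), (20, 37), (56, 39), (6, 28), (48, 39), (29, 38)], [(86, 38), (42, 37), (51, 21), (27, 38), (84, 38), (54, 3), (32, 31), (76, 39), (5, 20), (58, 20), (60, 21), (2, 31), (45, 31), (26, 12), (11, 38), (40, 39), (15, 38), (78, 38), (17, 34), (12, 38), (70, 38), (87, 12), (73, 38), (64, 39), (13, 20), (74, 20), (85, 12), (69,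 38), (33, 38), (88, 38), (59, 0), (36, 20)], [(19, 20), (80, 20), (46, 3), (24, 31), (7, 38), (62, 38), (79, 12), (57, 38), (1, 32), (37, 32), (71, 12), (49, 38), (21, 38), (82, 38), (75, 0), (52, 20), (89, 12), (77, 38), (81, 0), (61, 20), (63, 12), (41, 38), (38, 4), (18, 32), (83, 12), (65, 38)]]

def act16 : List (List (ℕ × ℕ)) :=
  [[(8, 3), (7, 0), (0, 4), (22, 3), (15, 0), (13, 3), (20, 0), (21, 0), (2, 12), (3, 4), (43, 3), (44, 3), (29, 0), (33, 4), (34, 0), (27, 4), (30, 3), (40, 0), (41, 0), (12, 4), (42, 0), (1, 0), (9, 12), (10, 4), (11, 4), (66, 3), (67, 3), (4, 4), (50, 0), (19, 4), (55, 4), (56, 0)], [(57, 0), (5, 12), (47, 4), (51, 3), (52, 3), (62, 0), (63, 0), (28, 4), (64, 0), (65, 0), (6, 0), (23, 12), (24, 12), (25, 4), (26, 4), (14, 4), (72, 0), (73, 0), (39, 4), (76, 4), (77, 4), (78, 0), (79, 0), (16, 12), (68, 4), (69, 4), (74, 3),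 (75, 3), (48, 4), (49, 4), (82, 0), (83, 0)], [(17, 0), (18, 0), (45, 12), (46, 12), (31, 4), (32, 4), (86, 0), (87, 0), (60, 4), (61, 4), (88, 4), (89, 4), (35, 12), (36, 12), (84, 4), (85, 4), (70, 4), (71, 4), (37, 0), (38, 0), (53, 4), (54, 4), (80, 4), (81, 4), (58, 12), (59, 12)]]

def steps0 : List Step :=
  [.rule 0 [(0, 1), (1, 1), (2, 1), (4, 1), (5, 1), (7, 1), (8, 1), (12, 1), (13, 1), (15, 1), (19, 1), (21, 1), (27, 1), (29, 1), (33, 1)] [[], []] [(0, 1), (1, 1), (2, 1), (4, 1), (5, 1), (7, 1), (8, 1), (12, 1), (13, 1), (15, 1), (19, 1), (21, 1), (27, 1), (29, 1), (33, 1)],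
   .tr 3 0 [(3, 1), (6, 1), (9, 1), (14, 1), (16, 1), (20, 1), (22, 1), (28, 1), (30, 1), (34, 1), (39, 1), (42, 1), (47, 1), (50, 1), (55, 1)],
   .tr 2 1 [(10, 1), (17, 1), (23, 1), (31, 1), (35, 1), (40, 1), (43, 1), (48, 1), (51, 1), (56, 1), (60, 1), (64, 1), (68, 1), (72, 1), (76, 1)],
   .tr 3 1 [(11, 1), (18, 1), (24, 1), (32, 1), (36, 1), (41, 1), (44, 1), (49, 1), (52, 1), (57, 1), (61, 1), (65, 1), (69, 1), (73, 1), (77, 1)],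
   .tr 3 2 [(25, 1), (37, 1), (45, 1), (53, 1), (58, 1), (62, 1), (66, 1), (70, 1), (74, 1), (78, 1), (80, 1), (82, 1), (84, 1), (86, 1), (88, 1)],
   .tr 2 3 [(26, 1), (38, 1), (46, 1), (54, 1), (59, 1), (63, 1), (67, 1), (71, 1), (75, 1), (79, 1), (81, 1), (83, 1), (85, 1), (87, 1), (89, 1)],
   .rule 1 [(0, 1), (3, 1), (10, 1), (11, 1), (25, 1), (26, 1)] [[], []] [(0, 1), (3, 1), (10, 1), (11, 1), (25, 1), (26, 1)],
   .tr 0 6 [(1, 1), (6, 1), (17, 1), (18, 1), (37, 1), (38, 1)],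
   .tr 1 6 [(2, 1), (9, 1), (23, 1), (24, 1), (45, 1), (46, 1)],
   .tr 0 7 [(4, 1), (14, 1), (31, 1), (32, 1), (53, 1), (54, 1)],
   .tr 1 7 [(5, 1), (16, 1), (35, 1), (36, 1), (58, 1), (59, 1)],
   .tr 0 8 [(7, 1), (20, 1), (40, 1), (41, 1), (62, 1), (63, 1)],
   .tr 1 8 [(8, 1), (22, 1), (43, 1), (44, 1), (66, 1), (67, 1)],
   .tr 0 9 [(12, 1), (28, 1), (48, 1), (49, 1), (70, 1), (71, 1)],
   .tr 1 9 [(13, 1), (30, 1), (51, 1), (52, 1), (74, 1), (75, 1)],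
   .tr 0 10 [(15, 1), (34, 1), (56, 1), (57, 1), (78, 1), (79, 1)],
   .tr 1 11 [(19, 1), (39, 1), (60, 1), (61, 1), (80, 1), (81, 1)],
   .tr 0 12 [(21, 1), (42, 1), (64, 1), (65, 1), (82, 1), (83, 1)],
   .tr 0 13 [(27, 1), (47, 1), (68, 1), (69, 1), (84, 1), (85, 1)],
   .tr 0 14 [(29, 1), (50, 1), (72, 1), (73, 1), (86, 1), (87, 1)],
   .rule 2 [(0, 1), (1, 3), (2, 2), (3, 3), (4, 3), (5, 3), (6, 1), (7, 3), (8, 2), (9, 3), (10, 1), (12, 1), (13, 2), (15, 2), (16, 4), (18, 2), (19, 4), (20, 1), (21, 4), (22, 3), (23, 2), (24, 1), (25, 3), (28, 1), (30, 1), (31, 1), (32, 4), (34, 2), (35, 1), (36, 3), (37, 4), (40, 4), (41, 2), (42, 2), (43, 1), (45, 4), (48, 3), (49, 3), (50, 4), (51, 3), (52, 4), (53, 2), (56, 3), (57, 4), (58, 2), (60, 2), (61, 4), (62, 3), (65, 2), (66, 4), (69, 1), (72, 4), (78, 1), (80, 2), (82, 4), (84, 1)] [[(0, 2), (1, 3), (2,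 1), (4, 4)], [(1, 3), (2, 1), (3, 3), (5, 1), (6, 3), (7, 4), (8, 4), (9, 2), (10, 2), (11, 3), (12, 4), (15, 1), (16, 2), (17, 4), (18, 1)]] [(0, 1), (1, 3), (2, 2), (3, 3), (4, 3), (5, 3), (6, 1), (7, 3), (8, 2), (9, 3), (10, 1), (12, 1), (13, 2), (15, 2), (16, 4), (18, 2), (19, 4), (20, 1), (21, 4), (22, 3), (23, 2), (24, 1), (25, 3), (28, 1), (30, 1), (31, 1), (32, 4), (34, 2), (35, 1), (36, 3), (37, 4), (40, 4), (41, 2), (42, 2), (43, 1), (45, 4), (48, 3), (49, 3), (50, 4), (51, 3), (52, 4), (53, 2), (56, 3), (57, 4), (58, 2), (60, 2), (61, 4), (62, 3), (65, 2), (66, 4), (69, 1), (72, 4), (78, 1), (80, 2), (82, 4), (84, 1)],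
   .tr 0 20 [(1, 1), (4, 3), (7, 2), (6, 3), (12, 3), (15, 3), (14, 1), (5, 3), (21, 2), (20, 3), (17, 1), (27, 1), (29, 2), (33, 2), (34, 4), (32, 2), (13, 4), (16, 1), (19, 4), (42, 3), (40, 2), (41, 1), (37, 3), (47, 1), (50, 1), (48, 1), (49, 4), (55, 2), (56, 1), (57, 3), (53, 4), (35, 4), (36, 2), (39, 2), (64, 1), (62, 4), (68, 3), (69, 3), (22, 4), (72, 3), (73, 4), (70, 2), (76, 3), (77, 4), (78, 2), (51, 2), (52, 4), (58, 3), (61, 2), (82, 4), (11, 1), (43, 4), (88, 1), (74, 2), (80, 4), (25, 1)],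
   .tr 1 20 [(2, 1), (5, 3), (8, 2), (9, 3), (13, 3), (12, 3), (16, 1), (19, 3), (0, 2), (22, 3), (23, 1), (1, 1), (21, 2), (7, 2), (28, 4), (36, 2), (15, 4), (39, 1), (4, 4), (3, 3), (43, 2), (44, 1), (45, 3), (6, 1), (42, 1), (51, 1), (52, 4), (20, 2), (48, 1), (49, 3), (58, 4), (60, 4), (61, 2), (14, 2), (10, 1), (66, 4), (17, 3), (18, 3), (55, 4), (64, 3), (65, 4), (74, 2), (40, 3), (41, 4), (70, 2), (56, 2), (57, 4), (80, 3), (32, 2), (25, 4), (73, 1), (76, 4), (62, 1), (78, 2), (53, 4), (86, 1)],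
   .tr 2 20 [(0, 1), (1, 3), (2, 2), (10, 3), (4, 3), (5, 3), (17, 1), (7, 3), (8, 2), (23, 3), (11, 1), (12, 1), (13, 2), (15, 2), (35, 4), (38, 2), (19, 4), (40, 1), (21, 4), (43, 3), (24, 2), (46, 1), (3, 3), (48, 1), (51, 1), (32, 1), (54, 4), (56, 2), (36, 1), (59, 3), (6, 4), (41, 4), (63, 2), (64, 2), (44, 1), (9, 4), (49, 3), (71, 3), (72, 4), (52, 3), (75, 4), (14, 2), (57, 3), (79, 4), (16, 2), (61, 2), (81, 4), (20, 3), (83, 2), (22, 4), (85, 1), (73, 4), (34, 1), (39, 2), (42, 4), (47, 1)],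
   .tr 3 20 [(3, 1), (6, 3), (9, 2), (11, 3), (14, 3), (16, 3), (18, 1), (20, 3), (22, 2), (24, 3), (25, 1), (28, 1), (30, 2), (34, 2), (36, 4), (1, 2), (39, 4), (41, 1), (42, 4), (44, 3), (45, 2), (2, 1), (26, 3), (49, 1), (52, 1), (53, 1), (4, 4), (57, 2), (58, 1), (5, 3), (38, 4), (62, 4), (7, 2), (65, 2), (66, 1), (46, 4), (70, 3), (12, 3), (73, 4), (74, 3), (13, 4), (54, 2), (78, 3), (15, 4), (59, 2), (80, 2), (19, 4), (63, 3), (21, 2), (67, 4), (27, 1), (86, 4), (79, 1), (81, 2), (83, 4), (85, 1)],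
   .tr 0 21 [(4, 1), (12, 3), (5, 2), (14, 3), (27, 3), (33, 3), (28, 1), (15, 3), (19, 2), (16, 3), (31, 1), (0, 1), (8, 2), (2, 2), (55, 4), (49, 2), (29, 4), (34, 1), (13, 4), (39, 3), (35, 2), (36, 1), (53, 3), (3, 1), (22, 1), (68, 1), (69, 4), (9, 2), (76, 1), (77, 3), (70, 4), (56, 4), (57, 2), (30, 2), (60, 1), (58, 4), (10, 3), (11, 3), (42, 4), (43, 3), (44, 4), (84, 2), (23, 3), (24, 4), (88, 2), (72, 2), (73, 4), (78, 3), (52, 2), (80, 4), (18, 1), (64, 4), (45, 1), (86, 2), (74, 4), (37, 1)],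
   .tr 1 21 [(5, 1), (13, 3), (19, 2), (16, 3), (1, 3), (7, 3), (30, 1), (12, 3), (4, 2), (39, 3), (35, 1), (29, 1), (33, 2), (27, 2), (20, 4), (52, 2), (21, 4), (28, 1), (15, 4), (14, 3), (60, 2), (61, 1), (58, 3), (50, 1), (55, 1), (17, 1), (18, 4), (47, 2), (40, 1), (41, 3), (74, 4), (48, 4), (49, 2), (34, 2), (31, 1), (80, 4), (72, 3), (73, 3), (3, 4), (76, 3), (77, 4), (37, 2), (68, 3), (69, 4), (62, 2), (64, 2), (65, 4), (70, 3), (57, 2), (53, 4), (24, 1), (10, 4), (84, 1), (82, 2), (78, 4), (45, 1)],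
   .tr 3 21 [(6, 1), (14, 3), (20, 2), (18, 3), (28, 3), (34, 3), (32, 1), (16, 3), (42, 2), (41, 3), (37, 1), (47, 1), (50, 2), (55, 2), (57, 4), (4, 2), (30, 4), (36, 1), (39, 4), (65, 3), (62, 2), (7, 1), (38, 3), (69, 1), (73, 1), (70, 1), (12, 4), (77, 2), (78, 1), (15, 3), (54, 4), (58, 4), (5, 2), (61, 2), (82, 1), (63, 4), (84, 3), (27, 3), (44, 4), (86, 3), (29, 4), (71, 2), (88, 3), (33, 4), (79, 2), (74, 2), (13, 4), (59, 3), (19, 2), (83, 4), (0, 1), (66, 4), (89, 1), (75, 2), (81, 4), (26, 1)],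
   .tr 0 22 [(7, 1), (15, 3), (21, 2), (20, 3), (29, 3), (27, 3), (34, 1), (13, 3), (1, 2), (42, 3), (40, 1), (4, 1), (19, 2), (5, 2), (47, 4), (57, 2), (33, 4), (30, 1), (12, 4), (6, 3), (64, 2), (65, 1), (62, 3), (14, 1), (39, 1), (72, 1), (73, 4), (16, 2), (68, 1), (69, 3), (78, 4), (51, 4), (52, 2), (28, 2), (17, 1), (82, 4), (31, 3), (32, 3), (9, 4), (60, 3), (61, 4), (86, 2), (35, 3), (36, 4), (84, 2), (76, 2), (77, 4), (74, 3), (49, 2), (37, 4), (44, 1), (23, 4), (58, 1), (88, 2), (70, 4), (66, 1)],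
   .tr 2 22 [(2, 1), (5, 3), (8, 2), (23, 3), (13, 3), (12, 3), (35, 1), (19, 3), (0, 2), (43, 3), (24, 1), (1, 1), (21, 2), (7, 2), (48, 4), (59, 2), (15, 4), (60, 1), (4, 4), (10, 3), (44, 2), (67, 1), (9, 3), (17, 1), (64, 1), (52, 1), (75, 4), (40, 2), (49, 1), (71, 3), (16, 4), (61, 4), (81, 2), (31, 2), (11, 1), (22, 4), (18, 3), (38, 3), (76, 4), (65, 3), (83, 4), (30, 2), (41, 3), (63, 4), (28, 2), (57, 2), (79, 4), (39, 3), (54, 2), (3, 4), (87, 1), (77, 4), (20, 1), (34, 2), (14, 4), (50, 1)],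
   .tr 2 23 [(0, 1), (1, 3), (2, 2), (11, 3), (4, 3), (5, 3), (18, 1), (7, 3), (8, 2), (24, 3), (26, 1), (12, 1), (13, 2), (15, 2), (36, 4), (37, 2), (19, 4), (41, 1), (21, 4), (44, 3), (46, 2), (45, 1), (10, 3), (49, 1), (52, 1), (54, 1), (53, 4), (57, 2), (59, 1), (58, 3), (17, 4), (63, 4), (62, 2), (65, 2), (67, 1), (23, 4), (71, 3), (70, 3), (73, 4), (75, 3), (74, 4), (31, 2), (79, 3), (78, 4), (35, 2), (81, 2), (80, 4), (40, 3), (82, 2), (43, 4), (84, 1), (87, 4), (56, 1), (60, 2), (64, 4), (68, 1)],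
   .tr 3 23 [(3, 1), (6, 3), (9, 2), (25, 3), (14, 3), (16, 3), (37, 1), (20, 3), (22, 2), (45, 3), (0, 1), (28, 1), (30, 2), (34, 2), (58, 4), (17, 2), (39, 4), (62, 1), (42, 4), (66, 3), (2, 2), (23, 1), (11, 3), (70, 1), (74, 1), (4, 1), (31, 4), (78, 2), (5, 1), (35, 3), (18, 4), (7, 4), (40, 2), (82, 2), (8, 1), (24, 4), (12, 3), (48, 3), (86, 4), (13, 3), (51, 4), (32, 2), (15, 3), (56, 4), (36, 2), (19, 2), (60, 4), (41, 3), (64, 2), (44, 4), (68, 1), (29, 4), (57, 1), (61, 2), (65, 4), (69, 1)]]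

def steps1 : List Step :=
  [.tr 2 24 [(10, 1), (17, 3), (23, 2), (26, 3), (31, 3), (35, 3), (38, 1), (40, 3), (43, 2), (46, 3), (3, 1), (48, 1), (51, 2), (56, 2), (59, 4), (1, 2), (60, 4), (63, 1), (64, 4), (67, 3), (9, 2), (2, 1), (25, 3), (71, 1), (75, 1), (14, 1), (4, 4), (79, 2), (16, 1), (5, 3), (37, 4), (20, 4), (7, 2), (83, 2), (22, 1), (45, 4), (28, 3), (12, 3), (87, 4), (30, 3), (13, 4), (53, 2), (34, 3), (15, 4), (58, 2), (39, 2), (19, 4), (62, 3), (21, 2), (66, 4), (27, 1), (50, 4), (78, 1), (80, 2), (82, 4), (84, 1)],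
   .tr 1 25 [(13, 1), (1, 3), (12, 2), (30, 3), (29, 3), (27, 3), (6, 1), (7, 3), (15, 2), (28, 3), (51, 1), (2, 1), (0, 2), (8, 2), (47, 4), (18, 2), (33, 4), (20, 1), (21, 4), (34, 3), (48, 2), (49, 1), (74, 3), (9, 1), (3, 1), (72, 1), (73, 4), (22, 2), (68, 1), (69, 3), (37, 4), (40, 4), (41, 2), (42, 2), (56, 1), (70, 4), (23, 3), (24, 3), (14, 4), (10, 3), (11, 4), (86, 2), (43, 3), (44, 4), (84, 2), (76, 2), (77, 4), (62, 3), (65, 2), (78, 4), (36, 1), (31, 4), (66, 1), (88, 2), (82, 4), (58, 1)],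
   .tr 3 25 [(14, 1), (28, 3), (16, 2), (32, 3), (47, 3), (55, 3), (49, 1), (34, 3), (39, 2), (36, 3), (53, 1), (3, 1), (22, 2), (9, 2), (77, 4), (12, 2), (50, 4), (57, 1), (30, 4), (61, 3), (58, 2), (5, 1), (54, 3), (11, 1), (44, 1), (84, 1), (27, 4), (24, 2), (88, 1), (33, 3), (71, 4), (78, 4), (15, 2), (52, 2), (80, 1), (59, 4), (25, 3), (0, 3), (65, 4), (66, 3), (8, 4), (85, 2), (45, 3), (2, 4), (89, 2), (86, 2), (29, 4), (79, 3), (13, 2), (81, 4), (1, 1), (82, 4), (46, 1), (87, 2), (75, 4), (38, 1)],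
   .tr 0 26 [(15, 1), (29, 3), (13, 2), (34, 3), (4, 3), (5, 3), (50, 1), (27, 3), (12, 2), (30, 3), (56, 1), (8, 1), (2, 2), (0, 2), (16, 4), (73, 2), (19, 4), (47, 1), (33, 4), (28, 3), (51, 2), (52, 1), (78, 3), (22, 1), (9, 1), (31, 1), (32, 4), (3, 2), (35, 1), (36, 3), (86, 4), (68, 4), (69, 2), (55, 2), (48, 1), (74, 4), (43, 3), (44, 3), (6, 4), (23, 3), (24, 4), (53, 2), (10, 3), (11, 4), (58, 2), (60, 2), (61, 4), (84, 3), (77, 2), (70, 4), (41, 1), (17, 4), (25, 1), (80, 2), (88, 4), (62, 1)],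
   .tr 1 26 [(12, 1), (21, 3), (15, 2), (28, 3), (5, 3), (19, 3), (42, 1), (1, 3), (13, 2), (34, 3), (48, 1), (33, 1), (27, 2), (29, 2), (39, 4), (65, 2), (4, 4), (6, 1), (7, 4), (30, 3), (56, 2), (57, 1), (70, 3), (55, 1), (47, 1), (35, 1), (36, 4), (50, 2), (60, 1), (61, 3), (82, 4), (17, 4), (18, 2), (20, 2), (51, 1), (78, 4), (76, 3), (77, 3), (9, 4), (68, 3), (69, 4), (58, 2), (72, 3), (73, 4), (80, 2), (31, 2), (32, 4), (37, 3), (41, 2), (74, 4), (44, 1), (23, 4), (86, 1), (53, 2), (62, 4), (66, 1)],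
   .tr 3 26 [(16, 1), (30, 3), (39, 2), (36, 3), (6, 3), (20, 3), (52, 1), (28, 3), (14, 2), (61, 3), (58, 1), (50, 1), (55, 2), (47, 2), (41, 4), (13, 2), (42, 4), (49, 1), (34, 4), (32, 3), (80, 2), (19, 1), (59, 3), (73, 1), (77, 1), (37, 1), (1, 4), (69, 2), (62, 1), (7, 3), (75, 4), (70, 4), (12, 2), (57, 2), (53, 1), (81, 4), (86, 3), (29, 3), (11, 4), (88, 3), (33, 4), (38, 2), (84, 3), (27, 4), (63, 2), (82, 2), (21, 4), (71, 3), (15, 2), (54, 4), (2, 1), (25, 4), (85, 1), (83, 2), (79, 4), (46, 1)],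
   .tr 2 27 [(17, 1), (31, 3), (40, 2), (38, 3), (48, 3), (56, 3), (54, 1), (35, 3), (64, 2), (63, 3), (6, 1), (68, 1), (72, 2), (76, 2), (79, 4), (4, 2), (51, 4), (59, 1), (60, 4), (83, 3), (20, 2), (7, 1), (37, 3), (85, 1), (87, 1), (28, 1), (12, 4), (89, 2), (34, 1), (15, 3), (53, 4), (16, 4), (5, 2), (81, 2), (42, 1), (62, 4), (47, 3), (27, 3), (67, 4), (50, 3), (29, 4), (70, 2), (55, 3), (33, 4), (78, 2), (30, 2), (13, 4), (58, 3), (19, 2), (82, 4), (0, 1), (22, 4), (88, 1), (74, 2), (80, 4), (25, 1)],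
   .tr 0 28 [(5, 1), (33, 3), (19, 2), (16, 3), (8, 3), (0, 3), (55, 1), (29, 3), (4, 2), (39, 3), (35, 1), (12, 1), (13, 2), (15, 2), (3, 4), (77, 2), (2, 4), (50, 1), (27, 4), (14, 3), (60, 2), (61, 1), (58, 3), (28, 1), (30, 1), (43, 1), (44, 4), (34, 2), (10, 1), (11, 3), (88, 4), (72, 4), (73, 2), (47, 2), (31, 1), (80, 4), (48, 3), (49, 3), (20, 4), (51, 3), (52, 4), (66, 2), (56, 3), (57, 4), (25, 2), (23, 2), (24, 4), (86, 3), (69, 2), (53, 4), (65, 1), (40, 4), (78, 1), (45, 2), (84, 4), (82, 1)],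
   .tr 1 28 [(19, 1), (7, 3), (4, 2), (39, 3), (33, 3), (29, 3), (20, 1), (21, 3), (5, 2), (14, 3), (60, 1), (13, 1), (15, 2), (12, 2), (50, 4), (41, 2), (27, 4), (42, 1), (1, 4), (16, 3), (31, 2), (32, 1), (80, 3), (30, 1), (34, 1), (76, 1), (77, 4), (28, 2), (72, 1), (73, 3), (62, 4), (64, 4), (65, 2), (6, 2), (35, 1), (53, 4), (51, 3), (52, 3), (22, 4), (56, 3), (57, 4), (88, 2), (48, 3), (49, 4), (86, 2), (68, 2), (69, 4), (82, 3), (18, 2), (58, 4), (11, 1), (43, 4), (70, 1), (84, 2), (37, 4), (25, 1)],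
   .tr 2 28 [(7, 1), (15, 3), (21, 2), (40, 3), (29, 3), (27, 3), (56, 1), (13, 3), (1, 2), (64, 3), (41, 1), (4, 1), (19, 2), (5, 2), (68, 4), (79, 2), (33, 4), (51, 1), (12, 4), (17, 3), (65, 2), (83, 1), (20, 3), (31, 1), (60, 1), (73, 1), (87, 4), (35, 2), (69, 1), (85, 3), (34, 4), (52, 4), (75, 2), (48, 2), (18, 1), (42, 4), (32, 3), (54, 3), (23, 4), (61, 3), (81, 4), (50, 2), (36, 3), (59, 4), (47, 2), (77, 2), (89, 4), (30, 3), (71, 2), (6, 4), (67, 1), (24, 4), (16, 1), (55, 2), (28, 4), (22, 1)],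
   .tr 2 29 [(2, 1), (5, 3), (8, 2), (24, 3), (13, 3), (12, 3), (36, 1), (19, 3), (0, 2), (44, 3), (46, 1), (1, 1), (21, 2), (7, 2), (49, 4), (58, 2), (15, 4), (61, 1), (4, 4), (11, 3), (67, 2), (66, 1), (23, 3), (18, 1), (65, 1), (75, 1), (74, 4), (41, 2), (71, 1), (70, 3), (35, 4), (81, 4), (80, 2), (32, 2), (26, 1), (43, 4), (38, 3), (37, 3), (77, 4), (83, 3), (82, 4), (51, 2), (63, 3), (62, 4), (48, 2), (79, 2), (78, 4), (60, 3), (53, 2), (10, 4), (86, 1), (89, 4), (40, 1), (56, 2), (31, 4), (72, 1)],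
   .tr 1 33 [(21, 1), (5, 3), (1, 2), (42, 3), (33, 3), (29, 3), (16, 1), (19, 3), (7, 2), (6, 3), (64, 1), (8, 1), (2, 2), (0, 2), (50, 4), (36, 2), (27, 4), (39, 1), (4, 4), (20, 3), (17, 2), (18, 1), (82, 3), (22, 1), (9, 1), (76, 1), (77, 4), (3, 2), (72, 1), (73, 3), (58, 4), (60, 4), (61, 2), (14, 2), (40, 1), (37, 4), (43, 3), (44, 3), (30, 4), (23, 3), (24, 4), (88, 2), (10, 3), (11, 4), (86, 2), (68, 2), (69, 4), (80, 3), (32, 2), (62, 4), (49, 1), (51, 4), (25, 1), (84, 2), (53, 4), (70, 1)],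
   .tr 1 35 [(7, 1), (33, 3), (21, 2), (20, 3), (13, 3), (12, 3), (55, 1), (29, 3), (1, 2), (42, 3), (40, 1), (0, 1), (8, 2), (2, 2), (28, 4), (77, 2), (15, 4), (50, 1), (27, 4), (6, 3), (64, 2), (65, 1), (62, 3), (3, 1), (22, 1), (51, 1), (52, 4), (9, 2), (48, 1), (49, 3), (88, 4), (72, 4), (73, 2), (47, 2), (17, 1), (82, 4), (10, 3), (11, 3), (16, 4), (43, 3), (44, 4), (74, 2), (23, 3), (24, 4), (70, 2), (56, 2), (57, 4), (86, 3), (69, 2), (37, 4), (61, 1), (35, 4), (45, 1), (78, 2), (84, 4), (80, 1)],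
   .rule 2 [(0, 3), (1, 2), (2, 2), (3, 2), (4, 1), (5, 4), (6, 3), (7, 3), (9, 3), (10, 1), (12, 2), (13, 3), (17, 4), (18, 4), (20, 2), (23, 3), (25, 4), (28, 2), (30, 3), (31, 4), (32, 1), (35, 1), (36, 4), (37, 1), (40, 1), (41, 1), (43, 1), (48, 3), (49, 4), (51, 2), (52, 1), (53, 4), (58, 1), (62, 4), (66, 1)] [[(1, 4), (2, 1), (3, 2), (4, 1), (5, 4), (6, 1), (7, 4), (8, 4), (9, 2), (10, 1), (11, 1), (12, 4), (15, 4), (16, 1), (17, 4), (18, 4), (20, 3), (21, 4), (22, 1), (23, 4), (25, 1), (26, 3), (27, 3), (28, 1), (29, 3), (30, 3), (31, 4), (32, 4), (33, 2), (37, 3), (42, 2), (43, 4)], [(0, 2), (1, 2), (3, 1), (4, 3), (7, 2), (8, 3), (9, 3), (10, 1), (11, 2), (12, 3), (13, 4), (14, 3), (15, 4), (16, 2), (17, 2), (18, 4), (19, 2), (20, 2), (21, 1), (22, 3), (23, 3), (25, 1), (27, 3), (29, 4), (31, 4), (32, 3), (33, 4), (34, 2), (35, 4), (36, 4), (38,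 4), (39, 1), (40, 4), (41, 2), (42, 3), (43, 1), (44, 4)]] [(0, 3), (1, 2), (2, 2), (3, 2), (4, 1), (5, 4), (6, 3), (7, 3), (9, 3), (10, 1), (12, 2), (13, 3), (17, 4), (18, 4), (20, 2), (23, 3), (25, 4), (28, 2), (30, 3), (31, 4), (32, 1), (35, 1), (36, 4), (37, 1), (40, 1), (41, 1), (43, 1), (48, 3), (49, 4), (51, 2), (52, 1), (53, 4), (58, 1), (62, 4), (66, 1)],
   .tr 0 45 [(1, 3), (4, 2), (7, 2), (6, 2), (12, 1), (15, 4), (14, 3), (5, 3), (20, 3), (17, 1), (27, 2), (29, 3), (31, 4), (32, 4), (16, 2), (40, 3), (37, 4), (47, 2), (50, 3), (48, 4), (49, 1), (56, 1), (57, 4), (53, 1), (35, 1), (36, 1), (64, 1), (68, 3), (69, 4), (72, 2), (73, 1), (70, 4), (78, 1), (58, 4), (82, 1)],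
   .tr 1 45 [(2, 3), (5, 2), (8, 2), (9, 2), (13, 1), (12, 4), (16, 3), (19, 3), (22, 3), (23, 1), (1, 2), (21, 3), (35, 4), (36, 4), (39, 2), (43, 3), (45, 4), (6, 2), (42, 3), (51, 4), (52, 1), (48, 1), (49, 4), (58, 1), (60, 1), (61, 1), (10, 1), (17, 3), (18, 4), (64, 2), (65, 1), (74, 4), (70, 1), (80, 4), (25, 1)],
   .tr 2 45 [(0, 3), (1, 2), (2, 2), (10, 2), (4, 1), (5, 4), (17, 3), (7, 3), (23, 3), (11, 1), (12, 2), (13, 3), (18, 4), (38, 4), (40, 2), (24, 3), (3, 4), (48, 2), (51, 3), (32, 4), (54, 1), (36, 1), (59, 4), (6, 1), (41, 1), (63, 1), (44, 1), (49, 3), (71, 4), (52, 2), (75, 1), (14, 4), (16, 1), (20, 4), (22, 1)],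
   .tr 3 45 [(3, 3), (6, 2), (9, 2), (11, 2), (14, 1), (16, 4), (18, 3), (20, 3), (24, 3), (25, 1), (28, 2), (30, 3), (37, 4), (1, 4), (41, 2), (45, 3), (26, 4), (49, 2), (52, 3), (53, 4), (4, 1), (58, 1), (5, 4), (38, 1), (62, 1), (7, 1), (66, 1), (70, 3), (12, 4), (74, 2), (13, 1), (54, 4), (59, 1), (63, 4), (67, 1)],
   .tr 0 46 [(4, 3), (12, 2), (5, 2), (14, 2), (27, 1), (33, 4), (28, 3), (15, 3), (16, 3), (31, 1), (0, 2), (8, 3), (48, 4), (49, 4), (34, 2), (35, 3), (53, 4), (3, 2), (22, 3), (68, 4), (69, 1), (76, 1), (77, 4), (70, 1), (56, 1), (57, 1), (60, 1), (10, 3), (11, 4), (43, 2), (44, 1), (84, 4), (88, 1), (78, 4), (80, 1)],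
   .tr 1 46 [(5, 3), (13, 2), (19, 2), (16, 2), (1, 1), (7, 4), (30, 3), (12, 3), (39, 3), (35, 1), (29, 2), (33, 3), (51, 4), (52, 4), (28, 2), (60, 3), (58, 4), (50, 2), (55, 3), (17, 4), (18, 1), (40, 1), (41, 4), (74, 1), (48, 1), (49, 1), (31, 1), (72, 3), (73, 4), (76, 2), (77, 1), (37, 4), (62, 1), (70, 4), (53, 1)],
   .tr 3 46 [(6, 3), (14, 2), (20, 2), (18, 2), (28, 1), (34, 4), (32, 3), (16, 3), (41, 3), (37, 1), (47, 2), (50, 3), (53, 4), (4, 4), (36, 2), (62, 3), (38, 4), (69, 2), (73, 3), (70, 4), (12, 1), (78, 1), (15, 4), (54, 1), (58, 1), (5, 1), (82, 1), (84, 3), (27, 4), (86, 2), (29, 1), (71, 4), (79, 1), (59, 4), (83, 1)],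
   .tr 0 47 [(7, 3), (15, 2), (21, 2), (20, 2), (29, 1), (27, 4), (34, 3), (13, 3), (42, 3), (40, 1), (4, 2), (19, 3), (56, 4), (57, 4), (30, 2), (64, 3), (62, 4), (14, 2), (39, 3), (72, 4), (73, 1), (68, 1), (69, 4), (78, 1), (51, 1), (52, 1), (17, 1), (31, 3), (32, 4), (60, 2), (61, 1), (86, 4), (84, 1), (74, 4), (37, 1)],
   .tr 2 47 [(2, 3), (5, 2), (8, 2), (23, 2), (13, 1), (12, 4), (35, 3), (19, 3), (43, 3), (24, 1), (1, 2), (21, 3), (36, 4), (59, 4), (60, 2), (44, 3), (9, 4), (17, 2), (64, 3), (52, 4), (75, 1), (49, 1), (71, 4), (16, 1), (61, 1), (81, 1), (11, 1), (18, 3), (38, 4), (65, 2), (83, 1), (30, 4), (28, 1), (39, 4), (3, 1)],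
   .tr 2 48 [(0, 3), (1, 2), (2, 2), (11, 2), (4, 1), (5, 4), (18, 3), (7, 3), (24, 3), (26, 1), (12, 2), (13, 3), (38, 4), (37, 4), (41, 2), (46, 3), (10, 4), (49, 2), (52, 3), (54, 4), (53, 1), (59, 1), (58, 4), (17, 1), (63, 1), (62, 1), (67, 1), (71, 3), (70, 4), (75, 2), (74, 1), (31, 4), (35, 1), (40, 4), (43, 1)],
   .tr 3 48 [(3, 3), (6, 2), (9, 2), (25, 2), (14, 1), (16, 4), (37, 3), (20, 3), (45, 3), (0, 1), (28, 2), (30, 3), (1, 4), (17, 4), (62, 2), (2, 3), (11, 4), (70, 2), (74, 3), (4, 4), (31, 1), (5, 1), (35, 4), (18, 1), (7, 1), (40, 1), (8, 1), (12, 3), (48, 4), (13, 2), (51, 1), (32, 4), (36, 1), (41, 4), (44, 1)],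
   .tr 2 49 [(10, 3), (17, 2), (23, 2), (26, 2), (31, 1), (35, 4), (38, 3), (40, 3), (46, 3), (3, 1), (48, 2), (51, 3), (6, 4), (1, 4), (63, 2), (9, 3), (25, 4), (71, 2), (75, 3), (14, 4), (4, 1), (16, 1), (5, 4), (37, 1), (20, 1), (7, 1), (22, 1), (28, 3), (12, 4), (30, 2), (13, 1), (53, 4), (58, 1), (62, 4), (66, 1)],
   .tr 1 50 [(13, 3), (1, 2), (12, 2), (30, 2), (29, 1), (27, 4), (6, 3), (7, 3), (28, 3), (51, 1), (2, 2), (0, 3), (17, 4), (18, 4), (20, 2), (48, 3), (74, 4), (9, 2), (3, 3), (72, 4), (73, 1), (68, 1), (69, 4), (37, 1), (40, 1), (41, 1), (56, 1), (23, 3), (24, 4), (10, 2), (11, 1), (86, 4), (84, 1), (62, 4), (78, 1)],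
   .tr 3 50 [(14, 3), (28, 2), (16, 2), (32, 2), (47, 1), (55, 4), (49, 3), (34, 3), (36, 3), (53, 1), (3, 2), (22, 3), (70, 4), (12, 4), (57, 2), (58, 3), (54, 4), (11, 2), (44, 3), (84, 4), (27, 1), (88, 1), (33, 4), (71, 1), (78, 1), (15, 1), (80, 1), (25, 3), (0, 4), (66, 2), (8, 1), (85, 4), (89, 1), (79, 4), (81, 1)],
   .tr 0 51 [(15, 3), (29, 2), (13, 2), (34, 2), (4, 1), (5, 4), (50, 3), (27, 3), (30, 3), (56, 1), (8, 2), (2, 3), (72, 4), (73, 4), (47, 2), (51, 3), (78, 4), (22, 2), (9, 3), (31, 4), (32, 1), (35, 1), (36, 4), (86, 1), (68, 1), (69, 1), (48, 1), (43, 3), (44, 4), (23, 2), (24, 1), (53, 4), (58, 1), (84, 4), (70, 1)],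
   .tr 1 51 [(12, 3), (21, 2), (15, 2), (28, 2), (5, 1), (19, 4), (42, 3), (1, 3), (34, 3), (48, 1), (33, 2), (27, 3), (64, 4), (65, 4), (6, 2), (56, 3), (70, 4), (55, 2), (47, 3), (35, 4), (36, 1), (60, 1), (61, 4), (82, 1), (17, 1), (18, 1), (51, 1), (76, 3), (77, 4), (68, 2), (69, 1), (58, 4), (80, 1), (37, 4), (74, 1)],
   .tr 3 51 [(16, 3), (30, 2), (39, 2), (36, 2), (6, 1), (20, 4), (52, 3), (28, 3), (61, 3), (58, 1), (50, 2), (55, 3), (74, 4), (13, 4), (49, 2), (80, 3), (59, 4), (73, 2), (77, 3), (37, 4), (1, 1), (62, 1), (7, 4), (75, 1), (70, 1), (12, 1), (53, 1), (86, 3), (29, 4), (88, 2), (33, 1), (38, 4), (63, 1), (71, 4), (54, 1)],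
   .tr 2 52 [(17, 3), (31, 2), (40, 2), (38, 2), (48, 1), (56, 4), (54, 3), (35, 3), (63, 3), (6, 1), (68, 2), (72, 3), (14, 4), (4, 4), (59, 2), (20, 3), (37, 4), (85, 2), (87, 3), (28, 4), (12, 1), (34, 1), (15, 4), (53, 1), (16, 1), (5, 1), (42, 1), (47, 3), (27, 4), (50, 2), (29, 1), (70, 4), (78, 1), (58, 4), (82, 1)]]

def steps2 : List Step :=
  [.tr 1 53 [(19, 3), (7, 2), (4, 2), (39, 2), (33, 1), (29, 4), (20, 3), (21, 3), (14, 3), (60, 1), (13, 2), (15, 3), (40, 4), (41, 4), (42, 2), (31, 3), (80, 4), (30, 2), (34, 3), (76, 4), (77, 1), (72, 1), (73, 4), (62, 1), (64, 1), (65, 1), (35, 1), (51, 3), (52, 4), (56, 2), (57, 1), (88, 4), (86, 1), (82, 4), (58, 1)],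
   .tr 2 53 [(7, 3), (15, 2), (21, 2), (40, 2), (29, 1), (27, 4), (56, 3), (13, 3), (64, 3), (41, 1), (4, 2), (19, 3), (57, 4), (79, 4), (51, 2), (65, 3), (20, 4), (31, 2), (60, 3), (73, 4), (87, 1), (69, 1), (85, 4), (34, 1), (52, 1), (75, 1), (18, 1), (32, 3), (54, 4), (61, 2), (81, 1), (50, 4), (47, 1), (30, 4), (6, 1)],
   .tr 2 54 [(2, 3), (5, 2), (8, 2), (24, 2), (13, 1), (12, 4), (36, 3), (19, 3), (44, 3), (46, 1), (1, 2), (21, 3), (59, 4), (58, 4), (61, 2), (67, 3), (23, 4), (18, 2), (65, 3), (75, 4), (74, 1), (71, 1), (70, 4), (35, 1), (81, 1), (80, 1), (26, 1), (38, 3), (37, 4), (83, 2), (82, 1), (51, 4), (48, 1), (60, 4), (10, 1)],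
   .tr 1 58 [(21, 3), (5, 2), (1, 2), (42, 2), (33, 1), (29, 4), (16, 3), (19, 3), (6, 3), (64, 1), (8, 2), (2, 3), (35, 4), (36, 4), (39, 2), (17, 3), (82, 4), (22, 2), (9, 3), (76, 4), (77, 1), (72, 1), (73, 4), (58, 1), (60, 1), (61, 1), (40, 1), (43, 3), (44, 4), (23, 2), (24, 1), (88, 4), (86, 1), (80, 4), (62, 1)],
   .tr 1 60 [(7, 3), (33, 2), (21, 2), (20, 2), (13, 1), (12, 4), (55, 3), (29, 3), (42, 3), (40, 1), (0, 2), (8, 3), (76, 4), (77, 4), (50, 2), (64, 3), (62, 4), (3, 2), (22, 3), (51, 4), (52, 1), (48, 1), (49, 4), (88, 1), (72, 1), (73, 1), (17, 1), (10, 3), (11, 4), (43, 2), (44, 1), (74, 4), (70, 1), (86, 4), (37, 1)],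
   .rule 4 [(0, 1)] [[(0, 2), (1, 2), (2, 2), (3, 2), (4, 2), (7, 3), (8, 4), (9, 3), (11, 4), (12, 1), (14, 2), (15, 3), (16, 2), (17, 3), (18, 1), (19, 4), (20, 4), (21, 1), (22, 4), (23, 4), (24, 4), (25, 3), (27, 2), (28, 4), (29, 2), (30, 4), (31, 3), (32, 1), (33, 1), (34, 3), (35, 1), (36, 1), (38, 2), (39, 2), (41, 1), (42, 4), (43, 4), (46, 2), (47, 3), (48, 3), (49, 4), (50, 3), (51, 3), (52, 4), (53, 1), (54, 4), (55, 1), (56, 2), (57, 2), (59, 3), (60, 3), (61, 3), (62, 1), (64, 2), (65, 2), (66, 4), (68, 4)], [(0, 3), (3, 1), (4, 3), (5, 3), (6, 1), (9, 3), (10, 4), (11, 1), (12, 4), (13, 2), (14, 4), (15, 4), (16, 3), (17, 4), (18, 4), (19, 1), (21, 2), (22, 2), (23, 3), (26, 3), (28, 1), (29, 2), (30, 4), (33, 4), (34, 1), (35, 4), (36, 1), (37, 4), (38, 1), (39, 2), (40, 4), (41, 4), (42, 3), (45, 3), (46, 1), (47, 2), (48, 2), (49, 1), (50,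 2), (52, 4), (53, 4), (54, 4), (55, 4), (56, 2), (60, 4), (61, 4), (62, 2), (63, 3), (64, 1), (66, 1), (67, 2), (68, 1)]] [(0, 1)]]

def data : Cert where
  n := 10
  p := 5
  N := 90
  gens := gens
  hgens := [(2, 1), (4, 1), (5, 1), (6, 1)]
  hel := hel
  reps := reps
  act := [act0, act1, act2, act3, act4, act5, act6, act7, act8, act9, act10, act11, act12, act13, act14, act15, act16]
  rules := [⟨[(7, 1), (8, 1)], [(1, 9)]⟩, ⟨[(10, 1), (11, 1)], [(1, 9)]⟩, ⟨[(12, 1), (13, 1)], [(1, 9)]⟩, ⟨[(14, 1), (15, 1)], [(1, 9)]⟩, ⟨[(1, 1), (16, 1)], [(1, 9)]⟩]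
  steps := [steps0, steps1, steps2]
  final := [(69, 4)]

theorem gens_good : ∀ t ∈ data.gens, Good data.n t :=
  data.gens_good [[(0, 1, 2), (2, 3, 4)], [(0, 1, 2)], [(5, 6, 7), (7, 8, 9)], [(5, 6, 7)], [(6, 9, 7), (7, 8, 9)], [(0, 1, 2), (1, 2, 3)], [(0, 2, 1), (1, 3, 2)], [(1, 2, 3), (2, 3, 4)], [(0, 1, 3)], [], [(6, 7, 8), (7, 8, 9)], [(5, 6, 8)], [(1, 2, 3), (2, 3, 4), (6, 7, 8), (7, 8, 9)], [(0, 1, 3), (5, 6, 8)], [(1, 2, 3), (2, 3, 4), (5, 7, 8), (7, 8, 9)], [(0, 1, 3), (5, 8, 6)], [(1, 2, 3)]] rfl (by decide +kernel)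

theorem base : data.baseOK = true := by decide +kernel

theorem actP0 : (List.range 0).all data.actPart = true := rfl

theorem actP1 : (List.range 1).all data.actPart = true :=
  Cert.all_range_succ actP0 (by decide +kernel)

theorem actP2 : (List.range 2).all data.actPart = true :=
  Cert.all_range_succ actP1 (by decide +kernel)

theorem actP3 : (List.range 3).all data.actPart = true :=
  Cert.all_range_succ actP2 (by decide +kernel)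

theorem actP4 : (List.range 4).all data.actPart = true :=
  Cert.all_range_succ actP3 (by decide +kernel)

theorem actP5 : (List.range 5).all data.actPart = true :=
  Cert.all_range_succ actP4 (by decide +kernel)

theorem actP6 : (List.range 6).all data.actPart = true :=
  Cert.all_range_succ actP5 (by decide +kernel)

theorem actP7 : (List.range 7).all data.actPart = true :=
  Cert.all_range_succ actP6 (by decide +kernel)

theorem actP8 : (List.range 8).all data.actPart = true :=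
  Cert.all_range_succ actP7 (by decide +kernel)

theorem actP9 : (List.range 9).all data.actPart = true :=
  Cert.all_range_succ actP8 (by decide +kernel)

theorem actP10 : (List.range 10).all data.actPart = true :=
  Cert.all_range_succ actP9 (by decide +kernel)

theorem actP11 : (List.range 11).all data.actPart = true :=
  Cert.all_range_succ actP10 (by decide +kernel)

theorem actP12 : (List.range 12).all data.actPart = true :=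
  Cert.all_range_succ actP11 (by decide +kernel)

theorem actP13 : (List.range 13).all data.actPart = true :=
  Cert.all_range_succ actP12 (by decide +kernel)

theorem actP14 : (List.range 14).all data.actPart = true :=
  Cert.all_range_succ actP13 (by decide +kernel)

theorem actP15 : (List.range 15).all data.actPart = true :=
  Cert.all_range_succ actP14 (by decide +kernel)

theorem actP16 : (List.range 16).all data.actPart = true :=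
  Cert.all_range_succ actP15 (by decide +kernel)

theorem actP17 : (List.range 17).all data.actPart = true :=
  Cert.all_range_succ actP16 (by decide +kernel)

theorem stp0 : data.stepsOK 0 = true := rfl

theorem stp1 : data.stepsOK 70 = true :=
  data.stepsOK_add stp0 70 (by decide +kernel)

theorem numSteps_eq : data.numSteps = 70 := by decide +kernel

theorem check : data.check = true := by
  simp only [Cert.check, Bool.and_eq_true]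
  exact ⟨base, actP17, numSteps_eq ▸ stp1⟩

end CfsgLib.AltCentral.FiveB
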