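import Cfsg.Agent.Lib.AltCentral.CertGood

/-! Certificate data: stage FiveUm, degree 10, characteristic 5. -/

set_option autoImplicit false
set_option maxRecDepth 100000

namespace CfsgLib.AltCentral.FiveUm

def gens : List (List ℕ) :=
  [[0, 1, 2, 3, 5, 6, 4, 7, 8, 9], [0, 1, 2, 3, 4, 6, 7, 8, 9, 5], [1, 0, 3, 2, 4, 5, 6, 7, 8, 9], [2, 3, 0, 1, 4, 5, 6, 7, 8, 9], [0, 1, 2, 3, 4, 5, 7, 6, 9, 8], [0, 1, 2, 3, 4, 6, 8, 7, 5, 9], [0, 1, 2, 3, 4, 5, 6, 7, 8, 9], [0, 1, 2, 3, 4, 5, 8, 9, 6, 7], [0, 1, 2, 3, 5, 6, 4, 9, 7, 8], [0, 1, 2, 3, 5, 6, 4, 8, 9, 7], [0, 1, 2, 3, 4, 5, 7, 8, 6, 9], [0, 1, 2, 3, 4, 5, 6, 8, 9, 7], [0, 1, 2, 3, 4, 5, 9, 8, 7, 6]]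

def hel : List (List (ℕ × ℕ × List ℕ × ℕ)) :=
  [[(0, 0, [0, 1, 2, 3, 4, 5, 6, 7, 8, 9], 1), (0, 0, [0, 1, 2, 3, 4, 6, 7, 8, 9, 5], 1), (1, 0, [1, 0, 3, 2, 4, 5, 6, 7, 8, 9], 1), (2, 0, [2, 3, 0, 1, 4, 5, 6, 7, 8, 9], 1), (0, 1, [0, 1, 2, 3, 4, 7, 8, 9, 5, 6], 1), (1, 1, [1, 0, 3, 2, 4, 6, 7, 8, 9, 5], 1), (2, 1, [2, 3, 0, 1, 4, 6, 7, 8, 9, 5], 1), (2, 2, [3, 2, 1, 0, 4, 5, 6, 7, 8, 9], 1), (0, 4, [0, 1, 2, 3, 4, 8, 9, 5, 6, 7], 1), (1, 4, [1, 0, 3, 2, 4, 7, 8, 9, 5, 6], 1), (2, 4, [2, 3, 0, 1, 4, 7, 8, 9, 5, 6], 1), (2, 5, [3, 2, 1, 0, 4, 6, 7, 8, 9, 5], 1), (0, 8, [0, 1, 2, 3, 4, 9, 5, 6, 7, 8], 1), (1, 8, [1, 0, 3, 2, 4, 8, 9, 5, 6, 7], 1), (2, 8, [2, 3, 0, 1, 4, 8, 9, 5, 6, 7], 1), (2, 9, [3, 2, 1, 0, 4, 7, 8, 9, 5, 6], 1), (1, 12, [1, 0, 3, 2, 4, 9, 5, 6, 7, 8], 1), (2, 12, [2, 3, 0, 1, 4, 9, 5, 6, 7, 8], 1), (2, 13, [3, 2, 1, 0, 4, 8, 9, 5,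 6, 7], 1), (2, 16, [3, 2, 1, 0, 4, 9, 5, 6, 7, 8], 1)]]

def reps : List (List (ℕ × ℕ × List ℕ)) :=
  [[(0, 0, [0, 1, 2, 3, 4, 5, 6, 7, 8, 9]), (0, 0, [0, 1, 2, 3, 5, 6, 4, 7, 8, 9]), (0, 1, [0, 1, 2, 3, 6, 4, 5, 7, 8, 9]), (1, 1, [0, 1, 2, 3, 6, 7, 4, 8, 9, 5]), (1, 2, [0, 1, 2, 3, 7, 4, 6, 8, 9, 5]), (0, 3, [0, 1, 2, 3, 4, 7, 5, 8, 9, 6]), (1, 3, [0, 1, 2, 3, 7, 8, 4, 9, 5, 6]), (0, 4, [0, 1, 2, 3, 7, 5, 4, 8, 9, 6]), (1, 4, [0, 1, 2, 3, 8, 4, 7, 9, 5, 6]), (0, 5, [0, 1, 2, 3, 5, 7, 6, 8, 9, 4]), (1, 5, [0, 1, 2, 3, 4, 8, 6, 9, 5, 7]), (0, 6, [0, 1, 2, 3, 7, 8, 5, 9, 6, 4]), (1, 6, [0, 1, 2, 3, 8, 9, 4, 5, 6, 7]), (0, 7, [0, 1, 2, 3, 7, 6, 5, 8, 9, 4]), (1, 7, [0, 1, 2, 3, 8, 6, 4, 9, 5, 7]), (0, 8, [0, 1, 2, 3, 8, 5, 7, 9, 6, 4]), (1, 8, [0, 1, 2, 3, 9, 4, 8, 5, 6, 7]), (1, 9, [0, 1, 2, 3, 6, 8, 7, 9, 5, 4]), (0, 10, [0, 1, 2, 3, 5, 8, 4, 9, 6,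 7]), (1, 10, [0, 1, 2, 3, 4, 9, 7, 5, 6, 8]), (0, 11, [0, 1, 2, 3, 7, 8, 6, 9, 4, 5]), (1, 11, [0, 1, 2, 3, 8, 9, 6, 5, 7, 4]), (1, 12, [0, 1, 2, 3, 9, 5, 4, 6, 7, 8]), (1, 13, [0, 1, 2, 3, 8, 7, 6, 9, 5, 4]), (0, 14, [0, 1, 2, 3, 8, 4, 5, 9, 6, 7]), (1, 14, [0, 1, 2, 3, 9, 7, 4, 5, 6, 8]), (1, 15, [0, 1, 2, 3, 9, 6, 8, 5, 7, 4]), (0, 16, [0, 1, 2, 3, 9, 5, 8, 6, 4, 7]), (0, 17, [0, 1, 2, 3, 4, 8, 7, 9, 6, 5]), (1, 17, [0, 1, 2, 3, 7, 9, 8, 5, 6, 4]), (0, 18, [0, 1, 2, 3, 6, 8, 5, 9, 4, 7]), (0, 19, [0, 1, 2, 3, 5, 9, 7, 6, 4, 8])], [(1, 19, [0, 1, 2, 3, 4, 5, 8, 6, 7, 9]), (1, 20, [0, 1, 2, 3, 8, 9, 7, 5, 4, 6]), (0, 21, [0, 1, 2, 3, 8, 9, 4, 6, 7, 5]), (1, 21, [0, 1, 2, 3, 9, 5, 7, 6, 8, 4]), (0, 22, [0, 1, 2, 3, 9, 6, 5, 4, 7, 8]), (1, 23, [0, 1, 2, 3, 9, 8, 7, 5, 6, 4]), (0, 24, [0, 1, 2, 3, 8, 5, 6, 9, 4, 7]), (1, 24, [0, 1, 2, 3, 9, 4, 6, 5,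 7, 8]), (1, 25, [0, 1, 2, 3, 5, 8, 4, 6, 7, 9]), (0, 26, [0, 1, 2, 3, 9, 4, 8, 6, 7, 5]), (1, 26, [0, 1, 2, 3, 5, 7, 9, 6, 8, 4]), (1, 27, [0, 1, 2, 3, 5, 6, 9, 7, 4, 8]), (0, 28, [0, 1, 2, 3, 5, 8, 7, 9, 4, 6]), (1, 28, [0, 1, 2, 3, 4, 9, 8, 5, 7, 6]), (0, 29, [0, 1, 2, 3, 7, 9, 8, 6, 4, 5]), (0, 31, [0, 1, 2, 3, 6, 9, 7, 4, 5, 8]), (1, 31, [0, 1, 2, 3, 6, 5, 8, 7, 4, 9]), (1, 32, [0, 1, 2, 3, 4, 6, 9, 7, 8, 5]), (0, 33, [0, 1, 2, 3, 8, 9, 7, 6, 5, 4]), (0, 37, [0, 1, 2, 3, 9, 8, 7, 6, 4, 5]), (1, 37, [0, 1, 2, 3, 5, 9, 8, 6, 7, 4]), (0, 40, [0, 1, 2, 3, 6, 8, 5, 4, 7, 9]), (0, 41, [0, 1, 2, 3, 9, 5, 8, 4, 7, 6]), (1, 41, [0, 1, 2, 3, 5, 4, 9, 7, 8, 6]), (0, 42, [0, 1, 2, 3, 6, 7, 9, 4, 8, 5]), (0, 43, [0, 1, 2, 3, 6, 4, 9, 7, 5, 8]), (1, 45, [0, 1, 2, 3, 4, 5, 9, 6, 8, 7]), (0, 46, [0, 1, 2, 3, 7, 9, 8, 4, 5, 6]), (1, 46, [0, 1, 2, 3, 8, 5, 9, 7,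 4, 6]), (1, 47, [0, 1, 2, 3, 7, 5, 8, 4, 6, 9]), (1, 51, [0, 1, 2, 3, 5, 9, 8, 7, 4, 6]), (0, 52, [0, 1, 2, 3, 6, 9, 8, 4, 7, 5])], [(1, 52, [0, 1, 2, 3, 6, 5, 9, 7, 8, 4]), (0, 53, [0, 1, 2, 3, 4, 8, 6, 5, 7, 9]), (1, 54, [0, 1, 2, 3, 5, 6, 9, 4, 8, 7]), (1, 56, [0, 1, 2, 3, 7, 8, 5, 4, 9, 6]), (0, 57, [0, 1, 2, 3, 4, 5, 9, 7, 6, 8]), (0, 62, [0, 1, 2, 3, 6, 9, 8, 7, 5, 4]), (1, 63, [0, 1, 2, 3, 7, 5, 9, 4, 8, 6]), (0, 69, [0, 1, 2, 3, 4, 9, 8, 7, 6, 5])]]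

def act0 : List (List (ℕ × ℕ)) :=
  [[(1, 0), (2, 0), (0, 0), (5, 0), (7, 0), (9, 0), (11, 0), (13, 0), (15, 0), (3, 0), (18, 0), (20, 0), (8, 4), (4, 0), (24, 0), (12, 8), (27, 0), (28, 0), (30, 0), (31, 0), (6, 0), (34, 0), (36, 0), (21, 8), (38, 0), (37, 1), (41, 0), (35, 4), (44, 0), (46, 0), (10, 0), (47, 0)], [(42, 4), (50, 0), (23, 4), (16, 8), (39, 0), (51, 0), (14, 0), (22, 0), (53, 0), (54, 0), (56, 0), (57, 0), (17, 0), (52, 0), (59, 0), (19, 0), (58, 4), (55, 0), (60, 1), (25, 12), (63, 0), (65, 0), (26, 0), (64, 0), (32, 8), (68, 0), (66, 0), (29, 0), (33, 12), (67, 12), (69, 0), (45, 0)], [(49, 0), (40, 0), (48, 8), (70, 8), (43, 0), (71, 0), (61, 8), (62, 0)]]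

def act1 : List (List (ℕ × ℕ)) :=
  [[(0, 1), (3, 0), (4, 0), (6, 0), (8, 0), (10, 0), (12, 0), (14, 0), (16, 0), (17, 0), (19, 0), (21, 0), (22, 0), (23, 0), (25, 0), (26, 0), (18, 1), (29, 0), (2, 12), (32, 0), (33, 0), (35, 0), (1, 0), (37, 0), (39, 0), (40, 0), (42, 0), (43, 0), (45, 0), (24, 1), (7, 8), (48, 0)], [(49, 0), (27, 0), (36, 1), (44, 12), (31, 1), (52, 0), (41, 4), (9, 12), (30, 4), (55, 0), (56, 8), (57, 4), (53, 12), (58, 0), (60, 0), (61, 0), (59, 12), (5, 0), (51, 12), (62, 0), (64, 0), (11, 4), (66, 0), (47, 4), (67, 0), (20, 8), (65, 1), (34, 12), (54, 12), (38, 1), (63, 12), (70, 0)], [(13, 0), (68, 1), (69, 4), (15, 4), (28, 8), (46, 12), (50, 4), (71, 12)]]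

def act2 : List (List (ℕ × ℕ)) :=
  [[(0, 2), (1, 2), (2, 2), (3, 2), (4, 2), (5, 2), (6, 2), (7, 2), (8, 2), (9, 2), (10, 2), (11, 2), (12, 2), (13, 2), (14, 2), (15, 2), (16, 2), (17, 2), (18, 2), (19, 2), (20, 2), (21, 2), (22, 2), (23, 2), (24, 2), (25, 2), (26, 2), (27, 2), (28, 2), (29, 2), (30, 2), (31, 2)], [(32, 2), (33, 2), (34, 2), (35, 2), (36, 2), (37, 2), (38, 2), (39, 2), (40, 2), (41, 2), (42, 2), (43, 2), (44, 2), (45, 2), (46, 2), (47, 2), (48, 2), (49, 2), (50, 2), (51, 2), (52, 2), (53, 2), (54, 2), (55, 2), (56, 2), (57, 2), (58, 2), (59, 2), (60, 2), (61, 2), (62, 2), (63, 2)], [(64, 2), (65, 2), (66, 2), (67, 2), (68, 2), (69, 2), (70, 2), (71, 2)]]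

def act3 : List (List (ℕ × ℕ)) :=
  [[(0, 3), (1, 3), (2, 3), (3, 3), (4, 3), (5, 3), (6, 3), (7, 3), (8, 3), (9, 3), (10, 3), (11, 3), (12, 3), (13, 3), (14, 3), (15, 3), (16, 3), (17, 3), (18, 3), (19, 3), (20, 3), (21, 3), (22, 3), (23, 3), (24, 3), (25, 3), (26, 3), (27, 3), (28, 3), (29, 3), (30, 3), (31, 3)], [(32, 3), (33, 3), (34, 3), (35, 3), (36, 3), (37, 3), (38, 3), (39, 3), (40, 3), (41, 3), (42, 3), (43, 3), (44, 3), (45, 3), (46, 3), (47, 3), (48, 3), (49, 3), (50, 3), (51, 3), (52, 3), (53, 3), (54, 3), (55, 3), (56, 3), (57, 3), (58, 3), (59, 3), (60, 3), (61, 3), (62, 3), (63, 3)], [(64, 3), (65, 3), (66, 3), (67, 3), (68, 3), (69, 3), (70, 3), (71, 3)]]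

def act4 : List (List (ℕ × ℕ)) :=
  [[(45, 4), (62, 4), (59, 4), (29, 8), (53, 4), (71, 8), (56, 1), (69, 8), (26, 12), (40, 4), (49, 1), (48, 12), (35, 8), (63, 8), (16, 12), (25, 4), (14, 1), (67, 8), (66, 1), (65, 0), (64, 1), (37, 0), (23, 8), (22, 4), (51, 8), (15, 8), (8, 1), (60, 0), (58, 1), (3, 4), (61, 12), (52, 1)], [(68, 0), (36, 12), (54, 1), (12, 4), (33, 1), (21, 0), (39, 4), (38, 8), (9, 8), (50, 12), (44, 12), (55, 4), (42, 1), (0, 8), (47, 12), (46, 1), (11, 1), (10, 12), (41, 1), (24, 4), (31, 12), (4, 8), (34, 12), (43, 8), (6, 12), (70, 4), (28, 12), (2, 8), (27, 0), (30, 1), (1, 8), (13, 4)], [(20, 12), (19, 0), (18, 12), (17, 4), (32, 0), (7, 4), (57, 8), (5, 4)]]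

def act5 : List (List (ℕ × ℕ)) :=
  [[(58, 4), (63, 1), (34, 1), (24, 12), (11, 12), (71, 4), (67, 1), (46, 4), (42, 12), (30, 12), (5, 1), (59, 8), (44, 4), (70, 8), (18, 0), (40, 4), (25, 1), (15, 0), (69, 8), (68, 1), (13, 1), (52, 0), (37, 8), (1, 4), (62, 8), (26, 8), (16, 1), (54, 12), (65, 4), (6, 4), (38, 0), (64, 1)], [(28, 8), (31, 0), (66, 1), (22, 4), (27, 1), (35, 0), (9, 1), (41, 0), (17, 8), (51, 8), (53, 8), (47, 12), (56, 12), (0, 12), (61, 12), (60, 1), (21, 1), (19, 12), (55, 1), (39, 4), (48, 12), (8, 8), (36, 0), (57, 0), (12, 12), (50, 12), (45, 12), (4, 8), (43, 0), (7, 12), (3, 8), (23, 4)], [(33, 12), (32, 0), (2, 8), (29, 4), (49, 0), (14, 4), (20, 1), (10, 4)]]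

def act6 : List (List (ℕ × ℕ)) :=
  [[(0, 0), (1, 0), (2, 0), (3, 0), (4, 0), (5, 0), (6, 0), (7, 0), (8, 0), (9, 0), (10, 0), (11, 0), (12, 0), (13, 0), (14, 0), (15, 0), (16, 0), (17, 0), (18, 0), (19, 0), (20, 0), (21, 0), (22, 0), (23, 0), (24, 0), (25, 0), (26, 0), (27, 0), (28, 0), (29, 0), (30, 0), (31, 0)], [(32, 0), (33, 0), (34, 0), (35, 0), (36, 0), (37, 0), (38, 0), (39, 0), (40, 0), (41, 0), (42, 0), (43, 0), (44, 0), (45, 0), (46, 0), (47, 0), (48, 0), (49, 0), (50, 0), (51, 0), (52, 0), (53, 0), (54, 0), (55, 0), (56, 0), (57, 0), (58, 0), (59, 0), (60, 0), (61, 0), (62, 0), (63, 0)], [(64, 0), (65, 0), (66, 0), (67, 0), (68, 0), (69, 0), (70, 0), (71, 0)]]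

def act7 : List (List (ℕ × ℕ)) :=
  [[(5, 1), (18, 0), (24, 0), (34, 0), (41, 0), (0, 12), (27, 4), (22, 0), (57, 0), (52, 0), (58, 4), (39, 1), (47, 1), (16, 1), (63, 1), (64, 0), (13, 12), (33, 12), (1, 0), (32, 8), (25, 8), (30, 12), (7, 0), (69, 0), (2, 0), (20, 4), (70, 8), (6, 8), (49, 0), (54, 8), (21, 1), (40, 8)], [(19, 4), (17, 1), (3, 0), (46, 12), (67, 0), (61, 8), (48, 0), (11, 12), (31, 4), (4, 0), (55, 1), (44, 0), (43, 0), (71, 4), (35, 1), (12, 12), (38, 0), (28, 0), (53, 8), (59, 12), (9, 0), (50, 4), (29, 4), (42, 12), (60, 1), (8, 0), (10, 8), (51, 1), (56, 12), (37, 4), (66, 12), (14, 12)], [(15, 0), (68, 8), (62, 1), (36, 0), (65, 4), (23, 0), (26, 4), (45, 8)]]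

def act8 : List (List (ℕ × ℕ)) :=
  [[(55, 12), (64, 12), (49, 12), (10, 4), (36, 1), (18, 4), (27, 12), (39, 1), (46, 12), (30, 4), (43, 4), (35, 1), (29, 1), (22, 1), (20, 8), (59, 12), (14, 8), (65, 8), (57, 4), (1, 8), (16, 12), (61, 1), (50, 4), (70, 1), (6, 8), (8, 4), (23, 12), (24, 8), (40, 8), (51, 0), (68, 4), (2, 8)], [(52, 4), (7, 4), (67, 0), (38, 1), (60, 8), (15, 1), (11, 8), (33, 4), (69, 4), (21, 4), (63, 0), (3, 1), (53, 8), (66, 8), (25, 12), (0, 8), (32, 4), (31, 8), (13, 4), (12, 12), (48, 1), (71, 4), (34, 4), (47, 8), (45, 0), (5, 1), (42, 4), (37, 0), (4, 1), (41, 4), (17, 0), (58, 8)], [(19, 8), (62, 4), (56, 4), (54, 8), (9, 1), (28, 0), (26, 0), (44, 0)]]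

def act9 : List (List (ℕ × ℕ)) :=
  [[(31, 4), (47, 4), (19, 4), (68, 12), (50, 8), (43, 12), (14, 4), (60, 12), (51, 12), (57, 12), (9, 8), (24, 4), (37, 1), (33, 8), (35, 12), (25, 8), (11, 1), (71, 0), (3, 8), (55, 4), (38, 4), (26, 8), (7, 12), (54, 1), (16, 4), (29, 1), (67, 4), (20, 1), (62, 0), (15, 1), (5, 8), (64, 4)], [(66, 0), (36, 8), (41, 8), (6, 12), (13, 12), (46, 0), (27, 4), (4, 12), (17, 4), (70, 0), (48, 1), (30, 8), (69, 0), (42, 0), (12, 12), (49, 4), (45, 12), (1, 1), (39, 8), (59, 0), (56, 0), (28, 4), (61, 8), (2, 1), (58, 8), (10, 8), (52, 4), (8, 1), (22, 4), (23, 1), (53, 8), (32, 8)], [(0, 1), (44, 4), (63, 4), (21, 0), (18, 8), (65, 8), (34, 4), (40, 8)]]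

def act10 : List (List (ℕ × ℕ)) :=
  [[(10, 8), (43, 4), (20, 8), (61, 1), (23, 12), (49, 8), (14, 0), (33, 4), (3, 1), (66, 8), (32, 4), (60, 12), (2, 12), (38, 12), (48, 4), (47, 8), (39, 0), (4, 1), (55, 12), (45, 0), (12, 8), (57, 1), (36, 1), (17, 0), (64, 12), (35, 8), (54, 8), (16, 4), (19, 8), (21, 0), (70, 12), (62, 0)], [(0, 0), (53, 12), (30, 4), (51, 12), (41, 8), (26, 0), (56, 12), (27, 8), (1, 0), (22, 1), (31, 12), (40, 8), (9, 1), (28, 4), (24, 4), (59, 0), (6, 8), (65, 8), (69, 0), (25, 8), (18, 4), (7, 12), (37, 4), (52, 12), (13, 4), (29, 12), (68, 0), (15, 4), (63, 12), (8, 8), (42, 1), (11, 4)], [(46, 12), (5, 12), (44, 1), (50, 4), (71, 12), (67, 8), (34, 12), (58, 1)]]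

def act11 : List (List (ℕ × ℕ)) :=
  [[(19, 4), (31, 4), (47, 4), (57, 12), (33, 8), (68, 12), (38, 4), (50, 8), (37, 12), (43, 12), (5, 8), (14, 4), (25, 0), (60, 12), (27, 4), (51, 12), (6, 1), (69, 0), (9, 8), (49, 4), (24, 4), (54, 8), (4, 12), (41, 1), (35, 12), (59, 1), (61, 8), (11, 1), (71, 0), (8, 1), (3, 8), (55, 4)], [(58, 0), (22, 8), (26, 8), (20, 12), (7, 12), (29, 0), (16, 4), (13, 12), (44, 4), (67, 4), (66, 8), (18, 8), (62, 0), (32, 8), (15, 1), (64, 4), (63, 12), (0, 1), (36, 8), (46, 0), (42, 0), (17, 4), (70, 0), (1, 1), (48, 1), (30, 8), (45, 4), (12, 12), (39, 4), (34, 12), (40, 8), (56, 0)], [(2, 1), (28, 4), (52, 4), (23, 4), (10, 8), (53, 8), (21, 4), (65, 8)]]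

def act12 : List (List (ℕ × ℕ)) :=
  [[(71, 12), (66, 1), (51, 8), (54, 1), (50, 12), (45, 1), (60, 4), (23, 8), (70, 4), (31, 12), (28, 1), (38, 12), (46, 4), (14, 4), (13, 8), (20, 12), (63, 4), (36, 8), (62, 4), (68, 8), (15, 1), (61, 8), (69, 8), (7, 4), (59, 4), (64, 8), (57, 1), (56, 12), (10, 12), (34, 4), (37, 1), (9, 1)], [(65, 4), (67, 12), (29, 8), (47, 8), (17, 4), (30, 12), (11, 1), (48, 8), (52, 8), (53, 4), (43, 12), (42, 1), (55, 4), (5, 12), (12, 8), (35, 4), (39, 4), (58, 1), (4, 1), (2, 4), (40, 4), (41, 8), (3, 12), (44, 8), (27, 1), (26, 12), (49, 12), (24, 8), (6, 8), (21, 4), (18, 8), (16, 8)], [(25, 4), (32, 8), (1, 12), (33, 1), (19, 4), (22, 4), (8, 8), (0, 1)]]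

def steps0 : List Step :=
  [.rule 0 [(1, 1), (2, 1), (3, 1), (4, 1), (6, 1), (7, 1), (8, 1), (9, 1), (11, 1), (12, 1), (13, 1), (14, 1), (15, 1), (16, 1), (17, 1), (18, 1), (20, 1), (21, 1), (22, 1), (23, 1), (24, 1), (25, 1), (26, 1), (27, 1), (29, 1), (30, 1), (31, 1), (33, 1), (34, 1), (35, 1), (36, 1), (37, 1), (38, 1), (39, 1), (40, 1), (41, 1), (42, 1), (43, 1), (44, 1), (46, 1), (47, 1), (48, 1), (50, 1), (51, 1), (52, 1), (53, 1), (54, 1), (55, 1), (56, 1), (57, 1), (59, 1), (60, 1), (61, 1), (62, 1), (63, 1), (64, 1), (66, 1), (67, 1), (69, 1), (70, 1)] [[], []] [(1, 1), (2, 1), (3, 1), (4, 1), (6, 1), (7, 1), (8, 1), (9, 1), (11, 1), (12, 1), (13, 1), (14, 1), (15, 1), (16, 1), (17, 1), (18, 1), (20, 1), (21, 1), (22, 1), (23, 1), (24, 1), (25, 1), (26, 1), (27, 1), (29, 1), (30, 1), (31, 1), (33, 1), (34, 1), (35, 1), (36, 1), (37, 1),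 (38, 1), (39, 1), (40, 1), (41, 1), (42, 1), (43, 1), (44, 1), (46, 1), (47, 1), (48, 1), (50, 1), (51, 1), (52, 1), (53, 1), (54, 1), (55, 1), (56, 1), (57, 1), (59, 1), (60, 1), (61, 1), (62, 1), (63, 1), (64, 1), (66, 1), (67, 1), (69, 1), (70, 1)],
   .tr 0 0 [(2, 1), (0, 1), (5, 1), (7, 1), (11, 1), (13, 1), (15, 1), (3, 1), (20, 1), (8, 1), (4, 1), (24, 1), (12, 1), (27, 1), (28, 1), (30, 1), (6, 1), (34, 1), (36, 1), (21, 1), (38, 1), (37, 1), (41, 1), (35, 1), (46, 1), (10, 1), (47, 1), (50, 1), (23, 1), (16, 1), (39, 1), (51, 1), (14, 1), (22, 1), (53, 1), (54, 1), (56, 1), (57, 1), (17, 1), (59, 1), (19, 1), (58, 1), (60, 1), (25, 1), (63, 1), (65, 1), (26, 1), (64, 1), (32, 1), (68, 1), (29, 1), (33, 1), (67, 1), (69, 1), (45, 1), (49, 1), (48, 1), (70, 1), (71, 1), (61, 1)],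
   .tr 0 1 [(0, 1), (1, 1), (9, 1), (13, 1), (20, 1), (4, 1), (12, 1), (5, 1), (6, 1), (15, 1), (7, 1), (38, 1), (8, 1), (35, 1), (44, 1), (10, 1), (11, 1), (23, 1), (39, 1), (34, 1), (14, 1), (51, 1), (54, 1), (16, 1), (59, 1), (18, 1), (19, 1), (60, 1), (21, 1), (27, 1), (22, 1), (25, 1), (24, 1), (36, 1), (65, 1), (26, 1), (32, 1), (68, 1), (28, 1), (29, 1), (31, 1), (66, 1), (33, 1), (37, 1), (45, 1), (40, 1), (41, 1), (49, 1), (42, 1), (43, 1), (46, 1), (50, 1), (70, 1), (71, 1), (52, 1), (55, 1), (58, 1), (61, 1), (62, 1), (67, 1)],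
   .tr 1 2 [(0, 1), (3, 1), (17, 1), (23, 1), (33, 1), (8, 1), (22, 1), (10, 1), (12, 1), (26, 1), (14, 1), (41, 1), (16, 1), (44, 1), (53, 1), (19, 1), (21, 1), (37, 1), (9, 1), (36, 1), (25, 1), (62, 1), (66, 1), (18, 1), (34, 1), (2, 1), (32, 1), (54, 1), (35, 1), (43, 1), (1, 1), (40, 1), (39, 1), (31, 1), (68, 1), (42, 1), (49, 1), (28, 1), (45, 1), (24, 1), (48, 1), (69, 1), (27, 1), (52, 1), (58, 1), (30, 1), (55, 1), (5, 1), (56, 1), (57, 1), (60, 1), (51, 1), (50, 1), (71, 1), (64, 1), (47, 1), (65, 1), (38, 1), (63, 1), (15, 1)],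
   .tr 1 3 [(0, 1), (6, 1), (29, 1), (37, 1), (27, 1), (16, 1), (1, 1), (19, 1), (22, 1), (42, 1), (25, 1), (55, 1), (18, 1), (53, 1), (11, 1), (32, 1), (35, 1), (52, 1), (17, 1), (31, 1), (40, 1), (63, 1), (69, 1), (2, 1), (36, 1), (4, 1), (49, 1), (66, 1), (44, 1), (57, 1), (3, 1), (30, 1), (9, 1), (48, 1), (28, 1), (56, 1), (5, 1), (45, 1), (58, 1), (39, 1), (59, 1), (46, 1), (43, 1), (64, 1), (65, 1), (7, 1), (47, 1), (10, 1), (67, 1), (20, 1), (54, 1), (62, 1), (51, 1), (71, 1), (13, 1), (61, 1), (68, 1), (41, 1), (70, 1), (26, 1)],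
   .rule 0 [(16, 1), (22, 1), (25, 1), (26, 1), (27, 1), (35, 1), (36, 1), (37, 1), (39, 1), (41, 1), (51, 1), (54, 1)] [[(0, 1), (1, 1), (2, 1), (3, 1), (4, 2)], []] [(16, 1), (22, 1), (25, 1), (26, 1), (27, 1), (35, 1), (36, 1), (37, 1), (39, 1), (41, 1), (51, 1), (54, 1)],
   .rule 1 [(3, 1), (4, 1), (7, 1), (11, 1), (13, 1), (17, 1), (20, 1), (23, 4), (24, 4), (26, 4), (27, 4), (28, 4), (29, 1), (30, 1), (31, 4), (40, 4), (46, 1), (47, 1), (48, 1), (49, 4), (53, 1), (56, 1), (57, 1), (59, 1), (61, 1), (63, 1), (64, 1), (67, 1)] [[(0, 4), (1, 4), (2, 3), (3, 3)], [(1, 4), (2, 3), (3, 3), (4, 4)]] [(3, 1), (4, 1), (7, 1), (11, 1), (13, 1), (17, 1), (20, 1), (23, 4), (24, 4), (26, 4), (27, 4), (28, 4), (29, 1), (30, 1), (31, 4), (40, 4), (46, 1), (47, 1), (48, 1), (49, 4), (53, 1), (56, 1), (57, 1), (59, 1), (61, 1), (63, 1), (64, 1), (67, 1)],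
   .tr 0 6 [(5, 1), (7, 1), (13, 1), (20, 1), (4, 1), (28, 1), (6, 1), (21, 4), (38, 4), (41, 4), (35, 4), (44, 4), (46, 1), (10, 1), (47, 4), (53, 4), (59, 1), (19, 1), (58, 1), (55, 4), (65, 1), (32, 1), (68, 1), (29, 1), (67, 1), (45, 1), (49, 1), (70, 1)],
   .tr 1 6 [(6, 1), (8, 1), (14, 1), (21, 1), (23, 1), (29, 1), (33, 1), (37, 4), (39, 4), (42, 4), (43, 4), (45, 4), (24, 1), (7, 1), (48, 4), (30, 4), (60, 1), (61, 1), (59, 1), (5, 4), (11, 1), (67, 1), (20, 1), (34, 1), (38, 1), (70, 1), (13, 1), (15, 1)],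
   .tr 0 7 [(9, 1), (13, 1), (4, 1), (6, 1), (7, 1), (44, 1), (11, 1), (34, 4), (14, 4), (54, 4), (16, 4), (17, 4), (59, 1), (18, 1), (19, 4), (65, 4), (29, 1), (31, 1), (66, 1), (64, 4), (40, 1), (42, 1), (43, 1), (46, 1), (70, 1), (52, 1), (55, 1), (61, 1)],
   .tr 0 8 [(11, 1), (15, 1), (24, 1), (34, 1), (21, 1), (46, 1), (50, 1), (51, 4), (22, 4), (56, 4), (57, 4), (52, 4), (38, 1), (13, 1), (58, 4), (10, 4), (33, 1), (67, 1), (29, 1), (9, 4), (20, 1), (70, 1), (6, 1), (23, 1), (14, 1), (61, 1), (4, 1), (12, 1)],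
   .rule 3 [(2, 4), (3, 2), (6, 3), (7, 1), (8, 2), (9, 1), (10, 1), (11, 4), (12, 4), (13, 4), (14, 4), (15, 4), (16, 3), (17, 1), (20, 4), (21, 1), (23, 4), (24, 3), (25, 3), (26, 4), (27, 2), (28, 4), (29, 1), (30, 2), (31, 4), (34, 1), (35, 3), (36, 4), (38, 4), (39, 3), (40, 4), (41, 4), (46, 4), (49, 4), (51, 4), (52, 1), (53, 1), (56, 1), (57, 3), (58, 1), (61, 1)] [[(0, 3), (1, 2), (2, 3), (3, 4), (4, 1), (5, 1), (7, 4), (8, 4), (9, 3), (10, 3)], [(0, 3), (1, 4), (3, 3), (4, 4), (6, 1), (7, 4), (8, 1), (10, 4)]] [(2, 4), (3, 2), (6, 3), (7, 1), (8, 2), (9, 1), (10, 1), (11, 4), (12, 4), (13, 4), (14, 4), (15, 4), (16, 3), (17, 1), (20, 4), (21, 1), (23, 4), (24, 3), (25, 3), (26, 4), (27, 2), (28, 4), (29, 1), (30, 2), (31, 4), (34, 1), (35, 3), (36, 4), (38, 4), (39, 3), (40, 4), (41, 4), (46, 4), (49, 4), (51, 4), (52, 1), (53, 1), (56, 1),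 (57, 3), (58, 1), (61, 1)],
   .tr 0 11 [(0, 4), (5, 2), (11, 3), (13, 1), (15, 2), (3, 1), (18, 1), (20, 4), (8, 4), (4, 4), (24, 4), (12, 4), (27, 3), (28, 1), (6, 4), (34, 1), (21, 4), (38, 3), (37, 3), (41, 4), (35, 2), (44, 4), (46, 1), (10, 2), (47, 4), (23, 1), (16, 3), (39, 4), (14, 4), (22, 3), (53, 4), (54, 4), (59, 4), (55, 4), (25, 4), (63, 1), (65, 1), (32, 1), (68, 3), (66, 1), (67, 1)],
   .tr 1 11 [(4, 4), (6, 2), (12, 3), (14, 1), (16, 2), (17, 1), (19, 1), (21, 4), (22, 4), (23, 4), (25, 4), (26, 4), (18, 3), (29, 1), (33, 4), (35, 1), (37, 4), (39, 3), (40, 3), (42, 4), (43, 2), (45, 4), (24, 1), (7, 2), (48, 4), (36, 1), (44, 3), (31, 4), (41, 4), (9, 3), (30, 4), (55, 4), (60, 4), (5, 4), (62, 4), (64, 1), (11, 1), (67, 1), (20, 3), (65, 1), (38, 1)],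
   .tr 0 12 [(1, 4), (9, 2), (20, 3), (4, 1), (12, 2), (5, 1), (30, 1), (6, 4), (15, 4), (7, 4), (38, 4), (8, 4), (35, 3), (44, 1), (11, 4), (23, 1), (34, 4), (14, 3), (51, 3), (54, 4), (16, 2), (17, 4), (59, 1), (18, 2), (19, 4), (21, 1), (27, 3), (22, 4), (24, 4), (36, 3), (65, 4), (26, 4), (29, 4), (64, 4), (37, 4), (45, 1), (40, 1), (42, 1), (43, 3), (48, 1), (70, 1)],
   .tr 1 12 [(0, 4), (10, 2), (21, 3), (23, 1), (26, 2), (6, 1), (2, 1), (33, 4), (16, 4), (8, 4), (39, 4), (22, 4), (43, 3), (45, 1), (12, 4), (36, 1), (35, 4), (41, 3), (52, 3), (55, 4), (44, 2), (53, 4), (60, 1), (19, 2), (61, 4), (37, 1), (18, 3), (9, 4), (25, 4), (1, 3), (11, 4), (66, 4), (34, 4), (47, 4), (40, 4), (70, 1), (68, 1), (49, 1), (28, 3), (69, 1), (15, 1)],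
   .tr 0 13 [(7, 4), (11, 2), (8, 3), (24, 1), (27, 2), (28, 1), (31, 1), (34, 4), (36, 4), (21, 4), (37, 4), (41, 4), (30, 3), (46, 1), (50, 4), (16, 1), (51, 4), (22, 3), (53, 3), (56, 4), (57, 2), (52, 4), (38, 1), (13, 2), (58, 4), (39, 1), (17, 3), (47, 4), (54, 4), (3, 3), (10, 4), (64, 4), (33, 4), (9, 4), (69, 4), (49, 1), (20, 1), (70, 1), (6, 3), (40, 1), (14, 1)],
   .tr 1 13 [(8, 4), (12, 2), (22, 3), (25, 1), (18, 2), (29, 1), (32, 1), (35, 4), (1, 4), (37, 4), (40, 4), (42, 4), (2, 3), (24, 1), (27, 4), (44, 1), (52, 4), (9, 3), (30, 3), (56, 4), (57, 2), (58, 4), (39, 1), (14, 2), (59, 4), (31, 1), (53, 3), (48, 4), (55, 4), (17, 3), (7, 4), (47, 4), (54, 4), (10, 4), (63, 4), (13, 1), (21, 1), (15, 1), (33, 3), (68, 1), (41, 1)],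
   .tr 1 14 [(3, 4), (17, 2), (33, 3), (8, 1), (22, 2), (10, 1), (7, 1), (12, 4), (26, 4), (14, 4), (41, 4), (16, 4), (44, 3), (53, 1), (21, 4), (37, 1), (36, 4), (25, 3), (62, 3), (66, 4), (18, 2), (29, 4), (34, 1), (2, 2), (32, 4), (35, 1), (43, 3), (1, 4), (39, 4), (31, 3), (68, 4), (42, 4), (24, 4), (13, 4), (52, 4), (58, 1), (30, 1), (56, 1), (57, 3), (59, 1), (50, 1)],
   .tr 1 15 [(0, 4), (19, 2), (35, 3), (37, 1), (42, 2), (12, 1), (4, 1), (27, 4), (18, 4), (16, 4), (9, 4), (1, 4), (57, 3), (58, 1), (22, 4), (31, 1), (44, 4), (55, 3), (64, 3), (47, 4), (53, 2), (11, 4), (54, 1), (32, 2), (38, 4), (52, 1), (2, 3), (17, 4), (40, 4), (3, 3), (21, 4), (69, 4), (36, 4), (61, 4), (30, 4), (50, 1), (28, 1), (5, 1), (45, 3), (46, 1), (26, 1)],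
   .tr 0 16 [(13, 4), (20, 2), (15, 3), (38, 1), (35, 2), (44, 1), (47, 1), (23, 4), (39, 4), (34, 4), (51, 4), (54, 4), (10, 3), (59, 1), (60, 4), (27, 1), (25, 4), (36, 3), (65, 3), (32, 4), (68, 2), (63, 4), (14, 1), (4, 2), (66, 4), (22, 1), (28, 3), (19, 4), (26, 4), (5, 3), (18, 4), (49, 4), (50, 4), (3, 4), (71, 4), (55, 1), (6, 1), (61, 1), (11, 3), (53, 1), (24, 1)],
   .tr 0 17 [(15, 4), (8, 2), (36, 3), (37, 1), (30, 2), (46, 1), (42, 1), (16, 4), (2, 4), (51, 4), (53, 4), (56, 4), (0, 3), (38, 1), (35, 4), (17, 1), (63, 4), (3, 3), (10, 3), (32, 4), (68, 2), (66, 4), (22, 1), (24, 2), (29, 4), (47, 1), (65, 3), (58, 4), (64, 4), (28, 3), (13, 4), (19, 4), (26, 4), (18, 4), (45, 4), (4, 1), (34, 1), (12, 1), (50, 3), (43, 1), (54, 1)],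
   .tr 1 17 [(16, 4), (22, 2), (1, 3), (40, 1), (2, 2), (24, 1), (49, 1), (44, 4), (3, 4), (52, 4), (30, 4), (56, 4), (4, 3), (39, 1), (43, 4), (53, 1), (64, 4), (17, 3), (7, 3), (67, 4), (20, 2), (65, 4), (9, 1), (25, 2), (34, 4), (48, 1), (11, 3), (59, 4), (47, 4), (29, 3), (14, 4), (61, 4), (66, 4), (19, 4), (70, 4), (23, 1), (35, 1), (26, 1), (27, 3), (28, 1), (55, 1)],
   .tr 0 18 [(5, 4), (28, 2), (50, 3), (15, 1), (36, 2), (18, 1), (13, 1), (8, 4), (41, 4), (24, 4), (54, 4), (27, 4), (17, 3), (65, 1), (34, 4), (51, 1), (39, 4), (37, 3), (69, 3), (48, 4), (30, 2), (46, 4), (23, 1), (0, 2), (42, 4), (16, 1), (57, 3), (2, 4), (22, 4), (47, 3), (43, 4), (56, 4), (38, 4), (4, 4), (63, 4), (66, 1), (10, 1), (32, 1), (68, 3), (29, 1), (60, 1)],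
   .tr 1 18 [(6, 4), (29, 2), (27, 3), (16, 1), (1, 2), (19, 1), (14, 1), (22, 4), (42, 4), (25, 4), (55, 4), (18, 4), (53, 3), (11, 1), (35, 4), (52, 1), (31, 4), (40, 3), (63, 3), (69, 4), (2, 2), (24, 4), (36, 1), (4, 2), (49, 4), (44, 1), (57, 3), (3, 4), (9, 4), (48, 3), (28, 4), (56, 4), (39, 4), (23, 4), (64, 4), (65, 1), (7, 1), (67, 1), (20, 3), (34, 1), (51, 1)],
   .tr 1 19 [(0, 4), (32, 2), (44, 3), (52, 1), (56, 2), (22, 1), (8, 1), (43, 4), (2, 4), (18, 4), (17, 4), (3, 4), (20, 3), (65, 1), (1, 4), (48, 1), (53, 4), (47, 3), (13, 3), (61, 4), (11, 2), (21, 4), (66, 1), (49, 2), (41, 4), (64, 1), (4, 3), (29, 4), (30, 4), (6, 3), (35, 4), (46, 4), (31, 4), (38, 4), (7, 4), (51, 1), (45, 1), (10, 1), (58, 3), (60, 1), (42, 1)],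
   .tr 1 20 [(23, 4), (33, 2), (26, 3), (41, 1), (44, 2), (53, 1), (61, 1), (37, 4), (9, 4), (36, 4), (62, 4), (66, 4), (19, 3), (34, 1), (54, 4), (43, 1), (40, 4), (31, 3), (68, 3), (49, 4), (28, 2), (70, 4), (25, 1), (8, 2), (69, 4), (1, 1), (45, 3), (32, 4), (42, 4), (10, 3), (2, 4), (5, 4), (51, 4), (6, 4), (71, 4), (47, 1), (12, 1), (38, 1), (21, 3), (11, 1), (39, 1)],
   .tr 1 21 [(26, 4), (16, 2), (31, 3), (52, 1), (7, 2), (60, 1), (56, 1), (18, 4), (4, 4), (62, 4), (11, 4), (67, 4), (0, 3), (41, 1), (44, 4), (29, 1), (70, 4), (6, 3), (19, 3), (49, 4), (28, 2), (69, 4), (1, 1), (39, 2), (24, 4), (61, 1), (68, 3), (65, 4), (13, 4), (45, 3), (23, 4), (32, 4), (42, 4), (2, 4), (58, 4), (8, 1), (36, 1), (22, 1), (51, 3), (57, 1), (66, 1)],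
   .tr 1 23 [(10, 4), (45, 2), (51, 3), (26, 1), (31, 2), (2, 1), (23, 1), (16, 4), (55, 4), (39, 4), (66, 4), (43, 4), (29, 3), (68, 1), (36, 4), (62, 1), (9, 4), (52, 3), (46, 3), (59, 4), (7, 2), (60, 4), (37, 1), (0, 2), (56, 4), (18, 1), (20, 3), (4, 4), (1, 4), (61, 3), (57, 4), (67, 4), (41, 4), (8, 4), (70, 4), (69, 1), (19, 1), (49, 1), (28, 3), (24, 1), (54, 1)],
   .tr 0 24 [(11, 4), (46, 2), (35, 3), (27, 1), (2, 2), (31, 1), (24, 1), (36, 4), (56, 4), (37, 4), (64, 4), (30, 4), (65, 3), (20, 1), (16, 4), (63, 1), (47, 4), (53, 3), (45, 3), (71, 4), (0, 2), (38, 4), (39, 1), (7, 2), (55, 4), (17, 1), (68, 3), (5, 4), (3, 4), (58, 3), (44, 4), (32, 4), (22, 4), (21, 4), (49, 4), (40, 1), (13, 1), (70, 1), (6, 3), (23, 1), (25, 1)],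
   .rule 3 [(0, 3), (1, 2), (2, 3), (5, 4), (7, 4), (9, 1), (10, 4), (11, 2), (12, 2), (14, 1), (15, 3), (16, 1), (17, 2), (18, 3), (19, 3), (20, 2), (22, 3), (23, 3), (24, 4), (25, 3), (27, 1), (28, 2), (29, 2), (30, 4), (31, 3), (32, 1), (33, 3), (34, 4), (35, 1), (36, 1), (38, 3), (40, 2), (41, 1)] [[(0, 3), (1, 3), (2, 2), (3, 3), (4, 1), (5, 3), (6, 4), (7, 3), (8, 2), (9, 1), (10, 2), (11, 2), (12, 1), (14, 1), (16, 2), (17, 2), (18, 4), (19, 4), (20, 4), (22, 4), (25, 4), (26, 4), (27, 1), (28, 1), (29, 1)], [(0, 2), (1, 3), (3, 2), (4, 1), (5, 2), (7, 4), (8, 2), (10, 2), (11, 4), (12, 3), (13, 1), (14, 2), (16, 3), (17, 1), (19, 3), (21, 4), (22, 2), (25, 2), (26, 4), (27, 1), (28, 1), (29, 4)]] [(0, 3), (1, 2), (2, 3), (5, 4), (7, 4), (9, 1), (10, 4), (11, 2), (12, 2), (14, 1), (15, 3), (16, 1), (17, 2), (18, 3), (19, 3), (20, 2), (22, 3),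 (23, 3), (24, 4), (25, 3), (27, 1), (28, 2), (29, 2), (30, 4), (31, 3), (32, 1), (33, 3), (34, 4), (35, 1), (36, 1), (38, 3), (40, 2), (41, 1)],
   .tr 0 30 [(1, 3), (2, 2), (0, 3), (9, 4), (13, 4), (3, 1), (18, 4), (20, 2), (8, 2), (24, 1), (12, 3), (27, 1), (28, 2), (30, 3), (31, 3), (6, 2), (36, 3), (21, 3), (38, 4), (37, 3), (35, 1), (44, 2), (46, 2), (10, 4), (47, 3), (42, 1), (50, 3), (23, 4), (16, 1), (39, 1), (14, 3), (53, 2), (54, 1)]]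

def steps1 : List Step :=
  [.tr 1 30 [(0, 3), (3, 2), (4, 3), (10, 4), (14, 4), (17, 1), (19, 4), (21, 2), (22, 2), (25, 1), (26, 3), (18, 1), (29, 2), (2, 3), (32, 3), (33, 2), (1, 3), (37, 3), (39, 4), (40, 3), (43, 1), (45, 2), (24, 2), (7, 4), (48, 3), (49, 1), (27, 3), (36, 4), (44, 1), (31, 1), (41, 3), (30, 2), (55, 1)],
   .tr 1 31 [(3, 3), (4, 2), (0, 3), (17, 4), (23, 4), (6, 1), (2, 4), (33, 2), (16, 2), (39, 1), (22, 3), (43, 1), (45, 2), (7, 3), (48, 3), (12, 2), (31, 3), (35, 3), (41, 4), (52, 3), (44, 1), (53, 2), (60, 2), (19, 4), (61, 3), (56, 1), (51, 3), (37, 4), (18, 1), (9, 1), (25, 3), (11, 2), (66, 1)],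
   .tr 1 32 [(0, 3), (6, 2), (8, 3), (19, 4), (25, 4), (29, 1), (32, 4), (35, 2), (1, 2), (40, 1), (42, 3), (2, 1), (24, 2), (4, 3), (49, 3), (27, 2), (3, 3), (52, 3), (9, 4), (30, 3), (57, 1), (58, 2), (39, 2), (14, 4), (59, 3), (5, 1), (43, 3), (31, 4), (53, 1), (48, 1), (55, 3), (7, 2), (47, 1)],
   .tr 1 33 [(6, 3), (8, 2), (0, 3), (29, 4), (37, 4), (12, 1), (4, 4), (27, 2), (18, 2), (9, 1), (1, 3), (57, 1), (58, 2), (14, 3), (59, 3), (22, 2), (48, 3), (44, 3), (55, 4), (64, 3), (53, 1), (11, 2), (54, 2), (32, 4), (38, 3), (67, 1), (62, 3), (52, 4), (2, 1), (17, 1), (40, 3), (21, 2), (69, 1)],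
   .tr 0 34 [(1, 3), (11, 2), (15, 3), (31, 4), (37, 4), (46, 1), (42, 4), (16, 2), (2, 2), (53, 1), (56, 3), (0, 1), (38, 2), (7, 3), (55, 3), (35, 2), (5, 3), (63, 3), (3, 4), (10, 3), (68, 1), (66, 2), (22, 2), (24, 4), (29, 3), (9, 1), (57, 3), (47, 4), (65, 1), (58, 1), (64, 3), (13, 2), (19, 1)],
   .tr 1 34 [(0, 3), (12, 2), (16, 3), (32, 4), (40, 4), (24, 1), (49, 4), (44, 2), (3, 2), (30, 1), (56, 3), (4, 1), (39, 2), (8, 3), (5, 3), (43, 2), (6, 3), (64, 3), (17, 4), (7, 3), (20, 1), (65, 2), (9, 2), (25, 4), (34, 3), (10, 1), (57, 3), (48, 4), (11, 1), (59, 1), (47, 3), (14, 2), (61, 1)],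
   .tr 1 35 [(12, 3), (16, 2), (0, 3), (24, 4), (52, 4), (22, 1), (8, 4), (43, 2), (2, 2), (17, 1), (3, 3), (20, 1), (65, 2), (25, 3), (34, 3), (1, 2), (59, 3), (53, 3), (47, 4), (13, 3), (11, 1), (21, 2), (66, 2), (49, 4), (41, 3), (15, 1), (63, 3), (64, 4), (4, 1), (29, 1), (30, 3), (35, 2), (46, 1)],
   .tr 1 36 [(3, 3), (21, 2), (26, 3), (48, 4), (52, 4), (60, 1), (56, 4), (18, 2), (4, 2), (11, 1), (67, 3), (0, 1), (41, 2), (14, 3), (47, 3), (44, 2), (10, 3), (70, 3), (6, 4), (19, 3), (28, 1), (69, 2), (1, 2), (39, 4), (24, 3), (17, 1), (20, 3), (61, 4), (68, 1), (65, 1), (13, 3), (23, 2), (32, 1)],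
   .rule 4 [(0, 1)] [[], [], []] [(0, 1), (71, 1)],
   .tr 0 40 [(1, 1), (62, 1)],
   .tr 0 41 [(2, 1), (69, 1)],
   .tr 1 41 [(3, 1), (63, 1)],
   .tr 1 42 [(4, 1), (46, 1)],
   .tr 0 43 [(5, 1), (45, 1)],
   .tr 1 43 [(6, 1), (70, 1)],
   .tr 0 44 [(7, 1), (59, 1)],
   .tr 1 44 [(8, 1), (60, 1)],
   .tr 0 45 [(9, 1), (52, 1)],
   .tr 1 45 [(10, 1), (58, 1)],
   .tr 1 46 [(12, 1), (50, 1)],
   .tr 0 47 [(13, 1), (29, 1)],
   .tr 1 47 [(14, 1), (34, 1)],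
   .tr 0 48 [(15, 1), (33, 1)],
   .rule 4 [(1, 4), (3, 4), (4, 2), (7, 3), (8, 2), (9, 4), (10, 3), (11, 3), (12, 1), (13, 1)] [[(2, 1), (3, 2), (4, 2), (5, 4), (6, 1), (7, 3), (8, 4), (9, 3), (10, 1), (11, 3), (12, 4), (13, 3), (14, 4), (15, 3), (16, 4), (17, 1), (18, 1), (19, 4), (20, 4), (21, 3), (22, 4), (23, 4), (24, 3), (25, 1), (26, 3), (27, 4), (28, 1), (29, 3), (30, 4), (31, 2), (32, 4), (33, 3), (34, 2), (35, 4), (36, 4), (38, 1), (39, 1), (41, 4), (42, 2), (43, 1), (44, 4), (45, 1), (46, 1), (47, 1), (48, 2), (49, 2), (50, 4), (51, 2), (52, 1), (53, 2), (54, 4)], [], []] [(1, 4), (3, 4), (4, 2), (7, 3), (8, 2), (9, 4), (10, 3), (11, 3), (12, 1), (13, 1), (66, 4), (54, 4), (50, 2), (23, 3), (70, 2), (31, 4), (28, 3), (38, 3), (46, 1), (14, 1)],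
   .tr 0 55 [(2, 4), (5, 4), (7, 2), (13, 3), (15, 2), (3, 4), (18, 3), (20, 3), (8, 1), (4, 1), (48, 4), (26, 4), (60, 2), (21, 3), (61, 2), (47, 4), (44, 3), (14, 3), (59, 1), (24, 1)],
   .tr 0 56 [(0, 4), (9, 4), (13, 2), (4, 3), (12, 2), (5, 4), (30, 3), (6, 3), (15, 1), (7, 1), (58, 4), (41, 4), (33, 2), (34, 3), (67, 2), (19, 4), (17, 3), (24, 3), (29, 1), (38, 1)],
   .tr 1 56 [(4, 4), (10, 4), (14, 2), (23, 3), (26, 2), (6, 4), (2, 3), (33, 3), (16, 1), (8, 1), (59, 4), (42, 4), (54, 2), (35, 3), (38, 2), (61, 4), (53, 3), (25, 3), (34, 1), (39, 1)],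
   .tr 1 57 [(0, 4), (17, 4), (23, 2), (8, 3), (22, 2), (10, 4), (7, 3), (12, 3), (26, 1), (14, 1), (65, 4), (55, 4), (27, 2), (36, 3), (15, 2), (32, 4), (29, 3), (39, 3), (24, 1), (41, 1)],
   .tr 0 58 [(7, 4), (18, 4), (24, 2), (21, 3), (41, 2), (11, 4), (0, 3), (50, 3), (27, 1), (15, 1), (29, 4), (56, 4), (26, 2), (16, 3), (14, 2), (67, 4), (65, 3), (37, 3), (23, 1), (22, 1)],
   .tr 1 58 [(8, 4), (19, 4), (25, 2), (37, 3), (42, 2), (12, 4), (4, 3), (27, 3), (18, 1), (16, 1), (34, 4), (56, 4), (66, 2), (44, 3), (41, 2), (38, 4), (11, 3), (40, 3), (36, 1), (9, 1)],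
   .tr 0 59 [(1, 4), (28, 4), (21, 2), (15, 3), (36, 2), (18, 4), (13, 3), (8, 3), (41, 1), (24, 1), (40, 4), (64, 4), (35, 2), (39, 3), (12, 2), (42, 4), (46, 3), (22, 3), (38, 1), (54, 1)],
   .tr 1 59 [(0, 4), (29, 4), (37, 2), (16, 3), (1, 2), (19, 4), (14, 3), (22, 3), (42, 1), (25, 1), (68, 4), (47, 4), (43, 2), (31, 3), (26, 2), (49, 4), (24, 3), (9, 3), (39, 1), (55, 1)]]

def steps2 : List Step :=
  [.tr 1 60 [(14, 4), (2, 4), (39, 2), (35, 3), (55, 2), (21, 4), (0, 3), (51, 3), (43, 1), (26, 1), (24, 4), (67, 4), (42, 2), (18, 3), (25, 2), (15, 4), (68, 3), (52, 3), (37, 1), (1, 1)],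
   .tr 0 61 [(15, 4), (31, 4), (37, 2), (51, 3), (56, 2), (8, 4), (7, 3), (35, 3), (30, 1), (27, 1), (23, 4), (32, 4), (48, 2), (17, 3), (54, 2), (14, 4), (20, 3), (53, 3), (39, 1), (3, 1)],
   .tr 1 61 [(16, 4), (32, 4), (40, 2), (52, 3), (56, 2), (22, 4), (8, 3), (43, 3), (2, 1), (18, 1), (36, 4), (67, 4), (69, 2), (53, 3), (55, 2), (41, 4), (21, 3), (30, 3), (31, 1), (17, 1)]]

def data : Cert where
  n := 10
  p := 5
  N := 72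
  gens := gens
  hgens := [(1, 1), (2, 1), (3, 1)]
  hel := hel
  reps := reps
  act := [act0, act1, act2, act3, act4, act5, act6, act7, act8, act9, act10, act11, act12]
  rules := [⟨[(4, 1), (5, 1)], [(1, 6)]⟩, ⟨[(7, 1), (8, 1)], [(1, 6)]⟩, ⟨[(7, 1), (9, 1)], [(1, 6)]⟩, ⟨[(10, 1), (11, 1)], [(1, 6)]⟩, ⟨[(1, 1), (2, 1), (3, 1)], [(1, 6), (1, 12)]⟩]
  steps := [steps0, steps1, steps2]
  final := [(0, 1), (1, 3), (2, 3), (3, 4), (4, 2), (5, 2), (6, 3), (7, 1), (8, 3), (9, 4), (10, 2), (11, 2), (12, 1), (13, 1), (14, 1), (15, 1), (16, 2), (17, 2), (18, 4), (21, 2), (22, 3), (23, 3), (24, 1), (25, 3), (26, 3), (27, 4), (28, 3), (29, 1), (30, 4), (31, 2), (32, 3), (33, 3), (34, 2), (35, 2), (36, 4), (37, 3), (38, 4), (39, 4), (40, 2), (41, 2), (42, 4), (45, 1), (46, 1), (47, 2), (48, 4), (49, 2), (50, 4), (51, 3), (52, 4), (53, 3), (55, 3), (59, 1), (62,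 1), (63, 1), (64, 1), (65, 1), (66, 4)]

theorem gens_good : ∀ t ∈ data.gens, Good data.n t :=
  data.gens_good [[(4, 5, 6)], [(5, 6, 7), (7, 8, 9)], [(0, 1, 2), (1, 2, 3)], [(0, 2, 1), (1, 3, 2)], [(6, 7, 8), (7, 8, 9)], [(5, 6, 8)], [], [(6, 8, 7), (7, 9, 8)], [(4, 5, 6), (7, 9, 8)], [(4, 5, 6), (7, 8, 9)], [(6, 7, 8)], [(7, 8, 9)], [(6, 9, 7), (7, 8, 9)]] rfl (by decide +kernel)

theorem base : data.baseOK = true := by decide +kernel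

theorem actP0 : (List.range 0).all data.actPart = true := rfl

theorem actP1 : (List.range 1).all data.actPart = true :=
  Cert.all_range_succ actP0 (by decide +kernel)

theorem actP2 : (List.range 2).all data.actPart = true :=
  Cert.all_range_succ actP1 (by decide +kernel)

theorem actP3 : (List.range 3).all data.actPart = true :=
  Cert.all_range_succ actP2 (by decide +kernel)

theorem actP4 : (List.range 4).all data.actPart = true :=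
  Cert.all_range_succ actP3 (by decide +kernel)

theorem actP5 : (List.range 5).all data.actPart = true :=
  Cert.all_range_succ actP4 (by decide +kernel)

theorem actP6 : (List.range 6).all data.actPart = true :=
  Cert.all_range_succ actP5 (by decide +kernel)

theorem actP7 : (List.range 7).all data.actPart = true :=
  Cert.all_range_succ actP6 (by decide +kernel)

theorem actP8 : (List.range 8).all data.actPart = true :=
  Cert.all_range_succ actP7 (by decide +kernel)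

theorem actP9 : (List.range 9).all data.actPart = true :=
  Cert.all_range_succ actP8 (by decide +kernel)

theorem actP10 : (List.range 10).all data.actPart = true :=
  Cert.all_range_succ actP9 (by decide +kernel)

theorem actP11 : (List.range 11).all data.actPart = true :=
  Cert.all_range_succ actP10 (by decide +kernel)

theorem actP12 : (List.range 12).all data.actPart = true :=
  Cert.all_range_succ actP11 (by decide +kernel)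

theorem actP13 : (List.range 13).all data.actPart = true :=
  Cert.all_range_succ actP12 (by decide +kernel)

theorem stp0 : data.stepsOK 0 = true := rfl

theorem stp1 : data.stepsOK 67 = true :=
  data.stepsOK_add stp0 67 (by decide +kernel)

theorem numSteps_eq : data.numSteps = 67 := by decide +kernel

theorem check : data.check = true := by
  simp only [Cert.check, Bool.and_eq_true]
  exact ⟨base, actP13, numSteps_eq ▸ stp1⟩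

end CfsgLib.AltCentral.FiveUm
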