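import Cfsg.Agent.Lib.AltCentral.CertGood

/-! Certificate data: stage FiveUp, degree 10, characteristic 5. -/

set_option autoImplicit false
set_option maxRecDepth 100000

namespace CfsgLib.AltCentral.FiveUp

def gens : List (List ℕ) :=
  [[0, 1, 2, 3, 5, 6, 4, 7, 8, 9], [0, 1, 2, 3, 4, 6, 7, 8, 9, 5], [1, 2, 0, 3, 4, 5, 6, 7, 8, 9], [0, 2, 3, 1, 4, 5, 6, 7, 8, 9], [0, 1, 2, 3, 4, 5, 7, 6, 9, 8], [0, 1, 2, 3, 4, 6, 8, 7, 5, 9], [0, 1, 2, 3, 4, 5, 6, 7, 8, 9], [0, 1, 2, 3, 4, 5, 8, 9, 6, 7], [0, 1, 2, 3, 5, 6, 4, 9, 7, 8], [0, 1, 2, 3, 5, 6, 4, 8, 9, 7], [0, 1, 2, 3, 4, 5, 9, 8, 7, 6]]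

def hel : List (List (ℕ × ℕ × List ℕ × ℕ)) :=
  [[(0, 0, [0, 1, 2, 3, 4, 5, 6, 7, 8, 9], 1), (0, 0, [0, 1, 2, 3, 4, 6, 7, 8, 9, 5], 1), (1, 0, [1, 2, 0, 3, 4, 5, 6, 7, 8, 9], 1), (2, 0, [0, 2, 3, 1, 4, 5, 6, 7, 8, 9], 1), (0, 1, [0, 1, 2, 3, 4, 7, 8, 9, 5, 6], 1), (1, 1, [1, 2, 0, 3, 4, 6, 7, 8, 9, 5], 1), (2, 1, [0, 2, 3, 1, 4, 6, 7, 8, 9, 5], 1), (1, 2, [2, 0, 1, 3, 4, 5, 6, 7, 8, 9], 1), (2, 2, [2, 3, 0, 1, 4, 5, 6, 7, 8, 9], 1), (1, 3, [1, 0, 3, 2, 4, 5, 6, 7, 8, 9], 1), (2, 3, [0, 3, 1, 2, 4, 5, 6, 7, 8, 9], 1), (0, 4, [0, 1, 2, 3, 4, 8, 9, 5, 6, 7], 1), (1, 4, [1, 2, 0, 3, 4, 7, 8, 9, 5, 6], 1), (2, 4, [0, 2, 3, 1, 4, 7, 8, 9, 5, 6], 1), (1, 5, [2, 0, 1, 3, 4, 6, 7, 8, 9, 5], 1), (2, 5, [2, 3, 0, 1, 4, 6, 7, 8, 9, 5], 1), (1, 6, [1, 0, 3, 2, 4, 6, 7, 8, 9, 5], 1), (2, 6, [0, 3, 1, 2, 4, 6, 7, 8, 9, 5], 1), (2, 7, [3, 0,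 2, 1, 4, 5, 6, 7, 8, 9], 1), (2, 8, [3, 1, 0, 2, 4, 5, 6, 7, 8, 9], 1), (1, 9, [2, 1, 3, 0, 4, 5, 6, 7, 8, 9], 1), (1, 10, [1, 3, 2, 0, 4, 5, 6, 7, 8, 9], 1), (0, 11, [0, 1, 2, 3, 4, 9, 5, 6, 7, 8], 1), (1, 11, [1, 2, 0, 3, 4, 8, 9, 5, 6, 7], 1), (2, 11, [0, 2, 3, 1, 4, 8, 9, 5, 6, 7], 1), (1, 12, [2, 0, 1, 3, 4, 7, 8, 9, 5, 6], 1), (2, 12, [2, 3, 0, 1, 4, 7, 8, 9, 5, 6], 1), (1, 13, [1, 0, 3, 2, 4, 7, 8, 9, 5, 6], 1), (2, 13, [0, 3, 1, 2, 4, 7, 8, 9, 5, 6], 1), (2, 14, [3, 0, 2, 1, 4, 6, 7, 8, 9, 5], 1), (2, 15, [3, 1, 0, 2, 4, 6, 7, 8, 9, 5], 1), (1, 16, [2, 1, 3, 0, 4, 6, 7, 8, 9, 5], 1)], [(1, 17, [1, 3, 2, 0, 4, 6, 7, 8, 9, 5], 1), (1, 19, [3, 2, 1, 0, 4, 5, 6, 7, 8, 9], 1), (1, 22, [1, 2, 0, 3, 4, 9, 5, 6, 7, 8], 1), (2, 22, [0, 2, 3, 1, 4, 9, 5, 6, 7, 8], 1), (1, 23, [2, 0, 1, 3, 4, 8, 9, 5, 6, 7], 1), (2, 23, [2, 3, 0,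 1, 4, 8, 9, 5, 6, 7], 1), (1, 24, [1, 0, 3, 2, 4, 8, 9, 5, 6, 7], 1), (2, 24, [0, 3, 1, 2, 4, 8, 9, 5, 6, 7], 1), (2, 25, [3, 0, 2, 1, 4, 7, 8, 9, 5, 6], 1), (2, 26, [3, 1, 0, 2, 4, 7, 8, 9, 5, 6], 1), (1, 27, [2, 1, 3, 0, 4, 7, 8, 9, 5, 6], 1), (1, 28, [1, 3, 2, 0, 4, 7, 8, 9, 5, 6], 1), (1, 30, [3, 2, 1, 0, 4, 6, 7, 8, 9, 5], 1), (1, 34, [2, 0, 1, 3, 4, 9, 5, 6, 7, 8], 1), (2, 34, [2, 3, 0, 1, 4, 9, 5, 6, 7, 8], 1), (1, 35, [1, 0, 3, 2, 4, 9, 5, 6, 7, 8], 1), (2, 35, [0, 3, 1, 2, 4, 9, 5, 6, 7, 8], 1), (2, 36, [3, 0, 2, 1, 4, 8, 9, 5, 6, 7], 1), (2, 37, [3, 1, 0, 2, 4, 8, 9, 5, 6, 7], 1), (1, 38, [2, 1, 3, 0, 4, 8, 9, 5, 6, 7], 1), (1, 39, [1, 3, 2, 0, 4, 8, 9, 5, 6, 7], 1), (1, 41, [3, 2, 1, 0, 4, 7, 8, 9, 5, 6], 1), (2, 45, [3, 0, 2, 1, 4, 9, 5, 6, 7, 8], 1), (2, 46, [3, 1, 0, 2, 4, 9, 5, 6, 7, 8], 1), (1, 47, [2, 1, 3, 0,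 4, 9, 5, 6, 7, 8], 1), (1, 48, [1, 3, 2, 0, 4, 9, 5, 6, 7, 8], 1), (1, 50, [3, 2, 1, 0, 4, 8, 9, 5, 6, 7], 1), (1, 55, [3, 2, 1, 0, 4, 9, 5, 6, 7, 8], 1)]]

def reps : List (List (ℕ × ℕ × List ℕ)) :=
  [[(0, 0, [0, 1, 2, 3, 4, 5, 6, 7, 8, 9]), (0, 0, [0, 1, 2, 3, 5, 6, 4, 7, 8, 9]), (0, 1, [0, 1, 2, 3, 6, 4, 5, 7, 8, 9]), (1, 1, [0, 1, 2, 3, 6, 7, 4, 8, 9, 5]), (1, 2, [0, 1, 2, 3, 7, 4, 6, 8, 9, 5]), (0, 3, [0, 1, 2, 3, 4, 7, 5, 8, 9, 6]), (1, 3, [0, 1, 2, 3, 7, 8, 4, 9, 5, 6]), (0, 4, [0, 1, 2, 3, 7, 5, 4, 8, 9, 6]), (1, 4, [0, 1, 2, 3, 8, 4, 7, 9, 5, 6]), (0, 5, [0, 1, 2, 3, 5, 7, 6, 8, 9, 4]), (1, 5, [0, 1, 2, 3, 4, 8, 6, 9, 5, 7]), (0, 6, [0, 1, 2, 3, 7, 8, 5, 9, 6, 4]), (1, 6, [0, 1, 2, 3, 8, 9, 4, 5, 6, 7]), (0, 7, [0, 1, 2, 3, 7, 6, 5, 8, 9, 4]), (1, 7, [0, 1, 2, 3, 8, 6, 4, 9, 5, 7]), (0, 8, [0, 1, 2, 3, 8, 5, 7, 9, 6,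 4]), (1, 8, [0, 1, 2, 3, 9, 4, 8, 5, 6, 7]), (1, 9, [0, 1, 2, 3, 6, 8, 7, 9, 5, 4]), (0, 10, [0, 1, 2, 3, 5, 8, 4, 9, 6, 7]), (1, 10, [0, 1, 2, 3, 4, 9, 7, 5, 6, 8]), (0, 11, [0, 1, 2, 3, 7, 8, 6, 9, 4, 5]), (1, 11, [0, 1, 2, 3, 8, 9, 6, 5, 7, 4]), (1, 12, [0, 1, 2, 3, 9, 5, 4, 6, 7, 8]), (1, 13, [0, 1, 2, 3, 8, 7, 6, 9, 5, 4]), (0, 14, [0, 1, 2, 3, 8, 4, 5, 9, 6, 7]), (1, 14, [0, 1, 2, 3, 9, 7, 4, 5, 6, 8]), (1, 15, [0, 1, 2, 3, 9, 6, 8, 5, 7, 4]), (0, 16, [0, 1, 2, 3, 9, 5, 8, 6, 4, 7]), (0, 17, [0, 1, 2, 3, 4, 8, 7, 9, 6, 5]), (1, 17, [0, 1, 2, 3, 7, 9, 8, 5, 6, 4]), (0, 18, [0, 1, 2, 3, 6, 8, 5, 9, 4, 7]), (0, 19, [0, 1, 2, 3, 5, 9, 7, 6, 4, 8])], [(1, 19, [0, 1, 2, 3, 4, 5, 8, 6, 7, 9]), (1, 20, [0, 1, 2, 3, 8, 9, 7, 5, 4, 6]), (0, 21, [0, 1, 2, 3, 8, 9, 4, 6, 7, 5]), (1, 21, [0, 1, 2, 3, 9, 5, 7, 6, 8, 4]), (0, 22, [0,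 1, 2, 3, 9, 6, 5, 4, 7, 8]), (1, 23, [0, 1, 2, 3, 9, 8, 7, 5, 6, 4]), (0, 24, [0, 1, 2, 3, 8, 5, 6, 9, 4, 7]), (1, 24, [0, 1, 2, 3, 9, 4, 6, 5, 7, 8]), (1, 25, [0, 1, 2, 3, 5, 8, 4, 6, 7, 9]), (0, 26, [0, 1, 2, 3, 9, 4, 8, 6, 7, 5]), (1, 26, [0, 1, 2, 3, 5, 7, 9, 6, 8, 4]), (1, 27, [0, 1, 2, 3, 5, 6, 9, 7, 4, 8]), (0, 28, [0, 1, 2, 3, 5, 8, 7, 9, 4, 6]), (1, 28, [0, 1, 2, 3, 4, 9, 8, 5, 7, 6]), (0, 29, [0, 1, 2, 3, 7, 9, 8, 6, 4, 5]), (0, 31, [0, 1, 2, 3, 6, 9, 7, 4, 5, 8]), (1, 31, [0, 1, 2, 3, 6, 5, 8, 7, 4, 9]), (1, 32, [0, 1, 2, 3, 4, 6, 9, 7, 8, 5]), (0, 33, [0, 1, 2, 3, 8, 9, 7, 6, 5, 4]), (0, 37, [0, 1, 2, 3, 9, 8, 7, 6, 4, 5]), (1, 37, [0, 1, 2, 3, 5, 9, 8, 6, 7, 4]), (0, 40, [0, 1, 2, 3, 6, 8, 5, 4, 7, 9]), (0, 41, [0, 1, 2, 3, 9, 5, 8, 4, 7, 6]), (1, 41, [0, 1, 2, 3, 5, 4, 9, 7, 8, 6]), (0, 42, [0, 1, 2, 3, 6, 7, 9,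 4, 8, 5]), (0, 43, [0, 1, 2, 3, 6, 4, 9, 7, 5, 8]), (1, 45, [0, 1, 2, 3, 4, 5, 9, 6, 8, 7]), (0, 46, [0, 1, 2, 3, 7, 9, 8, 4, 5, 6]), (1, 46, [0, 1, 2, 3, 8, 5, 9, 7, 4, 6]), (1, 47, [0, 1, 2, 3, 7, 5, 8, 4, 6, 9]), (1, 51, [0, 1, 2, 3, 5, 9, 8, 7, 4, 6]), (0, 52, [0, 1, 2, 3, 6, 9, 8, 4, 7, 5])], [(1, 52, [0, 1, 2, 3, 6, 5, 9, 7, 8, 4]), (0, 53, [0, 1, 2, 3, 4, 8, 6, 5, 7, 9]), (1, 54, [0, 1, 2, 3, 5, 6, 9, 4, 8, 7]), (1, 56, [0, 1, 2, 3, 7, 8, 5, 4, 9, 6]), (0, 57, [0, 1, 2, 3, 4, 5, 9, 7, 6, 8]), (0, 62, [0, 1, 2, 3, 6, 9, 8, 7, 5, 4]), (1, 63, [0, 1, 2, 3, 7, 5, 9, 4, 8, 6]), (0, 69, [0, 1, 2, 3, 4, 9, 8, 7, 6, 5])]]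

def act0 : List (List (ℕ × ℕ)) :=
  [[(1, 0), (2, 0), (0, 0), (5, 0), (7, 0), (9, 0), (11, 0), (13, 0), (15, 0), (3, 0), (18, 0), (20, 0), (8, 4), (4, 0), (24, 0), (12, 11), (27, 0), (28, 0), (30, 0), (31, 0), (6, 0), (34, 0), (36, 0), (21, 11), (38, 0), (37, 1), (41, 0), (35, 4), (44, 0), (46, 0), (10, 0), (47, 0)], [(42, 4), (50, 0), (23, 4), (16, 11), (39, 0), (51, 0), (14, 0), (22, 0), (53, 0), (54, 0), (56, 0), (57, 0), (17, 0), (52, 0), (59, 0), (19, 0), (58, 4), (55, 0), (60, 1), (25, 22), (63, 0), (65, 0), (26, 0), (64, 0), (32, 11), (68, 0), (66, 0), (29, 0), (33, 22), (67, 22), (69, 0), (45, 0)], [(49, 0), (40, 0), (48, 11), (70, 11), (43, 0), (71, 0), (61, 11), (62, 0)]]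

def act1 : List (List (ℕ × ℕ)) :=
  [[(0, 1), (3, 0), (4, 0), (6, 0), (8, 0), (10, 0), (12, 0), (14, 0), (16, 0), (17, 0), (19, 0), (21, 0), (22, 0), (23, 0), (25, 0), (26, 0), (18, 1), (29, 0), (2, 22), (32, 0), (33, 0), (35, 0), (1, 0), (37, 0), (39, 0), (40, 0), (42, 0), (43, 0), (45, 0), (24, 1), (7, 11), (48, 0)], [(49, 0), (27, 0), (36, 1), (44, 22), (31, 1), (52, 0), (41, 4), (9, 22), (30, 4), (55, 0), (56, 11), (57, 4), (53, 22), (58, 0), (60, 0), (61, 0), (59, 22), (5, 0), (51, 22), (62, 0), (64, 0), (11, 4), (66, 0), (47, 4), (67, 0), (20, 11), (65, 1), (34, 22), (54, 22), (38, 1), (63, 22), (70, 0)], [(13, 0), (68, 1), (69, 4), (15, 4), (28, 11), (46, 22), (50, 4), (71, 22)]]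

def act2 : List (List (ℕ × ℕ)) :=
  [[(0, 2), (1, 2), (2, 2), (3, 2), (4, 2), (5, 2), (6, 2), (7, 2), (8, 2), (9, 2), (10, 2), (11, 2), (12, 2), (13, 2), (14, 2), (15, 2), (16, 2), (17, 2), (18, 2), (19, 2), (20, 2), (21, 2), (22, 2), (23, 2), (24, 2), (25, 2), (26, 2), (27, 2), (28, 2), (29, 2), (30, 2), (31, 2)], [(32, 2), (33, 2), (34, 2), (35, 2), (36, 2), (37, 2), (38, 2), (39, 2), (40, 2), (41, 2), (42, 2), (43, 2), (44, 2), (45, 2), (46, 2), (47, 2), (48, 2), (49, 2), (50, 2), (51, 2), (52, 2), (53, 2), (54, 2), (55, 2), (56, 2), (57, 2), (58, 2), (59, 2), (60, 2), (61, 2), (62, 2), (63, 2)], [(64, 2), (65, 2), (66, 2), (67, 2), (68, 2), (69, 2), (70, 2), (71, 2)]]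

def act3 : List (List (ℕ × ℕ)) :=
  [[(0, 3), (1, 3), (2, 3), (3, 3), (4, 3), (5, 3), (6, 3), (7, 3), (8, 3), (9, 3), (10, 3), (11, 3), (12, 3), (13, 3), (14, 3), (15, 3), (16, 3), (17, 3), (18, 3), (19, 3), (20, 3), (21, 3), (22, 3), (23, 3), (24, 3), (25, 3), (26, 3), (27, 3), (28, 3), (29, 3), (30, 3), (31, 3)], [(32, 3), (33, 3), (34, 3), (35, 3), (36, 3), (37, 3), (38, 3), (39, 3), (40, 3), (41, 3), (42, 3), (43, 3), (44, 3), (45, 3), (46, 3), (47, 3), (48, 3), (49, 3), (50, 3), (51, 3), (52, 3), (53, 3), (54, 3), (55, 3), (56, 3), (57, 3), (58, 3), (59, 3), (60, 3), (61, 3), (62, 3), (63, 3)], [(64, 3), (65, 3), (66, 3), (67, 3), (68, 3), (69, 3), (70, 3), (71, 3)]]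

def act4 : List (List (ℕ × ℕ)) :=
  [[(45, 4), (62, 4), (59, 4), (29, 11), (53, 4), (71, 11), (56, 1), (69, 11), (26, 22), (40, 4), (49, 1), (48, 22), (35, 11), (63, 11), (16, 22), (25, 4), (14, 1), (67, 11), (66, 1), (65, 0), (64, 1), (37, 0), (23, 11), (22, 4), (51, 11), (15, 11), (8, 1), (60, 0), (58, 1), (3, 4), (61, 22), (52, 1)], [(68, 0), (36, 22), (54, 1), (12, 4), (33, 1), (21, 0), (39, 4), (38, 11), (9, 11), (50, 22), (44, 22), (55, 4), (42, 1), (0, 11), (47, 22), (46, 1), (11, 1), (10, 22), (41, 1), (24, 4), (31, 22), (4, 11), (34, 22), (43, 11), (6, 22), (70, 4), (28, 22), (2, 11), (27, 0), (30, 1), (1, 11), (13, 4)], [(20, 22), (19, 0), (18, 22), (17, 4), (32, 0), (7, 4), (57, 11), (5, 4)]]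

def act5 : List (List (ℕ × ℕ)) :=
  [[(58, 4), (63, 1), (34, 1), (24, 22), (11, 22), (71, 4), (67, 1), (46, 4), (42, 22), (30, 22), (5, 1), (59, 11), (44, 4), (70, 11), (18, 0), (40, 4), (25, 1), (15, 0), (69, 11), (68, 1), (13, 1), (52, 0), (37, 11), (1, 4), (62, 11), (26, 11), (16, 1), (54, 22), (65, 4), (6, 4), (38, 0), (64, 1)], [(28, 11), (31, 0), (66, 1), (22, 4), (27, 1), (35, 0), (9, 1), (41, 0), (17, 11), (51, 11), (53, 11), (47, 22), (56, 22), (0, 22), (61, 22), (60, 1), (21, 1), (19, 22), (55, 1), (39, 4), (48, 22), (8, 11), (36, 0), (57, 0), (12, 22), (50, 22), (45, 22), (4, 11), (43, 0), (7, 22), (3, 11), (23, 4)], [(33, 22), (32, 0), (2, 11), (29, 4), (49, 0), (14, 4), (20, 1), (10, 4)]]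

def act6 : List (List (ℕ × ℕ)) :=
  [[(0, 0), (1, 0), (2, 0), (3, 0), (4, 0), (5, 0), (6, 0), (7, 0), (8, 0), (9, 0), (10, 0), (11, 0), (12, 0), (13, 0), (14, 0), (15, 0), (16, 0), (17, 0), (18, 0), (19, 0), (20, 0), (21, 0), (22, 0), (23, 0), (24, 0), (25, 0), (26, 0), (27, 0), (28, 0), (29, 0), (30, 0), (31, 0)], [(32, 0), (33, 0), (34, 0), (35, 0), (36, 0), (37, 0), (38, 0), (39, 0), (40, 0), (41, 0), (42, 0), (43, 0), (44, 0), (45, 0), (46, 0), (47, 0), (48, 0), (49, 0), (50, 0), (51, 0), (52, 0), (53, 0), (54, 0), (55, 0), (56, 0), (57, 0), (58, 0), (59, 0), (60, 0), (61, 0), (62, 0), (63, 0)], [(64, 0), (65, 0), (66, 0), (67, 0), (68, 0), (69, 0), (70, 0), (71, 0)]]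

def act7 : List (List (ℕ × ℕ)) :=
  [[(5, 1), (18, 0), (24, 0), (34, 0), (41, 0), (0, 22), (27, 4), (22, 0), (57, 0), (52, 0), (58, 4), (39, 1), (47, 1), (16, 1), (63, 1), (64, 0), (13, 22), (33, 22), (1, 0), (32, 11), (25, 11), (30, 22), (7, 0), (69, 0), (2, 0), (20, 4), (70, 11), (6, 11), (49, 0), (54, 11), (21, 1), (40, 11)], [(19, 4), (17, 1), (3, 0), (46, 22), (67, 0), (61, 11), (48, 0), (11, 22), (31, 4), (4, 0), (55, 1), (44, 0), (43, 0), (71, 4), (35, 1), (12, 22), (38, 0), (28, 0), (53, 11), (59, 22), (9, 0), (50, 4), (29, 4), (42, 22), (60, 1), (8, 0), (10, 11), (51, 1), (56, 22), (37, 4), (66, 22), (14, 22)], [(15, 0), (68, 11), (62, 1), (36, 0), (65, 4), (23, 0), (26, 4), (45, 11)]]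

def act8 : List (List (ℕ × ℕ)) :=
  [[(55, 22), (64, 22), (49, 22), (10, 4), (36, 1), (18, 4), (27, 22), (39, 1), (46, 22), (30, 4), (43, 4), (35, 1), (29, 1), (22, 1), (20, 11), (59, 22), (14, 11), (65, 11), (57, 4), (1, 11), (16, 22), (61, 1), (50, 4), (70, 1), (6, 11), (8, 4), (23, 22), (24, 11), (40, 11), (51, 0), (68, 4), (2, 11)], [(52, 4), (7, 4), (67, 0), (38, 1), (60, 11), (15, 1), (11, 11), (33, 4), (69, 4), (21, 4), (63, 0), (3, 1), (53, 11), (66, 11), (25, 22), (0, 11), (32, 4), (31, 11), (13, 4), (12, 22), (48, 1), (71, 4), (34, 4), (47, 11), (45, 0), (5, 1), (42, 4), (37, 0), (4, 1), (41, 4), (17, 0), (58, 11)], [(19, 11), (62, 4), (56, 4), (54, 11), (9, 1), (28, 0), (26, 0), (44, 0)]]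

def act9 : List (List (ℕ × ℕ)) :=
  [[(31, 4), (47, 4), (19, 4), (68, 22), (50, 11), (43, 22), (14, 4), (60, 22), (51, 22), (57, 22), (9, 11), (24, 4), (37, 1), (33, 11), (35, 22), (25, 11), (11, 1), (71, 0), (3, 11), (55, 4), (38, 4), (26, 11), (7, 22), (54, 1), (16, 4), (29, 1), (67, 4), (20, 1), (62, 0), (15, 1), (5, 11), (64, 4)], [(66, 0), (36, 11), (41, 11), (6, 22), (13, 22), (46, 0), (27, 4), (4, 22), (17, 4), (70, 0), (48, 1), (30, 11), (69, 0), (42, 0), (12, 22), (49, 4), (45, 22), (1, 1), (39, 11), (59, 0), (56, 0), (28, 4), (61, 11), (2, 1), (58, 11), (10, 11), (52, 4), (8, 1), (22, 4), (23, 1), (53, 11), (32, 11)], [(0, 1), (44, 4), (63, 4), (21, 0), (18, 11), (65, 11), (34, 4), (40, 11)]]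

def act10 : List (List (ℕ × ℕ)) :=
  [[(71, 22), (66, 1), (51, 11), (54, 1), (50, 22), (45, 1), (60, 4), (23, 11), (70, 4), (31, 22), (28, 1), (38, 22), (46, 4), (14, 4), (13, 11), (20, 22), (63, 4), (36, 11), (62, 4), (68, 11), (15, 1), (61, 11), (69, 11), (7, 4), (59, 4), (64, 11), (57, 1), (56, 22), (10, 22), (34, 4), (37, 1), (9, 1)], [(65, 4), (67, 22), (29, 11), (47, 11), (17, 4), (30, 22), (11, 1), (48, 11), (52, 11), (53, 4), (43, 22), (42, 1), (55, 4), (5, 22), (12, 11), (35, 4), (39, 4), (58, 1), (4, 1), (2, 4), (40, 4), (41, 11), (3, 22), (44, 11), (27, 1), (26, 22), (49, 22), (24, 11), (6, 11), (21, 4), (18, 11), (16, 11)], [(25, 4), (32, 11), (1, 22), (33, 1), (19, 4), (22, 4), (8, 11), (0, 1)]]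

def steps0 : List Step :=
  [.rule 0 [(1, 1), (2, 1), (3, 1), (4, 1), (6, 1), (7, 1), (8, 1), (9, 1), (11, 1), (12, 1), (13, 1), (14, 1), (15, 1), (16, 1), (17, 1), (18, 1), (20, 1), (21, 1), (22, 1), (23, 1), (24, 1), (25, 1), (26, 1), (27, 1), (29, 1), (30, 1), (31, 1), (33, 1), (34, 1), (35, 1), (36, 1), (37, 1), (38, 1), (39, 1), (40, 1), (41, 1), (42, 1), (43, 1), (44, 1), (46, 1), (47, 1), (48, 1), (50, 1), (51, 1), (52, 1), (53, 1), (54, 1), (55, 1), (56, 1), (57, 1), (59, 1), (60, 1), (61, 1), (62, 1), (63, 1), (64, 1), (66, 1), (67, 1), (69, 1), (70, 1)] [[], []] [(1, 1), (2, 1), (3, 1), (4, 1), (6, 1), (7, 1), (8, 1), (9, 1), (11, 1), (12, 1), (13, 1), (14, 1), (15, 1), (16, 1), (17, 1), (18, 1), (20, 1), (21, 1), (22, 1), (23, 1), (24, 1), (25, 1), (26, 1), (27, 1), (29, 1), (30, 1), (31, 1), (33, 1), (34, 1), (35,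 1), (36, 1), (37, 1), (38, 1), (39, 1), (40, 1), (41, 1), (42, 1), (43, 1), (44, 1), (46, 1), (47, 1), (48, 1), (50, 1), (51, 1), (52, 1), (53, 1), (54, 1), (55, 1), (56, 1), (57, 1), (59, 1), (60, 1), (61, 1), (62, 1), (63, 1), (64, 1), (66, 1), (67, 1), (69, 1), (70, 1)],
   .tr 0 0 [(2, 1), (0, 1), (5, 1), (7, 1), (11, 1), (13, 1), (15, 1), (3, 1), (20, 1), (8, 1), (4, 1), (24, 1), (12, 1), (27, 1), (28, 1), (30, 1), (6, 1), (34, 1), (36, 1), (21, 1), (38, 1), (37, 1), (41, 1), (35, 1), (46, 1), (10, 1), (47, 1), (50, 1), (23, 1), (16, 1), (39, 1), (51, 1), (14, 1), (22, 1), (53, 1), (54, 1), (56, 1), (57, 1), (17, 1), (59, 1), (19, 1), (58, 1), (60, 1), (25, 1), (63, 1), (65, 1), (26, 1), (64, 1), (32, 1), (68, 1), (29, 1), (33, 1), (67, 1), (69, 1), (45, 1), (49, 1), (48, 1), (70, 1), (71, 1), (61, 1)],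
   .tr 0 1 [(0, 1), (1, 1), (9, 1), (13, 1), (20, 1), (4, 1), (12, 1), (5, 1), (6, 1), (15, 1), (7, 1), (38, 1), (8, 1), (35, 1), (44, 1), (10, 1), (11, 1), (23, 1), (39, 1), (34, 1), (14, 1), (51, 1), (54, 1), (16, 1), (59, 1), (18, 1), (19, 1), (60, 1), (21, 1), (27, 1), (22, 1), (25, 1), (24, 1), (36, 1), (65, 1), (26, 1), (32, 1), (68, 1), (28, 1), (29, 1), (31, 1), (66, 1), (33, 1), (37, 1), (45, 1), (40, 1), (41, 1), (49, 1), (42, 1), (43, 1), (46, 1), (50, 1), (70, 1), (71, 1), (52, 1), (55, 1), (58, 1), (61, 1), (62, 1), (67, 1)],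
   .tr 1 2 [(0, 1), (3, 1), (17, 1), (23, 1), (33, 1), (8, 1), (22, 1), (10, 1), (12, 1), (26, 1), (14, 1), (41, 1), (16, 1), (44, 1), (53, 1), (19, 1), (21, 1), (37, 1), (9, 1), (36, 1), (25, 1), (62, 1), (66, 1), (18, 1), (34, 1), (2, 1), (32, 1), (54, 1), (35, 1), (43, 1), (1, 1), (40, 1), (39, 1), (31, 1), (68, 1), (42, 1), (49, 1), (28, 1), (45, 1), (24, 1), (48, 1), (69, 1), (27, 1), (52, 1), (58, 1), (30, 1), (55, 1), (5, 1), (56, 1), (57, 1), (60, 1), (51, 1), (50, 1), (71, 1), (64, 1), (47, 1), (65, 1), (38, 1), (63, 1), (15, 1)],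
   .tr 1 3 [(0, 1), (6, 1), (29, 1), (37, 1), (27, 1), (16, 1), (1, 1), (19, 1), (22, 1), (42, 1), (25, 1), (55, 1), (18, 1), (53, 1), (11, 1), (32, 1), (35, 1), (52, 1), (17, 1), (31, 1), (40, 1), (63, 1), (69, 1), (2, 1), (36, 1), (4, 1), (49, 1), (66, 1), (44, 1), (57, 1), (3, 1), (30, 1), (9, 1), (48, 1), (28, 1), (56, 1), (5, 1), (45, 1), (58, 1), (39, 1), (59, 1), (46, 1), (43, 1), (64, 1), (65, 1), (7, 1), (47, 1), (10, 1), (67, 1), (20, 1), (54, 1), (62, 1), (51, 1), (71, 1), (13, 1), (61, 1), (68, 1), (41, 1), (70, 1), (26, 1)],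
   .rule 0 [(16, 1), (22, 1), (25, 1), (26, 1), (27, 1), (35, 1), (36, 1), (37, 1), (39, 1), (41, 1), (51, 1), (54, 1)] [[(0, 1), (1, 1), (2, 1), (3, 1), (4, 2)], []] [(16, 1), (22, 1), (25, 1), (26, 1), (27, 1), (35, 1), (36, 1), (37, 1), (39, 1), (41, 1), (51, 1), (54, 1)],
   .rule 1 [(3, 1), (4, 1), (7, 1), (11, 1), (13, 1), (17, 1), (20, 1), (23, 4), (24, 4), (26, 4), (27, 4), (28, 4), (29, 1), (30, 1), (31, 4), (40, 4), (46, 1), (47, 1), (48, 1), (49, 4), (53, 1), (56, 1), (57, 1), (59, 1), (61, 1), (63, 1), (64, 1), (67, 1)] [[(0, 4), (1, 4), (2, 3), (3, 3)], [(1, 4), (2, 3), (3, 3), (4, 4)]] [(3, 1), (4, 1), (7, 1), (11, 1), (13, 1), (17, 1), (20, 1), (23, 4), (24, 4), (26, 4), (27, 4), (28, 4), (29, 1), (30, 1), (31, 4), (40, 4), (46, 1), (47, 1), (48, 1), (49, 4), (53, 1), (56, 1), (57, 1), (59, 1), (61, 1), (63, 1),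 (64, 1), (67, 1)],
   .tr 0 6 [(5, 1), (7, 1), (13, 1), (20, 1), (4, 1), (28, 1), (6, 1), (21, 4), (38, 4), (41, 4), (35, 4), (44, 4), (46, 1), (10, 1), (47, 4), (53, 4), (59, 1), (19, 1), (58, 1), (55, 4), (65, 1), (32, 1), (68, 1), (29, 1), (67, 1), (45, 1), (49, 1), (70, 1)],
   .tr 1 6 [(6, 1), (8, 1), (14, 1), (21, 1), (23, 1), (29, 1), (33, 1), (37, 4), (39, 4), (42, 4), (43, 4), (45, 4), (24, 1), (7, 1), (48, 4), (30, 4), (60, 1), (61, 1), (59, 1), (5, 4), (11, 1), (67, 1), (20, 1), (34, 1), (38, 1), (70, 1), (13, 1), (15, 1)],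
   .tr 0 7 [(9, 1), (13, 1), (4, 1), (6, 1), (7, 1), (44, 1), (11, 1), (34, 4), (14, 4), (54, 4), (16, 4), (17, 4), (59, 1), (18, 1), (19, 4), (65, 4), (29, 1), (31, 1), (66, 1), (64, 4), (40, 1), (42, 1), (43, 1), (46, 1), (70, 1), (52, 1), (55, 1), (61, 1)],
   .tr 0 8 [(11, 1), (15, 1), (24, 1), (34, 1), (21, 1), (46, 1), (50, 1), (51, 4), (22, 4), (56, 4), (57, 4), (52, 4), (38, 1), (13, 1), (58, 4), (10, 4), (33, 1), (67, 1), (29, 1), (9, 4), (20, 1), (70, 1), (6, 1), (23, 1), (14, 1), (61, 1), (4, 1), (12, 1)],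
   .rule 3 [(0, 1)] [[], [], []] [(0, 1), (71, 4)],
   .tr 0 11 [(1, 1), (62, 4)],
   .tr 0 12 [(2, 1), (69, 4)],
   .tr 1 12 [(3, 1), (63, 4)],
   .tr 1 13 [(4, 1), (46, 4)],
   .tr 0 14 [(5, 1), (45, 4)],
   .tr 1 14 [(6, 1), (70, 4)],
   .tr 0 15 [(7, 1), (59, 4)],
   .tr 1 15 [(8, 1), (60, 4)],
   .tr 0 16 [(9, 1), (52, 4)],
   .tr 1 16 [(10, 1), (58, 4)],
   .tr 0 17 [(11, 1), (61, 4)],
   .tr 1 17 [(12, 1), (50, 4)],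
   .tr 0 18 [(13, 1), (29, 4)],
   .tr 1 18 [(14, 1), (34, 4)],
   .tr 0 19 [(15, 1), (33, 4)],
   .tr 1 19 [(16, 1), (54, 4)],
   .tr 1 20 [(17, 1), (64, 4)],
   .tr 0 21 [(18, 1), (66, 4)],
   .tr 1 21 [(19, 1), (65, 4)],
   .tr 0 22 [(20, 1), (67, 4)]]

def steps1 : List Step :=
  [.tr 1 22 [(21, 1), (38, 4)],
   .tr 1 23 [(22, 1), (51, 4)],
   .tr 1 24 [(23, 1), (24, 4)],
   .tr 1 25 [(25, 1), (36, 4)],
   .tr 1 26 [(26, 1), (27, 4)],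
   .tr 0 28 [(28, 1), (49, 4)],
   .tr 0 29 [(30, 1), (48, 4)],
   .tr 0 30 [(31, 1), (40, 4)],
   .tr 1 30 [(32, 1), (68, 4)],
   .tr 1 32 [(35, 1), (41, 4)],
   .tr 1 34 [(37, 1), (39, 4)],
   .tr 1 36 [(42, 1), (43, 4)],
   .tr 0 37 [(44, 1), (55, 4)],
   .tr 0 39 [(47, 1), (53, 4)],
   .tr 0 43 [(56, 1), (57, 4)],
   .rule 3 [(2, 1), (4, 1), (8, 1), (16, 1), (18, 1)] [[], [], []] [(2, 1), (4, 1), (8, 1), (16, 1), (18, 1), (51, 4), (50, 4), (70, 4), (63, 4), (62, 4)],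
   .tr 0 47 [(0, 1), (7, 1), (15, 1), (27, 1), (30, 1), (25, 4), (60, 4), (61, 4), (45, 4), (69, 4)],
   .tr 0 48 [(1, 1), (13, 1), (12, 1), (35, 1), (10, 1), (37, 4), (33, 4), (67, 4), (52, 4), (71, 4)],
   .tr 1 48 [(0, 1), (14, 1), (26, 1), (43, 1), (7, 1), (40, 4), (54, 4), (38, 4), (58, 4), (46, 4)],
   .tr 1 49 [(3, 1), (23, 1), (22, 1), (44, 1), (19, 1), (52, 4), (27, 4), (15, 4), (64, 4), (71, 4)],
   .tr 0 50 [(1, 1), (24, 1), (41, 1), (57, 1), (13, 1), (53, 4), (26, 4), (14, 4), (66, 4), (59, 4)],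
   .tr 1 50 [(0, 1), (25, 1), (42, 1), (57, 1), (14, 1), (30, 4), (66, 4), (41, 4), (65, 4), (60, 4)],
   .tr 0 51 [(5, 1), (21, 1), (36, 1), (17, 1), (31, 1), (63, 4), (35, 4), (12, 4), (49, 4), (62, 4)],
   .tr 1 51 [(6, 1), (37, 1), (1, 1), (53, 1), (32, 1), (64, 4), (43, 4), (26, 4), (13, 4), (71, 4)],
   .tr 0 52 [(2, 1), (38, 1), (54, 1), (68, 1), (4, 1), (65, 4), (41, 4), (24, 4), (48, 4), (29, 4)],
   .tr 1 52 [(3, 1), (39, 1), (55, 1), (20, 1), (23, 1), (11, 4), (42, 4), (25, 4), (69, 4), (34, 4)],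
   .tr 0 53 [(1, 1), (37, 1), (56, 1), (68, 1), (24, 1), (10, 4), (48, 4), (54, 4), (40, 4), (33, 4)],
   .tr 1 53 [(0, 1), (40, 1), (56, 1), (20, 1), (25, 1), (7, 4), (69, 4), (55, 4), (68, 4), (54, 4)],
   .tr 0 54 [(9, 1), (34, 1), (39, 1), (28, 1), (47, 1), (45, 4), (16, 4), (8, 4), (55, 4), (69, 4)],
   .tr 1 54 [(10, 1), (35, 1), (31, 1), (29, 1), (48, 1), (70, 4), (44, 4), (22, 4), (5, 4), (63, 4)],
   .tr 0 55 [(11, 1), (51, 1), (2, 1), (65, 1), (42, 1), (49, 4), (57, 4), (41, 4), (4, 4), (62, 4)],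
   .rule 0 [(0, 3), (1, 1), (2, 4), (3, 1), (4, 4), (5, 3), (6, 2), (8, 1)] [[(0, 4), (1, 2), (3, 4), (4, 2), (7, 2), (8, 3), (11, 1), (12, 1), (13, 2), (14, 1), (16, 1), (17, 1), (18, 3), (19, 2), (20, 3), (22, 4), (23, 2), (24, 4), (25, 2), (27, 2), (28, 4), (29, 2), (31, 1), (33, 2), (34, 4), (35, 1), (36, 4), (37, 3), (38, 3), (39, 2), (40, 2), (41, 3), (42, 4), (43, 4), (44, 1), (45, 3), (46, 2), (47, 3), (48, 2), (49, 2), (52, 4), (53, 4), (54, 4), (55, 3), (56, 4), (57, 3), (58, 1), (59, 3), (60, 2), (61, 4), (62, 3)], [(0, 2), (2, 3), (7, 2), (8, 2), (10, 1), (11, 2), (12, 3), (13, 3), (14, 2), (15, 3), (16, 4), (17, 2), (18, 3), (19, 4), (21, 2), (24, 2), (25, 3), (26, 1), (29, 4), (30, 3), (32, 1), (33, 1), (35, 3), (36, 1), (37, 4), (38, 2), (41, 1), (42, 4), (43, 3), (44, 2), (45, 4), (46, 4), (47, 1), (48, 3), (49,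 2), (51, 2), (52, 1), (54, 3), (60, 1), (61, 2), (62, 3)]] [(0, 3), (1, 1), (2, 4), (3, 1), (4, 4), (5, 3), (6, 2), (8, 1)]]

def steps2 : List Step :=
  [.rule 3 [(1, 1), (2, 3), (3, 1), (4, 1), (5, 1), (6, 4), (7, 1)] [[(1, 4), (2, 1), (3, 3), (4, 2), (5, 2), (6, 2), (7, 3), (8, 4), (10, 3), (11, 3), (12, 4), (13, 4), (14, 2), (16, 1), (17, 3), (18, 4), (19, 2), (20, 3), (22, 2), (24, 1), (26, 1), (27, 1), (28, 4), (29, 3), (30, 2), (31, 4), (32, 3), (33, 4), (34, 3), (35, 2), (36, 4), (39, 3), (41, 3), (42, 1), (45, 3), (47, 1), (48, 4), (52, 2), (53, 1), (55, 2), (56, 1), (57, 4), (58, 4), (59, 3), (60, 4), (61, 3), (62, 1), (63, 3)], [], []] [(1, 1), (2, 3), (3, 1), (4, 1), (5, 1), (6, 4), (7, 1), (66, 4), (51, 2), (54, 4), (50, 4), (45, 4), (60, 1), (23, 4)],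
   .tr 0 64 [(2, 1), (0, 3), (5, 1), (7, 1), (9, 1), (11, 4), (13, 1), (48, 4), (25, 2), (26, 4), (60, 4), (52, 4), (33, 1), (21, 4)],
   .tr 0 65 [(0, 1), (1, 3), (9, 1), (13, 1), (3, 1), (20, 4), (4, 1), (58, 4), (37, 2), (41, 4), (33, 4), (63, 4), (50, 1), (34, 4)],
   .tr 1 65 [(4, 1), (0, 3), (10, 1), (14, 1), (17, 1), (21, 4), (23, 1), (59, 4), (40, 2), (42, 4), (54, 4), (64, 4), (27, 1), (35, 4)],
   .tr 1 66 [(0, 1), (3, 3), (17, 1), (23, 1), (6, 1), (33, 4), (8, 1), (65, 4), (52, 2), (55, 4), (27, 4), (70, 4), (51, 1), (36, 4)],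
   .tr 0 67 [(7, 1), (1, 3), (18, 1), (24, 1), (28, 1), (34, 4), (21, 1), (29, 4), (53, 2), (56, 4), (26, 4), (49, 4), (35, 1), (16, 4)],
   .tr 1 67 [(8, 1), (0, 3), (19, 1), (25, 1), (29, 1), (35, 4), (37, 1), (34, 4), (30, 2), (56, 4), (66, 4), (13, 4), (43, 1), (44, 4)],
   .tr 0 68 [(1, 1), (5, 3), (28, 1), (21, 1), (11, 1), (50, 4), (15, 1), (40, 4), (63, 2), (64, 4), (35, 4), (61, 4), (25, 1), (39, 4)]]

def data : Cert where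
  n := 10
  p := 5
  N := 72
  gens := gens
  hgens := [(1, 1), (2, 1), (3, 1)]
  hel := hel
  reps := reps
  act := [act0, act1, act2, act3, act4, act5, act6, act7, act8, act9, act10]
  rules := [⟨[(4, 1), (5, 1)], [(1, 6)]⟩, ⟨[(7, 1), (8, 1)], [(1, 6)]⟩, ⟨[(7, 1), (9, 1)], [(1, 6)]⟩, ⟨[(1, 1), (2, 1), (3, 1)], [(1, 6), (4, 10)]⟩]
  steps := [steps0, steps1, steps2]
  final := [(0, 4), (1, 3), (2, 4), (3, 3), (4, 4), (5, 4), (9, 1), (10, 3), (11, 4), (12, 4), (13, 2), (14, 1), (15, 3), (16, 4), (17, 3), (18, 4), (19, 2), (20, 3), (24, 1), (25, 4), (28, 2), (29, 3), (31, 1), (32, 4), (36, 1), (37, 2), (38, 4), (40, 4), (41, 3), (42, 4), (43, 1), (44, 4), (45, 1), (46, 2), (48, 1), (49, 2), (50, 1), (51, 1), (52, 2), (53, 1), (54, 4), (55, 2), (56, 3), (58, 3), (59, 1), (62, 2), (63, 2), (64, 4), (65, 4), (68, 1), (69, 1), (70,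 1), (71, 3)]

theorem gens_good : ∀ t ∈ data.gens, Good data.n t :=
  data.gens_good [[(4, 5, 6)], [(5, 6, 7), (7, 8, 9)], [(0, 1, 2)], [(1, 2, 3)], [(6, 7, 8), (7, 8, 9)], [(5, 6, 8)], [], [(6, 8, 7), (7, 9, 8)], [(4, 5, 6), (7, 9, 8)], [(4, 5, 6), (7, 8, 9)], [(6, 9, 7), (7, 8, 9)]] rfl (by decide +kernel)

theorem base : data.baseOK = true := by decide +kernel

theorem actP0 : (List.range 0).all data.actPart = true := rfl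

theorem actP1 : (List.range 1).all data.actPart = true :=
  Cert.all_range_succ actP0 (by decide +kernel)

theorem actP2 : (List.range 2).all data.actPart = true :=
  Cert.all_range_succ actP1 (by decide +kernel)

theorem actP3 : (List.range 3).all data.actPart = true :=
  Cert.all_range_succ actP2 (by decide +kernel)

theorem actP4 : (List.range 4).all data.actPart = true :=
  Cert.all_range_succ actP3 (by decide +kernel)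

theorem actP5 : (List.range 5).all data.actPart = true :=
  Cert.all_range_succ actP4 (by decide +kernel)

theorem actP6 : (List.range 6).all data.actPart = true :=
  Cert.all_range_succ actP5 (by decide +kernel)

theorem actP7 : (List.range 7).all data.actPart = true :=
  Cert.all_range_succ actP6 (by decide +kernel)

theorem actP8 : (List.range 8).all data.actPart = true :=
  Cert.all_range_succ actP7 (by decide +kernel)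

theorem actP9 : (List.range 9).all data.actPart = true :=
  Cert.all_range_succ actP8 (by decide +kernel)

theorem actP10 : (List.range 10).all data.actPart = true :=
  Cert.all_range_succ actP9 (by decide +kernel)

theorem actP11 : (List.range 11).all data.actPart = true :=
  Cert.all_range_succ actP10 (by decide +kernel)

theorem stp0 : data.stepsOK 0 = true := rfl

theorem stp1 : data.stepsOK 72 = true :=
  data.stepsOK_add stp0 72 (by decide +kernel)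

theorem numSteps_eq : data.numSteps = 72 := by decide +kernel

theorem check : data.check = true := by
  simp only [Cert.check, Bool.and_eq_true]
  exact ⟨base, actP11, numSteps_eq ▸ stp1⟩

end CfsgLib.AltCentral.FiveUp
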