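import Cfsg.Agent.Lib.AltCentral.CertGood

/-! Certificate data: stage FiveV, degree 10, characteristic 5. -/

set_option autoImplicit false
set_option maxRecDepth 100000

namespace CfsgLib.AltCentral.FiveV

def gens : List (List ℕ) :=
  [[1, 2, 0, 3, 4, 5, 6, 7, 8, 9], [0, 2, 3, 4, 5, 1, 6, 7, 8, 9], [1, 2, 3, 4, 0, 5, 6, 7, 8, 9], [1, 0, 3, 2, 4, 5, 6, 7, 8, 9], [2, 3, 0, 1, 4, 5, 6, 7, 8, 9], [0, 1, 2, 3, 4, 5, 6, 7, 8, 9]]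

def hel : List (List (ℕ × ℕ × List ℕ × ℕ)) :=
  [[(0, 0, [0, 1, 2, 3, 4, 5, 6, 7, 8, 9], 1), (0, 0, [1, 2, 3, 4, 0, 5, 6, 7, 8, 9], 1), (0, 1, [2, 3, 4, 0, 1, 5, 6, 7, 8, 9], 1), (0, 2, [3, 4, 0, 1, 2, 5, 6, 7, 8, 9], 1), (0, 3, [4, 0, 1, 2, 3, 5, 6, 7, 8, 9], 1)]]

def reps : List (List (ℕ × ℕ × List ℕ)) :=
  [[(0, 0, [0, 1, 2, 3, 4, 5, 6, 7, 8, 9]), (0, 0, [1, 2, 0, 3, 4, 5, 6, 7, 8, 9]), (1, 0, [0, 2, 3, 4, 5, 1, 6, 7, 8, 9]), (0, 1, [2, 0, 1, 3, 4, 5, 6, 7, 8, 9]), (1, 1, [2, 3, 0, 4, 5, 1, 6, 7, 8, 9]), (0, 2, [1, 0, 3, 4, 5, 2, 6, 7, 8, 9]), (1, 3, [3, 0, 2, 4, 5, 1, 6, 7, 8, 9]), (0, 4, [0, 3, 1, 4, 5, 2, 6, 7, 8, 9]), (1, 4, [3, 4, 0, 5, 1, 2, 6, 7, 8, 9]), (0, 5, [2, 1, 3, 4, 5, 0, 6, 7, 8, 9]), (1, 5, [2, 0, 4, 5, 1, 3, 6, 7, 8, 9]), (0, 6, [3, 1, 0, 4, 5, 2, 6, 7, 8, 9]), (1, 6, [4, 0, 3, 5, 1, 2, 6,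 7, 8, 9]), (0, 7, [1, 3, 2, 4, 5, 0, 6, 7, 8, 9]), (1, 7, [0, 4, 2, 5, 1, 3, 6, 7, 8, 9]), (0, 8, [3, 4, 1, 5, 2, 0, 6, 7, 8, 9]), (1, 8, [4, 5, 0, 1, 2, 3, 6, 7, 8, 9]), (0, 10, [0, 1, 4, 5, 2, 3, 6, 7, 8, 9]), (1, 10, [3, 0, 5, 1, 2, 4, 6, 7, 8, 9]), (0, 11, [3, 2, 1, 4, 5, 0, 6, 7, 8, 9]), (1, 11, [4, 2, 0, 5, 1, 3, 6, 7, 8, 9]), (0, 12, [4, 1, 3, 5, 2, 0, 6, 7, 8, 9]), (1, 12, [5, 0, 4, 1, 2, 3, 6, 7, 8, 9]), (1, 13, [2, 4, 3, 5, 1, 0, 6, 7, 8, 9]), (0, 14, [1, 4, 0, 5, 2, 3, 6, 7, 8, 9]), (1, 14, [0, 5, 3, 1, 2, 4, 6, 7, 8, 9]), (0, 15, [3, 4, 2, 5, 0, 1, 6, 7, 8, 9]), (1, 16, [5, 1, 0, 2, 3, 4, 6, 7, 8, 9]), (1, 17, [0, 2, 5, 1, 3, 4, 6, 7, 8, 9]), (0, 18, [3, 1, 5, 2, 0, 4, 6, 7, 8, 9]), (1, 19, [4, 3, 2, 5, 1, 0, 6, 7, 8, 9]), (0, 20, [4, 0, 1, 5, 2, 3, 6, 7, 8, 9])], [(1, 20, [5, 3, 0, 1, 2, 4, 6, 7, 8,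 9]), (0, 21, [4, 2, 3, 5, 0, 1, 6, 7, 8, 9]), (1, 22, [1, 0, 5, 2, 3, 4, 6, 7, 8, 9]), (0, 23, [0, 4, 3, 5, 2, 1, 6, 7, 8, 9]), (1, 23, [3, 5, 4, 1, 2, 0, 6, 7, 8, 9]), (0, 24, [2, 4, 1, 5, 0, 3, 6, 7, 8, 9]), (1, 24, [2, 5, 0, 1, 3, 4, 6, 7, 8, 9]), (0, 25, [1, 5, 3, 2, 0, 4, 6, 7, 8, 9]), (1, 25, [0, 1, 4, 2, 3, 5, 6, 7, 8, 9]), (0, 27, [5, 2, 1, 0, 3, 4, 6, 7, 8, 9]), (1, 28, [0, 3, 1, 2, 4, 5, 6, 7, 8, 9]), (1, 29, [4, 2, 1, 3, 0, 5, 6, 7, 8, 9]), (0, 30, [4, 3, 0, 5, 2, 1, 6, 7, 8, 9]), (1, 30, [5, 4, 3, 1, 2, 0, 6, 7, 8, 9]), (1, 31, [5, 0, 2, 1, 3, 4, 6, 7, 8, 9]), (1, 32, [1, 4, 0, 2, 3, 5, 6, 7, 8, 9]), (1, 33, [5, 3, 4, 1, 0, 2, 6, 7, 8, 9]), (0, 34, [2, 1, 5, 0, 3, 4, 6, 7, 8, 9]), (0, 35, [1, 4, 3, 5, 0, 2, 6, 7, 8, 9]), (1, 35, [0, 5, 4, 1, 3, 2, 6, 7, 8, 9]), (0, 36, [3, 5, 4, 2, 0, 1, 6, 7, 8, 9]),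 (1, 38, [3, 1, 0, 2, 4, 5, 6, 7, 8, 9]), (1, 39, [2, 1, 4, 3, 0, 5, 6, 7, 8, 9]), (1, 40, [0, 2, 5, 3, 4, 1, 6, 7, 8, 9]), (1, 41, [1, 3, 2, 0, 4, 5, 6, 7, 8, 9]), (1, 43, [5, 3, 2, 4, 0, 1, 6, 7, 8, 9]), (0, 44, [4, 3, 1, 5, 0, 2, 6, 7, 8, 9]), (1, 44, [5, 4, 0, 1, 3, 2, 6, 7, 8, 9]), (0, 45, [5, 4, 3, 2, 0, 1, 6, 7, 8, 9]), (1, 45, [1, 5, 4, 2, 3, 0, 6, 7, 8, 9]), (1, 46, [1, 0, 3, 2, 4, 5, 6, 7, 8, 9]), (0, 48, [5, 3, 4, 2, 1, 0, 6, 7, 8, 9])], [(1, 49, [3, 2, 1, 0, 4, 5, 6, 7, 8, 9]), (1, 50, [2, 5, 4, 1, 0, 3, 6, 7, 8, 9]), (1, 52, [4, 1, 5, 3, 0, 2, 6, 7, 8, 9]), (1, 54, [3, 2, 5, 4, 0, 1, 6, 7, 8, 9]), (1, 58, [5, 4, 2, 1, 0, 3, 6, 7, 8, 9]), (0, 60, [5, 4, 3, 0, 1, 2, 6, 7, 8, 9]), (0, 66, [4, 2, 5, 3, 1, 0, 6, 7, 8, 9]), (0, 68, [5, 4, 0, 2, 1, 3, 6, 7, 8, 9])]]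

def act0 : List (List (ℕ × ℕ)) :=
  [[(1, 0), (3, 0), (5, 0), (0, 0), (7, 0), (9, 0), (11, 0), (13, 0), (15, 0), (2, 0), (17, 0), (19, 0), (21, 0), (4, 0), (24, 0), (26, 0), (10, 2), (16, 3), (29, 0), (6, 0), (31, 0), (33, 0), (20, 3), (35, 0), (37, 0), (39, 0), (8, 0), (41, 0), (34, 0), (38, 4), (44, 0), (22, 2)], [(25, 1), (12, 0), (49, 0), (50, 0), (52, 0), (14, 0), (18, 1), (32, 4), (42, 2), (46, 0), (56, 0), (47, 1), (58, 0), (60, 0), (27, 0), (62, 3), (63, 0), (28, 0), (23, 0), (61, 0), (59, 4), (64, 0), (53, 2), (48, 3), (40, 3), (66, 2), (30, 0), (36, 1), (69, 0), (67, 1), (43, 1), (55, 2)], [(54, 3), (68, 4), (70, 0), (51, 4), (71, 0), (45, 0), (57, 3), (65, 1)]]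

def act1 : List (List (ℕ × ℕ)) :=
  [[(2, 0), (4, 0), (5, 1), (6, 0), (8, 0), (10, 0), (12, 0), (14, 0), (16, 0), (13, 1), (18, 0), (20, 0), (22, 0), (23, 0), (25, 0), (9, 3), (27, 0), (28, 0), (0, 4), (30, 0), (32, 0), (21, 3), (34, 0), (36, 0), (38, 0), (40, 0), (11, 3), (1, 0), (42, 0), (43, 0), (45, 0), (46, 0)], [(47, 0), (48, 0), (3, 0), (51, 0), (15, 1), (41, 4), (53, 0), (54, 0), (55, 0), (56, 0), (33, 4), (57, 0), (59, 0), (61, 0), (62, 0), (26, 2), (17, 1), (64, 0), (65, 0), (31, 1), (66, 0), (52, 2), (67, 0), (7, 0), (44, 4), (50, 0), (68, 0), (37, 2), (69, 4), (63, 3), (35, 4), (19, 2)], [(60, 1), (29, 0), (24, 3), (58, 0), (39, 0), (71, 4), (70, 2), (49, 1)]]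

def act2 : List (List (ℕ × ℕ)) :=
  []

def act3 : List (List (ℕ × ℕ)) :=
  [[(62, 0), (42, 0), (13, 0), (53, 0), (19, 0), (16, 2), (9, 0), (10, 4), (37, 0), (6, 0), (7, 1), (17, 4), (22, 2), (2, 0), (50, 0), (57, 2), (5, 3), (11, 1), (49, 0), (4, 0), (58, 0), (55, 4), (12, 3), (26, 0), (66, 4), (29, 1), (23, 0), (38, 1), (46, 3), (25, 4), (33, 0), (48, 2)], [(41, 0), (30, 0), (39, 4), (70, 4), (67, 1), (8, 0), (27, 4), (34, 1), (64, 2), (32, 0), (1, 0), (54, 2), (63, 2), (52, 1), (28, 2), (56, 3), (31, 3), (18, 0), (14, 0), (71, 4), (45, 4), (3, 0), (43, 3), (21, 1), (47, 2), (15, 3), (20, 0), (65, 1), (61, 1), (60, 4), (0, 0), (44, 3)], [(40, 3), (59, 4), (24, 1), (36, 4), (69, 0), (68, 0), (35, 1), (51, 1)]]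

def act4 : List (List (ℕ × ℕ)) :=
  [[(40, 3), (54, 3), (17, 4), (47, 2), (16, 2), (19, 0), (10, 4), (9, 0), (70, 4), (7, 0), (6, 1), (13, 0), (63, 2), (11, 0), (57, 2), (50, 0), (4, 3), (2, 1), (32, 3), (5, 0), (55, 4), (58, 0), (44, 3), (66, 4), (26, 0), (28, 1), (24, 0), (39, 1), (25, 4), (46, 3), (48, 2), (33, 0)], [(18, 2), (31, 0), (38, 4), (37, 0), (69, 4), (35, 0), (34, 1), (27, 4), (0, 2), (49, 2), (43, 1), (42, 4), (22, 2), (51, 1), (29, 2), (3, 3), (30, 3), (41, 3), (15, 0), (45, 4), (71, 4), (56, 0), (1, 2), (20, 1), (53, 0), (14, 3), (21, 0), (61, 1), (65, 1), (59, 4), (64, 0), (12, 3)], [(62, 0), (60, 4), (23, 1), (68, 3), (67, 2), (36, 1), (8, 1), (52, 1)]]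

def act5 : List (List (ℕ × ℕ)) :=
  [[(0, 0), (1, 0), (2, 0), (3, 0), (4, 0), (5, 0), (6, 0), (7, 0), (8, 0), (9, 0), (10, 0), (11, 0), (12, 0), (13, 0), (14, 0), (15, 0), (16, 0), (17, 0), (18, 0), (19, 0), (20, 0), (21, 0), (22, 0), (23, 0), (24, 0), (25, 0), (26, 0), (27, 0), (28, 0), (29, 0), (30, 0), (31, 0)], [(32, 0), (33, 0), (34, 0), (35, 0), (36, 0), (37, 0), (38, 0), (39, 0), (40, 0), (41, 0), (42, 0), (43, 0), (44, 0), (45, 0), (46, 0), (47, 0), (48, 0), (49, 0), (50, 0), (51, 0), (52, 0), (53, 0), (54, 0), (55, 0), (56, 0), (57, 0), (58, 0), (59, 0), (60, 0), (61, 0), (62, 0), (63, 0)], [(64, 0), (65, 0), (66, 0), (67, 0), (68, 0), (69, 0), (70, 0), (71, 0)]]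

def steps0 : List Step :=
  [.rule 0 [(6, 1), (7, 1), (9, 1), (10, 1)] [[], []] [(6, 1), (7, 1), (9, 1), (10, 1)],
   .tr 0 0 [(11, 1), (13, 1), (2, 1), (17, 1)],
   .tr 1 0 [(12, 1), (14, 1), (13, 1), (18, 1)],
   .tr 0 1 [(19, 1), (4, 1), (5, 1), (16, 1)],
   .tr 1 1 [(20, 1), (23, 1), (5, 1), (28, 1)],
   .tr 0 2 [(21, 1), (24, 1), (4, 1), (29, 1)],
   .tr 1 2 [(22, 1), (25, 1), (23, 1), (0, 1)],
   .tr 1 3 [(30, 1), (8, 1), (10, 1), (27, 1)],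
   .tr 0 4 [(31, 1), (35, 1), (9, 1), (34, 1)],
   .tr 1 4 [(32, 1), (36, 1), (10, 1), (42, 1)],
   .tr 0 5 [(33, 1), (37, 1), (7, 1), (38, 1)],
   .tr 1 5 [(21, 1), (38, 1), (8, 1), (43, 1)],
   .tr 0 6 [(20, 1), (39, 1), (35, 1), (1, 1)],
   .tr 1 6 [(34, 1), (40, 1), (36, 1), (2, 1)],
   .tr 0 7 [(44, 1), (15, 1), (17, 1), (41, 1)],
   .tr 1 7 [(45, 1), (16, 1), (18, 1), (1, 1)],
   .tr 0 8 [(22, 1), (50, 1), (2, 1), (49, 1)],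
   .tr 1 8 [(46, 1), (51, 1), (13, 1), (3, 1)],
   .tr 0 9 [(25, 1), (52, 1), (17, 1), (56, 1)],
   .tr 1 9 [(47, 1), (15, 1), (18, 1), (33, 1)],
   .tr 1 10 [(48, 1), (41, 1), (14, 1), (53, 1)],
   .tr 1 11 [(21, 1), (53, 1), (16, 1), (57, 1)],
   .tr 0 12 [(31, 1), (32, 1), (50, 1), (3, 1)],
   .tr 1 12 [(32, 1), (54, 1), (51, 1), (4, 1)],
   .tr 0 13 [(49, 1), (42, 1), (52, 1), (5, 1)],
   .tr 1 13 [(3, 1), (55, 1), (15, 1), (5, 1)],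
   .tr 0 14 [(58, 1), (26, 1), (16, 1), (46, 1)],
   .tr 1 14 [(59, 1), (9, 1), (28, 1), (56, 1)],
   .tr 0 15 [(60, 1), (10, 1), (29, 1), (3, 1)],
   .tr 1 15 [(61, 1), (27, 1), (0, 1), (4, 1)],
   .tr 1 16 [(34, 1), (65, 1), (5, 1), (64, 1)],
   .tr 1 17 [(62, 1), (31, 1), (23, 1), (6, 1)]]

def steps1 : List Step :=
  [.tr 0 18 [(39, 1), (59, 1), (16, 1), (40, 1)],
   .tr 1 18 [(40, 1), (66, 1), (28, 1), (44, 1)],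
   .tr 0 19 [(62, 1), (26, 1), (29, 1), (12, 1)],
   .tr 1 19 [(26, 1), (9, 1), (0, 1), (48, 1)],
   .tr 0 20 [(63, 1), (46, 1), (24, 1), (64, 1)],
   .tr 0 21 [(33, 1), (64, 1), (10, 1), (66, 1)],
   .tr 1 21 [(21, 1), (52, 1), (27, 1), (50, 1)],
   .tr 1 22 [(46, 1), (47, 1), (65, 1), (6, 1)],
   .tr 0 23 [(25, 1), (53, 1), (61, 1), (7, 1)],
   .tr 1 23 [(47, 1), (67, 1), (31, 1), (8, 1)],
   .tr 1 26 [(68, 1), (11, 1), (27, 1), (62, 1)],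
   .tr 1 27 [(37, 1), (13, 1), (42, 1), (44, 1)],
   .tr 0 28 [(69, 1), (17, 1), (38, 1), (0, 1)],
   .tr 1 28 [(69, 1), (18, 1), (43, 1), (6, 1)],
   .tr 0 29 [(67, 1), (41, 1), (1, 1), (7, 1)],
   .tr 0 30 [(49, 1), (68, 1), (9, 1), (54, 1)],
   .tr 0 31 [(43, 1), (22, 1), (35, 1), (11, 1)],
   .tr 1 31 [(35, 1), (46, 1), (36, 1), (12, 1)],
   .tr 1 32 [(54, 1), (37, 1), (27, 1), (55, 1)],
   .tr 1 33 [(55, 1), (24, 1), (42, 1), (59, 1)],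
   .tr 1 36 [(19, 1), (62, 1), (38, 1), (60, 1)],
   .tr 0 37 [(12, 1), (54, 1), (17, 1), (70, 1)],
   .tr 1 37 [(48, 1), (60, 1), (18, 1), (24, 1)],
   .tr 0 38 [(33, 1), (59, 1), (41, 1), (23, 1)],
   .tr 1 38 [(21, 1), (66, 1), (1, 1), (65, 1)],
   .tr 0 42 [(71, 1), (19, 1), (41, 1), (43, 1)],
   .tr 0 43 [(14, 1), (4, 1), (56, 1), (58, 1)],
   .tr 1 45 [(71, 1), (0, 1), (57, 1), (12, 1)],
   .rule 0 [(1, 2), (2, 1), (5, 2), (6, 2), (7, 1), (8, 1)] [[(0, 2), (2, 3), (3, 1), (4, 2), (8, 1), (9, 3), (10, 3), (11, 4), (12, 3), (13, 1), (14, 2), (18, 2), (19, 2), (21, 2), (22, 2), (25, 1), (26, 3), (27, 1), (28, 2), (29, 2), (30, 3), (32, 2), (33, 2), (34, 3), (35, 4), (37, 2), (38, 3), (39, 1), (40, 3), (41, 2), (43, 1), (44, 1), (45, 4), (46, 3), (49, 1), (51, 4), (52, 2), (54, 1), (55, 3), (56, 1), (57, 2), (58,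 2), (59, 3)], [(0, 3), (1, 1), (2, 2), (3, 1), (4, 2), (6, 1), (8, 3), (10, 3), (11, 1), (12, 3), (13, 4), (14, 2), (16, 1), (17, 3), (18, 4), (19, 2), (20, 1), (21, 4), (22, 3), (23, 2), (25, 1), (26, 3), (27, 4), (28, 3), (30, 3), (31, 4), (32, 2), (33, 4), (34, 2), (37, 2), (38, 1), (39, 3), (42, 1), (43, 4), (44, 3), (45, 2), (47, 4), (48, 3), (49, 1), (50, 3), (51, 1), (52, 3), (53, 4), (54, 4), (55, 3), (56, 4), (57, 4), (58, 2), (59, 1)]] [(1, 2), (2, 1), (5, 2), (6, 2), (7, 1), (8, 1)],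
   .tr 1 60 [(4, 2), (5, 1), (10, 2), (12, 2), (14, 1), (16, 1)],
   .tr 0 61 [(7, 2), (9, 1), (17, 2), (21, 2), (24, 1), (10, 1)],
   .tr 1 61 [(8, 2), (10, 1), (18, 2), (22, 2), (25, 1), (27, 1)]]

def steps2 : List Step :=
  [.tr 0 62 [(13, 2), (2, 1), (16, 2), (33, 2), (37, 1), (17, 1)],
   .tr 1 62 [(14, 2), (13, 1), (28, 2), (21, 2), (38, 1), (18, 1)],
   .tr 0 63 [(15, 2), (17, 1), (29, 2), (20, 2), (39, 1), (41, 1)],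
   .tr 1 63 [(16, 2), (18, 1), (0, 2), (34, 2), (40, 1), (1, 1)],
   .tr 1 64 [(23, 2), (5, 1), (27, 2), (48, 2), (41, 1), (28, 1)],
   .tr 1 66 [(9, 2), (28, 1), (43, 2), (32, 2), (54, 1), (56, 1)]]

def data : Cert where
  n := 10
  p := 5
  N := 72
  gens := gens
  hgens := [(2, 1)]
  hel := hel
  reps := reps
  act := [act0, act1, act2, act3, act4, act5]
  rules := [⟨[(3, 1), (4, 1)], [(1, 5)]⟩]
  steps := [steps0, steps1, steps2]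
  final := [(0, 3), (1, 2), (4, 4), (5, 1), (8, 1), (9, 4), (10, 4), (13, 4), (14, 4), (16, 4), (18, 1), (19, 3), (20, 4), (21, 4), (22, 4), (24, 2), (25, 2), (26, 2), (28, 4), (29, 3), (30, 2), (31, 4), (32, 2), (34, 4), (35, 4), (37, 3), (38, 2), (39, 1), (40, 2), (41, 1), (42, 1), (43, 1), (44, 3), (45, 2), (46, 4), (47, 4), (48, 2), (49, 2), (51, 3), (52, 1), (56, 2), (57, 4), (58, 3), (59, 1), (61, 4), (62, 1), (63, 2), (65, 2), (66, 3), (67, 4), (68, 1), (69, 1)]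

theorem gens_good : ∀ t ∈ data.gens, Good data.n t :=
  data.gens_good [[(0, 1, 2)], [(1, 2, 3), (3, 4, 5)], [(0, 1, 2), (2, 3, 4)], [(0, 1, 2), (1, 2, 3)], [(0, 2, 1), (1, 3, 2)], []] rfl (by decide +kernel)

theorem base : data.baseOK = true := by decide +kernel

theorem actP0 : (List.range 0).all data.actPart = true := rfl

theorem actP1 : (List.range 1).all data.actPart = true :=
  Cert.all_range_succ actP0 (by decide +kernel)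

theorem actP2 : (List.range 2).all data.actPart = true :=
  Cert.all_range_succ actP1 (by decide +kernel)

theorem actP3 : (List.range 3).all data.actPart = true :=
  Cert.all_range_succ actP2 (by decide +kernel)

theorem actP4 : (List.range 4).all data.actPart = true :=
  Cert.all_range_succ actP3 (by decide +kernel)

theorem actP5 : (List.range 5).all data.actPart = true :=
  Cert.all_range_succ actP4 (by decide +kernel)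

theorem actP6 : (List.range 6).all data.actPart = true :=
  Cert.all_range_succ actP5 (by decide +kernel)

theorem stp0 : data.stepsOK 0 = true := rfl

theorem stp1 : data.stepsOK 70 = true :=
  data.stepsOK_add stp0 70 (by decide +kernel)

theorem numSteps_eq : data.numSteps = 70 := by decide +kernel

theorem check : data.check = true := by
  simp only [Cert.check, Bool.and_eq_true]
  exact ⟨base, actP6, numSteps_eq ▸ stp1⟩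

end CfsgLib.AltCentral.FiveV
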