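import Mathlib
import Cfsg.Agent.Lib.AltCentral.Basic
import Cfsg.Agent.Lib.Coprime.Action

/-!
Groups with a large alternating quotient in which all noncentral elements of `p`-power order have
solvable centralisers: reduction to a question about modules.
-/

set_option autoImplicit false

namespace CfsgLib.AltCentral

open Subgroup
open scoped commutatorElement

/-- Every noncentral element of `p`-power order has a solvable centraliser. -/
def PCentSolvable (p : ℕ) (G : Type*) [Group G] : Prop :=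
  ∀ x : G, x ∉ Subgroup.center G → (∃ k : ℕ, orderOf x = p ^ k) →
    Group.IsSolvable (Subgroup.centralizer ({x} : Set G))

variable {G : Type*} [Group G]

theorem PCentSolvable.of_injective {p : ℕ} {G' : Type*} [Group G'] (h : PCentSolvable p G)
    (i : G' →* G) (hi : Function.Injective i) : PCentSolvable p G' := by
  intro x hx hk
  have hx' : i x ∉ Subgroup.center G := by
    intro hc
    apply hx
    rw [Subgroup.mem_center_iff]
    intro y
    apply hi
    rw [map_mul, map_mul]
    exact Subgroup.mem_center_iff.1 hc (i y)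
  haveI := h (i x) hx' (by rwa [orderOf_injective i hi x])
  let j : Subgroup.centralizer ({x} : Set G') →* Subgroup.centralizer ({i x} : Set G) :=
    (i.comp (Subgroup.centralizer ({x} : Set G')).subtype).codRestrict _ fun y => by
      rw [Subgroup.mem_centralizer_singleton_iff]
      show i (y : G') * i x = i x * i y
      rw [← map_mul, ← map_mul, Subgroup.mem_centralizer_singleton_iff.1 y.2]
  refine Group.isSolvable_of_isSolvable_injective (f := j) fun a b hab => Subtype.ext (hi ?_)
  exact congrArg Subtype.val hab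

/-- The property passes to quotients by normal subgroups of order prime to `p`. -/
theorem PCentSolvable.quotient [Finite G] {p : ℕ} [hp : Fact p.Prime] (h : PCentSolvable p G)
    (R : Subgroup G) [R.Normal] (hR : p.Coprime (Nat.card R)) : PCentSolvable p (G ⧸ R) := by
  intro xb hx hk
  obtain ⟨k, hk⟩ := hk
  obtain ⟨y, rfl⟩ := QuotientGroup.mk'_surjective R xb
  -- replace `y` by its `p`-part
  have ho : orderOf y ≠ 0 := (orderOf_pos y).ne'
  set e := (orderOf y).factorization p with he
  obtain ⟨m, hm, hmo⟩ : ∃ m, ¬ p ∣ m ∧ orderOf y = p ^ e * m :=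
    ⟨orderOf y / p ^ e, Nat.not_dvd_ordCompl hp.out ho, (Nat.ordProj_mul_ordCompl_eq_self _ _).symm⟩
  have hcop : m.Coprime (p ^ k) := Nat.Coprime.pow_right k ((Nat.coprime_comm).1
    ((Nat.Prime.coprime_iff_not_dvd hp.out).2 hm))
  obtain ⟨t, ht⟩ : ∃ t, m * t % p ^ k = 1 % p ^ k := by
    obtain ⟨t, -, ht⟩ := Nat.exists_mul_mod_eq_of_coprime 1 hcop (pow_ne_zero _ hp.out.ne_zero)
    exact ⟨t, ht⟩
  let x := y ^ (m * t)
  have hxb : QuotientGroup.mk' R x = QuotientGroup.mk' R y := by
    show QuotientGroup.mk' R (y ^ (m * t)) = _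
    rw [map_pow, ← pow_mod_orderOf, hk]
    rw [ht, ← hk, pow_mod_orderOf, pow_one]
  have hxo : ∃ j, orderOf x = p ^ j := by
    have hd : orderOf x ∣ p ^ e := by
      rw [orderOf_dvd_iff_pow_eq_one, ← pow_mul, show m * t * p ^ e = orderOf y * t by rw [hmo]; ring,
        pow_mul, pow_orderOf_eq_one, one_pow]
    obtain ⟨j, -, hj⟩ := (Nat.dvd_prime_pow hp.out).1 hd
    exact ⟨j, hj⟩
  have hxc : x ∉ Subgroup.center G := by
    intro hc
    apply hx
    rw [← hxb, Subgroup.mem_center_iff]
    intro z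
    obtain ⟨z, rfl⟩ := QuotientGroup.mk'_surjective R z
    rw [← map_mul, ← map_mul, Subgroup.mem_center_iff.1 hc z]
  haveI := h x hxc hxo
  rw [← hxb]
  -- centralisers lift
  obtain ⟨j, hj⟩ := hxo
  have hA : Nat.card (Subgroup.zpowers x) = p ^ j := by rw [Nat.card_zpowers, hj]
  have hcopA : (Nat.card (Subgroup.zpowers x)).Coprime (Nat.card R) := by
    rw [hA]; exact Nat.Coprime.pow_left j hR
  haveI hsol : Group.IsSolvable (Subgroup.zpowers x) := inferInstance
  let q : Subgroup.centralizer ({x} : Set G) →* Subgroup.centralizer ({QuotientGroup.mk' R x} : Set (G ⧸ R)) :=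
    ((QuotientGroup.mk' R).comp (Subgroup.centralizer ({x} : Set G)).subtype).codRestrict _ fun z => by
      rw [Subgroup.mem_centralizer_singleton_iff]
      show QuotientGroup.mk' R (z : G) * QuotientGroup.mk' R x = QuotientGroup.mk' R x * QuotientGroup.mk' R z
      rw [← map_mul, ← map_mul, Subgroup.mem_centralizer_singleton_iff.1 z.2]
  refine Group.isSolvable_of_surjective (f := q) ?_
  rintro ⟨zb, hzb⟩
  obtain ⟨z, rfl⟩ := QuotientGroup.mk'_surjective R zb
  rw [Subgroup.mem_centralizer_singleton_iff, ← map_mul, ← map_mul] at hzb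
  -- Glauberman transitivity for the stabiliser `zpowers x ⊔ R`
  have hnorm : Subgroup.zpowers x ≤ Subgroup.normalizer (R : Set G) := by
    rw [Subgroup.normalizer_eq_top]; exact le_top
  have hL : z⁻¹ * x * z * x⁻¹ ∈ R := by
    have : QuotientGroup.mk' R (z⁻¹ * x * z * x⁻¹) = 1 := by
      rw [show z⁻¹ * x * z * x⁻¹ = z⁻¹ * (x * z) * x⁻¹ by group, map_mul, map_mul, ← hzb, map_mul,
        map_inv, map_inv, inv_mul_cancel_left, mul_inv_cancel]
    exact (QuotientGroup.eq_one_iff _).1 this
  -- conjugate `x` back by an element of `R`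
  obtain ⟨r, hr, hconj⟩ := CfsgLib.Coprime.exists_conj_le_of_coprime (Subgroup.zpowers x) R hnorm hcopA
    (Subgroup.zpowers (z⁻¹ * x * z)) (by
      rw [Subgroup.zpowers_le]
      have := Subgroup.mul_mem_sup hL (Subgroup.mem_zpowers x)
      rw [sup_comm] at this
      simpa [mul_assoc] using this)
    (by
      rw [Nat.card_zpowers, show z⁻¹ * x * z = MulAut.conj z⁻¹ x by simp, MulEquiv.orderOf_eq, hj]
      exact Nat.Coprime.pow_left j hR)
    (Or.inl inferInstance)
  -- so `r z⁻¹` normalises `zpowers x`, hence centralises `x` modulo `R ⊓ zpowers x = ⊥`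
  set w := z * r⁻¹ with hw
  have h1 : w⁻¹ * x * w ∈ Subgroup.zpowers x := by
    have := CfsgLib.Coprime.conj_smul_le.1 hconj (z⁻¹ * x * z) (Subgroup.mem_zpowers _)
    rw [hw, show (z * r⁻¹)⁻¹ * x * (z * r⁻¹) = r * (z⁻¹ * x * z) * r⁻¹ by group]
    exact this
  have h2 : w⁻¹ * x * w * x⁻¹ ∈ R := by
    rw [hw, show (z * r⁻¹)⁻¹ * x * (z * r⁻¹) * x⁻¹
      = r * ((z⁻¹ * x * z * x⁻¹) * (x * r⁻¹ * x⁻¹)) by group]
    exact R.mul_mem hr (R.mul_mem hL (Subgroup.Normal.conj_mem inferInstance _ (R.inv_mem hr) x))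
  have h3 : w⁻¹ * x * w * x⁻¹ ∈ Subgroup.zpowers x ⊓ R :=
    ⟨Subgroup.mul_mem _ h1 (Subgroup.inv_mem _ (Subgroup.mem_zpowers x)), h2⟩
  rw [Subgroup.inf_eq_bot_of_coprime hcopA, Subgroup.mem_bot, mul_inv_eq_one,
    mul_assoc, inv_mul_eq_iff_eq_mul] at h3
  refine ⟨⟨w, Subgroup.mem_centralizer_singleton_iff.2 h3.symm⟩, Subtype.ext ?_⟩
  show QuotientGroup.mk' R w = QuotientGroup.mk' R z
  rw [hw, map_mul, (QuotientGroup.eq_one_iff _).2 (R.inv_mem hr) |> fun e =>
    (show QuotientGroup.mk' R r⁻¹ = 1 from e), mul_one]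

/-- An element centralised modulo the centre by a subgroup with nonsolvable image has a
nonsolvable centraliser. -/
theorem not_solvable_centralizer {A : Type*} [Group A] (f : G →* A) (n : G) (L : Subgroup G)
    (hL : ∀ l ∈ L, l * n * l⁻¹ * n⁻¹ ∈ Subgroup.center G) (hns : ¬ Group.IsSolvable (L.map f)) :
    ¬ Group.IsSolvable (Subgroup.centralizer ({n} : Set G)) := by
  intro hs
  apply hns
  have hle : ⁅L, L⁆ ≤ Subgroup.centralizer ({n} : Set G) := by
    rw [Subgroup.commutator_le]
    intro a ha b hb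
    rw [Subgroup.mem_centralizer_singleton_iff, commutatorElement_def]
    have key : ∀ l ∈ L, ∃ z, z ∈ Subgroup.center G ∧ l * n * l⁻¹ = z * n :=
      fun l hl => ⟨_, hL l hl, by group⟩
    obtain ⟨za, hza, ea⟩ := key a ha
    obtain ⟨zb, hzb, eb⟩ := key b hb
    have ha' : a⁻¹ * n * a = za⁻¹ * n := by
      have h1 : n = za⁻¹ * (a * n * a⁻¹) := by rw [ea]; group
      conv_lhs => rw [h1]
      have h2 := Subgroup.mem_center_iff.1 (Subgroup.inv_mem _ hza) a⁻¹
      rw [show a⁻¹ * (za⁻¹ * (a * n * a⁻¹)) * a = a⁻¹ * za⁻¹ * a * n by group, h2]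
      group
    have hb' : b⁻¹ * n * b = zb⁻¹ * n := by
      have h1 : n = zb⁻¹ * (b * n * b⁻¹) := by rw [eb]; group
      conv_lhs => rw [h1]
      have h2 := Subgroup.mem_center_iff.1 (Subgroup.inv_mem _ hzb) b⁻¹
      rw [show b⁻¹ * (zb⁻¹ * (b * n * b⁻¹)) * b = b⁻¹ * zb⁻¹ * b * n by group, h2]
      group
    have hc : ∀ {z : G}, z ∈ Subgroup.center G → ∀ g : G, g * z = z * g :=
      fun hz g => Subgroup.mem_center_iff.1 hz g
    have : a * b * a⁻¹ * b⁻¹ * n * (a * b * a⁻¹ * b⁻¹)⁻¹ = n := by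
      rw [show a * b * a⁻¹ * b⁻¹ * n * (a * b * a⁻¹ * b⁻¹)⁻¹
        = a * (b * (a⁻¹ * (b⁻¹ * n * b) * a) * b⁻¹) * a⁻¹ by group, hb']
      rw [show a⁻¹ * (zb⁻¹ * n) * a = (a⁻¹ * zb⁻¹) * n * a by group, hc (Subgroup.inv_mem _ hzb) a⁻¹,
        show zb⁻¹ * a⁻¹ * n * a = zb⁻¹ * (a⁻¹ * n * a) by group, ha',
        show b * (zb⁻¹ * (za⁻¹ * n)) * b⁻¹ = (b * (zb⁻¹ * za⁻¹)) * n * b⁻¹ by group,
        hc (Subgroup.mul_mem _ (Subgroup.inv_mem _ hzb) (Subgroup.inv_mem _ hza)) b,
        show zb⁻¹ * za⁻¹ * b * n * b⁻¹ = zb⁻¹ * za⁻¹ * (b * n * b⁻¹) by group, eb,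
        show a * (zb⁻¹ * za⁻¹ * (zb * n)) * a⁻¹ = a * (zb⁻¹ * za⁻¹ * zb) * n * a⁻¹ by group,
        hc hzb (zb⁻¹ * za⁻¹), mul_inv_cancel_left, hc (Subgroup.inv_mem _ hza) a,
        show za⁻¹ * a * n * a⁻¹ = za⁻¹ * (a * n * a⁻¹) by group, ea, inv_mul_cancel_left]
    exact mul_inv_eq_iff_eq_mul.1 this
  haveI hs' : Group.IsSolvable (⁅L, L⁆ : Subgroup G) :=
    Group.isSolvable_of_isSolvable_injective (f := Subgroup.inclusion hle) (Subgroup.inclusion_injective hle)
  haveI hI : Group.IsSolvable (⁅L.map f, L.map f⁆ : Subgroup A) := by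
    rw [← Subgroup.map_commutator]
    exact Group.isSolvable_of_surjective (f := f.subgroupMap ⁅L, L⁆) (f.subgroupMap_surjective _)
  obtain ⟨n', hn'⟩ := hI
  refine ⟨⟨n' + 1, ?_⟩⟩
  have key : ∀ k, (derivedSeries (L.map f : Subgroup A) (k + 1)).map (L.map f).subtype
      = (derivedSeries (⁅L.map f, L.map f⁆ : Subgroup A) k).map (⁅L.map f, L.map f⁆ : Subgroup A).subtype := by
    intro k
    induction k with
    | zero =>
      rw [derivedSeries_one, _root_.commutator_def, Subgroup.map_commutator, derivedSeries_zero,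
        ← MonoidHom.range_eq_map, ← MonoidHom.range_eq_map, Subgroup.range_subtype,
        Subgroup.range_subtype]
    | succ k ih =>
      rw [derivedSeries_succ, Subgroup.map_commutator, ih, derivedSeries_succ, Subgroup.map_commutator]
  have := key n'
  rw [hn', Subgroup.map_bot, Subgroup.map_eq_bot_iff_of_injective _ (Subgroup.subtype_injective _)] at this
  exact this

/-- An element of order `p` and a copy of the alternating group of degree five commuting with it. -/
theorem exists_commuting_five {p m : ℕ} [hp : Fact p.Prime]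
    (hm : (5 ≤ p ∧ m = p + 5) ∨ (p = 2 ∧ m = 9)) :
    ∃ (s : alternatingGroup (Fin m)) (L : Subgroup (alternatingGroup (Fin m))),
      orderOf s = p ∧ ¬ Group.IsSolvable L ∧ Nat.card L = 60 ∧ ∀ l ∈ L, Commute l s := by
  have h5 : 5 ≤ m := by omega
  obtain ⟨q, rfl⟩ : ∃ q, m = q + 5 := ⟨m - 5, by omega⟩
  haveI : Nontrivial (Fin q) := by
    rw [← Fintype.one_lt_card_iff_nontrivial, Fintype.card_fin]; omega
  have hdvd : p ∣ Nat.card (alternatingGroup (Fin q)) := by
    rw [nat_card_alternatingGroup, Nat.card_fin]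
    rcases hm with ⟨hp5, hq⟩ | ⟨rfl, hq⟩
    · obtain rfl : q = p := by omega
      have h2 : 2 ∣ (q - 1).factorial := Nat.dvd_factorial two_pos (by omega)
      rw [← Nat.mul_factorial_pred (by omega : q ≠ 0), Nat.mul_div_assoc _ h2]
      exact Dvd.intro _ rfl
    · obtain rfl : q = 4 := by omega
      decide
  obtain ⟨c, hc⟩ := exists_prime_orderOf_dvd_card' p hdvd
  let e1 : Fin q ↪ Fin (q + 5) := Fin.castLEEmb (by omega)
  let e2 : Fin 5 ↪ Fin (q + 5) := ⟨Fin.natAdd q, fun a b h => by simpa [Fin.ext_iff] using h⟩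
  refine ⟨altEmb e1 c, (altEmb e2).range, ?_, ?_, ?_, ?_⟩
  · rw [orderOf_injective _ (altEmb_injective e1), hc]
  · intro h
    exact not_isSolvable_alt (m := 5) le_rfl (@Group.isSolvable_of_surjective _ _ _ _
      (MonoidHom.ofInjective (altEmb_injective e2)).symm.toMonoidHom
      (MonoidHom.ofInjective (altEmb_injective e2)).symm.surjective h)
  · rw [Nat.card_congr (MonoidHom.ofInjective (altEmb_injective e2)).symm.toEquiv,
      nat_card_alternatingGroup, Nat.card_fin]
    rfl
  · rintro _ ⟨b, rfl⟩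
    apply Subtype.ext
    show (b : Equiv.Perm (Fin 5)).viaEmbedding e2 * (c : Equiv.Perm (Fin q)).viaEmbedding e1
      = (c : Equiv.Perm (Fin q)).viaEmbedding e1 * (b : Equiv.Perm (Fin 5)).viaEmbedding e2
    apply Equiv.Perm.Disjoint.commute
    intro x
    by_cases hx : (x : ℕ) < q
    · left
      apply Equiv.Perm.viaEmbedding_apply_of_notMem
      rintro ⟨y, rfl⟩
      exact absurd hx (Nat.not_lt.2 (Nat.le_add_right q (y : ℕ)))
    · right
      apply Equiv.Perm.viaEmbedding_apply_of_notMem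
      rintro ⟨y, rfl⟩
      simp [e1] at hx

/-- The module condition: every nonzero module in characteristic `p` has a nonzero vector whose
stabiliser is nonsolvable. -/
def FixedVectorCond (p m : ℕ) : Prop :=
  ∀ (W : Type) [AddCommGroup W] [Finite W] [Nontrivial W]
    [DistribMulAction (alternatingGroup (Fin m)) W], (∀ w : W, p • w = 0) →
    ∃ w : W, w ≠ 0 ∧ ∃ L : Subgroup (alternatingGroup (Fin m)),
      ¬ Group.IsSolvable L ∧ ∀ l ∈ L, l • w = w

theorem false_of_central [Finite G] {p m : ℕ} [hp : Fact p.Prime]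
    (hm : (5 ≤ p ∧ m = p + 5) ∨ (p = 2 ∧ m = 9)) (hc : PCentSolvable p G)
    (f : G →* alternatingGroup (Fin m)) (hf : Function.Surjective f) (hK : IsPGroup p f.ker)
    (hZ : f.ker ≤ Subgroup.center G) : False := by
  obtain ⟨s, L, hs, hL, -, hcomm⟩ := exists_commuting_five hm
  obtain ⟨x, rfl⟩ := hf s
  have hx : x ∉ Subgroup.center G := by
    intro hc'
    have h4 : 4 ≤ Nat.card (Fin m) := by rw [Nat.card_fin]; omega
    have : f x ∈ Subgroup.center (alternatingGroup (Fin m)) := by
      rw [Subgroup.mem_center_iff]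
      intro a
      obtain ⟨a, rfl⟩ := hf a
      rw [← map_mul, ← map_mul, Subgroup.mem_center_iff.1 hc' a]
    rw [alternatingGroup.center_eq_bot h4, Subgroup.mem_bot] at this
    rw [this, orderOf_one] at hs
    exact hp.out.one_lt.ne hs
  have hxo : ∃ k, orderOf x = p ^ k := by
    have hk : x ^ p ∈ f.ker := by
      rw [MonoidHom.mem_ker, map_pow]
      exact (congrArg (f x ^ ·) hs).symm.trans (pow_orderOf_eq_one (f x))
    obtain ⟨k, hk'⟩ := hK ⟨x ^ p, hk⟩
    have : orderOf x ∣ p ^ (k + 1) := by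
      rw [orderOf_dvd_iff_pow_eq_one, pow_succ', pow_mul]
      exact congrArg Subtype.val hk'
    obtain ⟨j, -, hj⟩ := (Nat.dvd_prime_pow hp.out).1 this
    exact ⟨j, hj⟩
  refine not_solvable_centralizer f x (L.comap f) (fun l hl => hZ ?_) ?_ (hc x hx hxo)
  · rw [MonoidHom.mem_ker, map_mul, map_mul, map_mul, map_inv, map_inv, (hcomm (f l) hl).eq,
      mul_inv_cancel_right, mul_inv_cancel]
  · rwa [Subgroup.map_comap_eq_self_of_surjective hf]

theorem false_of_coprime [Finite G] {p m : ℕ} [hp : Fact p.Prime] (h7 : 7 ≤ p) (hm : m = p + 5)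
    (hc : PCentSolvable p G)
    (f : G →* alternatingGroup (Fin m)) (hf : Function.Surjective f) (hK : IsPGroup p f.ker) :
    False := by
  obtain ⟨s, L, hs, hL, hL60, hcomm⟩ := exists_commuting_five (Or.inl ⟨by omega, hm⟩)
  obtain ⟨k, hk⟩ := IsPGroup.iff_card.1 hK
  have hpdvd : p.Coprime 60 := by
    rw [hp.out.coprime_iff_not_dvd]
    intro hd
    have : p ≤ 60 := Nat.le_of_dvd (by norm_num) hd
    have hpp := hp.out
    interval_cases p <;> first | omega | (norm_num at hd hpp)
  -- a complement in the preimage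
  let PL := L.comap f
  haveI : (f.ker.subgroupOf PL).Normal := f.normal_ker.subgroupOf PL
  let fL : PL →* L := (f.comp PL.subtype).codRestrict L fun x => x.2
  have hfL : Function.Surjective fL := fun a => by
    obtain ⟨x, hx⟩ := hf a
    exact ⟨⟨x, by simp [PL, hx]⟩, Subtype.ext hx⟩
  have hkerL : fL.ker = f.ker.subgroupOf PL := by
    ext x
    rw [MonoidHom.mem_ker, Subgroup.mem_subgroupOf, MonoidHom.mem_ker, Subtype.ext_iff]
    rfl
  have hidx : (f.ker.subgroupOf PL).index = 60 := by
    rw [← hkerL, Subgroup.index_ker, MonoidHom.range_eq_top.2 hfL, Subgroup.card_top, hL60]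
  have hcK : Nat.card (f.ker.subgroupOf PL) = p ^ k := by
    rw [← hk]
    exact Nat.card_congr (Subgroup.subgroupOfEquivOfLe (f.ker_le_comap L)).toEquiv
  obtain ⟨C, hC⟩ := Subgroup.exists_right_complement'_of_coprime (N := f.ker.subgroupOf PL)
    (by rw [hidx, hcK]; exact Nat.Coprime.pow_left k hpdvd)
  let A := C.map PL.subtype
  have hA60 : Nat.card A = 60 := by
    rw [Subgroup.card_subtype, CfsgLib.Coprime.card_eq_index_of_isComplement' hC, hidx]
  have hAmap : A.map f = L := by
    apply le_antisymm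
    · rintro _ ⟨a, ha, rfl⟩
      exact (Subgroup.map_subtype_le C ha : a ∈ PL)
    · intro l hl
      obtain ⟨x, hx⟩ := hfL ⟨l, hl⟩
      obtain ⟨⟨⟨a, ha⟩, ⟨b, hb⟩⟩, hab⟩ := (hC.existsUnique x).exists
      refine ⟨(b : G), Subgroup.mem_map_of_mem _ hb, ?_⟩
      have e : f (x : G) = l := congrArg Subtype.val hx
      rw [← e, ← hab]
      show f (b : G) = f ((a : G) * (b : G))
      rw [map_mul, MonoidHom.mem_ker.1 (Subgroup.mem_subgroupOf.1 ha), one_mul]
  -- the preimage of the cyclic group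
  let M := (Subgroup.zpowers s).comap f
  have hMp : IsPGroup p M := by
    have hM : IsPGroup p (Subgroup.zpowers s) :=
      IsPGroup.of_card (n := 1) (by rw [Nat.card_zpowers, hs, pow_one])
    exact hM.comap_of_ker_isPGroup f hK
  obtain ⟨j, hj⟩ := IsPGroup.iff_card.1 hMp
  have hAM : A ≤ Subgroup.normalizer (M : Set G) := Subgroup.le_normalizer_iff.2 fun a ha y hy => by
    rw [Subgroup.mem_comap] at hy ⊢
    obtain ⟨i, hi⟩ := hy
    have hfa : f a ∈ L := hAmap ▸ Subgroup.mem_map_of_mem f ha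
    rw [map_mul, map_mul, map_inv, ← hi, ((hcomm _ hfa).zpow_right i).eq, mul_inv_cancel_right]
    exact Subgroup.zpow_mem _ (Subgroup.mem_zpowers s) i
  haveI : Group.IsNilpotent M := hMp.isNilpotent
  have hmap := CfsgLib.Coprime.map_inf_centralizer f A M hAM
    (by rw [hA60, hj]; exact Nat.Coprime.pow_right j hpdvd.symm) (Or.inr inferInstance)
  have hs' : s ∈ M.map f ⊓ Subgroup.centralizer (A.map f : Set (alternatingGroup (Fin m))) := by
    refine ⟨?_, ?_⟩
    · rw [Subgroup.map_comap_eq_self_of_surjective hf]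
      exact Subgroup.mem_zpowers s
    · show s ∈ Subgroup.centralizer (A.map f : Set (alternatingGroup (Fin m)))
      rw [hAmap, Subgroup.mem_centralizer_iff]
      exact fun l hl => (hcomm l hl).eq
  rw [← hmap] at hs'
  obtain ⟨x, ⟨hxM, hxA⟩, hxs⟩ := hs'
  have hx : x ∉ Subgroup.center G := by
    intro hc'
    have h4 : 4 ≤ Nat.card (Fin m) := by rw [Nat.card_fin]; omega
    have : s ∈ Subgroup.center (alternatingGroup (Fin m)) := by
      rw [Subgroup.mem_center_iff]
      intro a
      obtain ⟨a, rfl⟩ := hf a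
      rw [← hxs, ← map_mul, ← map_mul, Subgroup.mem_center_iff.1 hc' a]
    rw [alternatingGroup.center_eq_bot h4, Subgroup.mem_bot] at this
    rw [this, orderOf_one] at hs
    exact hp.out.one_lt.ne hs
  have hxo : ∃ i, orderOf x = p ^ i := by
    obtain ⟨i, hi⟩ := IsPGroup.iff_orderOf.1 hMp ⟨x, hxM⟩
    exact ⟨i, by rw [← hi, Subgroup.orderOf_mk]⟩
  haveI := hc x hx hxo
  have hAle : A ≤ Subgroup.centralizer ({x} : Set G) := fun a ha => by
    rw [Subgroup.mem_centralizer_singleton_iff]
    exact Subgroup.mem_centralizer_iff.1 hxA a ha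
  haveI : Group.IsSolvable A :=
    Group.isSolvable_of_isSolvable_injective (f := Subgroup.inclusion hAle) (Subgroup.inclusion_injective hAle)
  apply hL
  rw [← hAmap]
  exact Group.isSolvable_of_surjective (f := f.subgroupMap A) (f.subgroupMap_surjective A)

set_option maxHeartbeats 1000000 in
/-- The chief-factor argument: a noncentral kernel gives a module with no fixed vector of
nonsolvable stabiliser. -/
theorem false_of_module [Finite G] {p m : ℕ} [hp : Fact p.Prime] (hc : PCentSolvable p G)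
    (f : G →* alternatingGroup (Fin m)) (hf : Function.Surjective f) (hK : IsPGroup p f.ker)
    (hZ : ¬ f.ker ≤ Subgroup.center G) (hmod : FixedVectorCond p m) : False := by
  obtain ⟨N, ⟨hN, hNn, hNZ⟩, hmin⟩ :=
    (Set.toFinite {N : Subgroup G | N ≤ f.ker ∧ N.Normal ∧ ¬ N ≤ Subgroup.center G}).exists_minimal
      ⟨f.ker, le_rfl, f.normal_ker, hZ⟩
  haveI := hNn
  have hsmall : ∀ M : Subgroup G, M.Normal → M ≤ N → M ≠ N → M ≤ Subgroup.center G := by
    intro M hM hle hne
    by_contra hnc
    exact hne (le_antisymm hle (hmin ⟨hle.trans hN, hM, hnc⟩ hle))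
  -- the kernel acts trivially modulo the centre
  have hNK : ⁅N, f.ker⁆ ≤ Subgroup.center G := by
    refine hsmall _ inferInstance (Subgroup.commutator_le_left _ _) ?_
    intro heq
    haveI := hK.isNilpotent
    obtain ⟨n, hn⟩ := (Subgroup.isNilpotent_iff_lowerCentralSeries f.ker).1 inferInstance
    have : ∀ i, N ≤ f.ker.lowerCentralSeries i := by
      intro i
      induction i with
      | zero => exact hN
      | succ i ih =>
        rw [Subgroup.lowerCentralSeries_succ, ← heq]
        exact Subgroup.commutator_mono ih le_rfl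
    have h0 := this n
    rw [hn] at h0
    exact hNZ (h0.trans bot_le)
  let Z₀ : Subgroup N := (Subgroup.center G).subgroupOf N
  haveI : Z₀.Normal := inferInstanceAs ((Subgroup.center G).subgroupOf N).Normal
  have hmemZ₀ : ∀ x : N, x ∈ Z₀ ↔ (x : G) ∈ Subgroup.center G := fun _ => Iff.rfl
  have hcomm : ∀ a b : N ⧸ Z₀, a * b = b * a := by
    rintro ⟨a⟩ ⟨b⟩
    refine QuotientGroup.eq.2 ?_
    rw [hmemZ₀]
    have h1 : ⁅(b : G)⁻¹, (a : G)⁻¹⁆ ∈ Subgroup.center G :=
      hNK (Subgroup.commutator_mem_commutator (N.inv_mem b.2) (hN (N.inv_mem a.2)))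
    simpa [commutatorElement_def, mul_assoc] using h1
  letI : CommGroup (N ⧸ Z₀) := { (inferInstance : Group (N ⧸ Z₀)) with mul_comm := hcomm }
  let q : N →* N ⧸ Z₀ := QuotientGroup.mk' Z₀
  have hq1 : ∀ x : N, q x = 1 ↔ (x : G) ∈ Subgroup.center G := fun x =>
    (QuotientGroup.eq_one_iff x).trans (hmemZ₀ x)
  have hpg : IsPGroup p (N ⧸ Z₀) := (hK.to_le hN).to_quotient Z₀
  have hnt : Nontrivial (N ⧸ Z₀) := by
    obtain ⟨x, hx, hxc⟩ := SetLike.not_le_iff_exists.1 hNZ
    exact ⟨q ⟨x, hx⟩, 1, fun h => hxc ((hq1 _).1 h)⟩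
  -- exponent `p`
  have hexp : ∀ w : N ⧸ Z₀, w ^ p = 1 := by
    let φ : N ⧸ Z₀ →* N ⧸ Z₀ := powMonoidHom p
    have hφ : φ.range ≠ ⊤ := by
      intro htop
      have hinj : Function.Injective φ :=
        Finite.injective_iff_surjective.2 (MonoidHom.range_eq_top.1 htop)
      obtain ⟨a, ha⟩ := IsPGroup.iff_card.1 hpg
      have ha0 : a ≠ 0 := fun h0 => (Finite.one_lt_card_iff_nontrivial.2 hnt).ne'
        (by rw [ha, h0, pow_zero])
      obtain ⟨w, hw⟩ := exists_prime_orderOf_dvd_card' p (ha.symm ▸ dvd_pow_self p ha0)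
      have : φ w = φ 1 := by
        rw [map_one]; show w ^ p = 1
        rw [← hw, pow_orderOf_eq_one]
      rw [hinj this, orderOf_one] at hw
      exact hp.out.one_lt.ne hw
    let M : Subgroup G := (φ.range.comap q).map N.subtype
    have hMn : M.Normal := by
      constructor
      rintro _ ⟨x, hx, rfl⟩ g
      obtain ⟨w, hw⟩ : ∃ w, w ^ p = q x := hx
      obtain ⟨y, rfl⟩ := QuotientGroup.mk'_surjective Z₀ w
      refine ⟨MulAut.conjNormal g x, ⟨q (MulAut.conjNormal g y), ?_⟩, by simp⟩
      show q (MulAut.conjNormal g y) ^ p = q (MulAut.conjNormal g x)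
      rw [← map_pow, ← map_pow]
      refine QuotientGroup.eq.2 ?_
      rw [hmemZ₀, ← map_inv, ← map_mul, MulAut.conjNormal_apply]
      have h1 : (((y ^ p)⁻¹ * x : N) : G) ∈ Subgroup.center G := by
        rw [← hmemZ₀]
        exact QuotientGroup.eq.1 ((map_pow q y p).trans hw)
      exact (Subgroup.center G).normal_of_characteristic.conj_mem _ h1 g |> fun h => h
    have hMle : M ≤ Subgroup.center G := by
      refine hsmall M hMn (Subgroup.map_subtype_le _) fun heq => hφ ?_
      rw [eq_top_iff]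
      intro w _
      obtain ⟨y, rfl⟩ := QuotientGroup.mk'_surjective Z₀ w
      have hyM : (y : G) ∈ M := by rw [heq]; exact y.2
      obtain ⟨x, hx, he⟩ := hyM
      obtain rfl := Subtype.ext he
      exact hx
    intro w
    obtain ⟨y, rfl⟩ := QuotientGroup.mk'_surjective Z₀ w
    rw [← map_pow]
    refine (hq1 _).2 (hMle ⟨y ^ p, ⟨q y, ?_⟩, rfl⟩)
    exact (map_pow q y p).symm
  -- the action
  let conjQ : G →* Monoid.End (N ⧸ Z₀) :=
    { toFun := fun g => QuotientGroup.lift Z₀ (q.comp (MulAut.conjNormal g).toMonoidHom) fun x hx => by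
        rw [MonoidHom.mem_ker]
        show q (MulAut.conjNormal g x) = 1
        rw [hq1, MulAut.conjNormal_apply]
        exact (Subgroup.center G).normal_of_characteristic.conj_mem _ hx g
      map_one' := by
        refine MonoidHom.ext fun w => ?_
        obtain ⟨y, rfl⟩ := QuotientGroup.mk'_surjective Z₀ w
        show q (MulAut.conjNormal 1 y) = q y
        simp
      map_mul' := fun g h => by
        refine MonoidHom.ext fun w => ?_
        obtain ⟨y, rfl⟩ := QuotientGroup.mk'_surjective Z₀ w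
        show q (MulAut.conjNormal (g * h) y) = q (MulAut.conjNormal g (MulAut.conjNormal h y))
        simp }
  have hker : f.ker ≤ conjQ.toHomUnits.ker := by
    intro g hg
    rw [MonoidHom.mem_ker]
    apply Units.ext
    show conjQ g = 1
    refine MonoidHom.ext fun w => ?_
    obtain ⟨y, rfl⟩ := QuotientGroup.mk'_surjective Z₀ w
    show q (MulAut.conjNormal g y) = q y
    refine QuotientGroup.eq.2 ?_
    rw [hmemZ₀, Subgroup.coe_mul, Subgroup.coe_inv, MulAut.conjNormal_apply]
    have h1 : ⁅(y : G), g⁆ ∈ Subgroup.center G :=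
      hNK (Subgroup.commutator_mem_commutator y.2 hg)
    have h2 := Subgroup.mem_center_iff.1 (Subgroup.inv_mem _ h1) g
    have h3 : (g * (y : G) * g⁻¹)⁻¹ * y = (y : G)⁻¹ * ⁅(y : G), g⁆ * y := by
      rw [commutatorElement_def]; group
    rw [h3]
    have h4 := Subgroup.mem_center_iff.1 h1 (y : G)⁻¹
    rw [h4, mul_assoc, inv_mul_cancel, mul_one]
    exact h1
  let ρ : alternatingGroup (Fin m) →* Monoid.End (N ⧸ Z₀) :=
    (Units.coeHom _).comp (f.liftOfSurjective hf ⟨conjQ.toHomUnits, hker⟩)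
  have hρ : ∀ g : G, ρ (f g) = conjQ g := fun g =>
    congrArg Units.val (MonoidHom.liftOfRightInverse_comp_apply f _ (Function.rightInverse_surjInv hf) ⟨conjQ.toHomUnits, hker⟩ g)
  -- transport to a small universe
  let E : N ⧸ Z₀ ≃ Shrink.{0} (N ⧸ Z₀) := equivShrink.{0} (N ⧸ Z₀)
  let W : Type := Additive (Shrink.{0} (N ⧸ Z₀))
  letI iS : CommGroup (Shrink.{0} (N ⧸ Z₀)) := E.symm.commGroup
  letI : AddCommGroup W := Additive.addCommGroup
  let e : Additive (N ⧸ Z₀) ≃+ W := MulEquiv.toAdditive E.symm.mulEquiv.symm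
  letI : DistribMulAction (alternatingGroup (Fin m)) W :=
    { smul := fun a w => e (Additive.ofMul (ρ a (Additive.toMul (e.symm w))))
      one_smul := fun w => by
        show e (Additive.ofMul (ρ 1 (Additive.toMul (e.symm w)))) = w
        simp
      mul_smul := fun a b w => by
        show e (Additive.ofMul (ρ (a * b) (Additive.toMul (e.symm w))))
          = e (Additive.ofMul (ρ a (Additive.toMul (e.symm (e (Additive.ofMul (ρ b (Additive.toMul (e.symm w)))))))))
        rw [e.symm_apply_apply, map_mul]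
        rfl
      smul_zero := fun a => by
        show e (Additive.ofMul (ρ a (Additive.toMul (e.symm 0)))) = 0
        simp
      smul_add := fun a v w => by
        show e (Additive.ofMul (ρ a (Additive.toMul (e.symm (v + w))))) = _
        rw [map_add, toMul_add, map_mul, ofMul_mul, map_add]
        rfl }
  haveI : Finite W := Finite.of_equiv (N ⧸ Z₀) (Additive.ofMul.trans e.toEquiv)
  haveI : Nontrivial W := (Additive.ofMul.trans e.toEquiv).symm.nontrivial
  have hpW : ∀ w : W, p • w = 0 := by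
    intro w
    apply e.symm.injective
    rw [map_nsmul, map_zero]
    exact hexp _
  obtain ⟨w, hw0, L, hL, hfix⟩ := hmod W hpW
  obtain ⟨y, hy⟩ := QuotientGroup.mk'_surjective Z₀ (Additive.toMul (e.symm w))
  have hyc : (y : G) ∉ Subgroup.center G := by
    intro h
    apply hw0
    apply e.symm.injective
    rw [map_zero]
    show Additive.toMul (e.symm w) = 1
    rw [← hy]; exact (hq1 y).2 h
  have hyo : ∃ k, orderOf (y : G) = p ^ k := by
    obtain ⟨k, hk⟩ := IsPGroup.iff_orderOf.1 (hK.to_le hN) y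
    exact ⟨k, by rw [← hk, Subgroup.orderOf_coe]⟩
  refine not_solvable_centralizer f (y : G) (L.comap f) (fun l hl => ?_) ?_ (hc _ hyc hyo)
  · have h1 := congrArg e.symm (hfix (f l) hl)
    have h2 : ρ (f l) (Additive.toMul (e.symm w)) = Additive.toMul (e.symm w) := by
      have := h1
      change e.symm (e (Additive.ofMul (ρ (f l) (Additive.toMul (e.symm w))))) = e.symm w at this
      rw [e.symm_apply_apply] at this
      exact this
    rw [hρ, ← hy] at h2
    have h3 : q (MulAut.conjNormal l y) = q y := h2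
    have h4 := QuotientGroup.eq.1 h3
    rw [hmemZ₀, Subgroup.coe_mul, Subgroup.coe_inv, MulAut.conjNormal_apply] at h4
    have h5 := (Subgroup.center G).normal_of_characteristic.conj_mem _ (Subgroup.inv_mem _ h4)
      (l * (y : G) * l⁻¹)
    simpa [mul_assoc] using h5
  · rwa [Subgroup.map_comap_eq_self_of_surjective hf]

/-- Main reduction. -/
theorem no_large_alt {p m : ℕ} [hp : Fact p.Prime] (hm : (5 ≤ p ∧ m = p + 5) ∨ (p = 2 ∧ m = 9))
    (hmod : p ≤ 5 → FixedVectorCond p m) :
    ∀ (n : ℕ) (G : Type*) [Group G] [Finite G], Nat.card G = n → PCentSolvable p G →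
      ∀ f : G →* alternatingGroup (Fin m), ¬ Function.Surjective f := by
  intro n
  induction n using Nat.strong_induction_on with
  | _ n IH =>
  intro G _ _ hn hc f hf
  subst hn
  have hker : f.ker ≤ frattini G := by
    rw [frattini, Order.radical]
    simp only [le_iInf_iff]
    intro M hM
    by_contra hle
    have htop : M ⊔ f.ker = ⊤ := hM.2 _ (lt_of_le_of_ne le_sup_left fun h => hle (h ▸ le_sup_right))
    refine IH (Nat.card M) ?_ M rfl (hc.of_injective M.subtype M.subtype_injective)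
      (f.comp M.subtype) ?_
    · exact lt_of_le_of_ne (Subgroup.card_le_card_group M) fun h =>
        hM.1 (Subgroup.eq_top_of_card_eq M h)
    · intro a
      obtain ⟨g, rfl⟩ := hf a
      obtain ⟨x, hx, k, hk, rfl⟩ := Subgroup.mem_sup_of_normal_right.1
        (htop ▸ Subgroup.mem_top g : g ∈ M ⊔ f.ker)
      exact ⟨⟨x, hx⟩, by simp [MonoidHom.mem_ker.1 hk]⟩
  have hK : IsPGroup p f.ker := by
    haveI : Group.IsNilpotent (frattini G) := frattini_nilpotent
    haveI : Group.IsNilpotent f.ker :=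
      Group.nilpotent_of_mulEquiv (Subgroup.subgroupOfEquivOfLe hker)
    by_contra hnp
    obtain ⟨r, hr, hrd, hrp⟩ : ∃ r, r.Prime ∧ r ∣ Nat.card f.ker ∧ r ≠ p := by
      by_contra hall
      push Not at hall
      exact hnp (IsPGroup.of_card
        (Nat.eq_prime_pow_of_unique_prime_dvd Nat.card_pos.ne' fun {d} hd hdd => hall d hd hdd))
    haveI := Fact.mk hr
    obtain ⟨P⟩ : Nonempty (Sylow r f.ker) := inferInstance
    haveI hPn : (P : Subgroup f.ker).Normal :=
      ((Group.isNilpotent_of_finite_tfae (G := f.ker)).out 0 3 rfl rfl).1 ‹Group.IsNilpotent f.ker› r ⟨hr⟩ P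
    haveI : (P : Subgroup f.ker).Characteristic := P.characteristic_of_normal hPn
    let R : Subgroup G := (P : Subgroup f.ker).map f.ker.subtype
    haveI : R.Normal := ConjAct.normal_of_characteristic_of_normal
    have hRK : R ≤ f.ker := Subgroup.map_subtype_le _
    have hRne : 1 < Nat.card R := by
      rw [Subgroup.card_subtype, P.card_eq_multiplicity]
      exact Nat.one_lt_pow (Nat.pos_iff_ne_zero.1
        ((hr.factorization_pos_of_dvd Nat.card_pos.ne' hrd))) hr.one_lt
    have hRcop : p.Coprime (Nat.card R) := by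
      rw [Subgroup.card_subtype, P.card_eq_multiplicity]
      exact Nat.Coprime.pow_right _ ((Nat.coprime_primes hp.out hr).2 hrp.symm)
    refine IH (Nat.card (G ⧸ R)) ?_ (G ⧸ R) rfl (hc.quotient R hRcop)
      (QuotientGroup.lift R f hRK) ?_
    · have := R.card_eq_card_quotient_mul_card_subgroup
      rw [this]
      exact lt_mul_of_one_lt_right Nat.card_pos hRne
    · intro a
      obtain ⟨g, rfl⟩ := hf a
      exact ⟨g, rfl⟩
  by_cases hZ : f.ker ≤ Subgroup.center G
  · exact false_of_central hm hc f hf hK hZ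
  by_cases hp5 : p ≤ 5
  · exact false_of_module hc f hf hK hZ (hmod hp5)
  · rcases hm with ⟨-, rfl⟩ | ⟨rfl, -⟩
    · have h6 : p ≠ 6 := fun h => by subst h; exact absurd hp.out (by norm_num)
      exact false_of_coprime (by omega) rfl hc f hf hK
    · omega

end CfsgLib.AltCentral
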