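import Cfsg.Agent.Lib.AltCentral.ModuleTools
import Cfsg.Agent.Lib.AltCentral.Reduce
import Cfsg.Agent.Lib.AltCentral.FiveA
import Cfsg.Agent.Lib.AltCentral.FiveB
import Cfsg.Agent.Lib.AltCentral.FiveUp
import Cfsg.Agent.Lib.AltCentral.FiveUm
import Cfsg.Agent.Lib.AltCentral.FiveV

/-!
Every nonzero module for the alternating group of degree ten in characteristic five has a nonzero
vector with nonsolvable stabiliser.
-/

set_option autoImplicit false

namespace CfsgLib.AltCentral.Five

/-- The 5-cycle on `0..4`. -/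
def z1 : List ℕ := [1, 2, 3, 4, 0, 5, 6, 7, 8, 9]
/-- The 5-cycle on `5..9`. -/
def z2 : List ℕ := [0, 1, 2, 3, 4, 6, 7, 8, 9, 5]
/-- An involution inverting `z2`. -/
def tt : List ℕ := [0, 1, 2, 3, 4, 5, 9, 8, 7, 6]
/-- Generators of the alternating group on `0..3`. -/
def T1 : List (List ℕ) := [[1, 2, 0, 3, 4, 5, 6, 7, 8, 9], [0, 2, 3, 1, 4, 5, 6, 7, 8, 9]]
/-- Generators of the four-group on `0..3`. -/
def V1 : List (List ℕ) := [[1, 0, 3, 2, 4, 5, 6, 7, 8, 9], [2, 3, 0, 1, 4, 5, 6, 7, 8, 9]]
/-- Generators of the alternating group on `6..9`. -/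
def T2 : List (List ℕ) := [[0, 1, 2, 3, 4, 5, 7, 8, 6, 9], [0, 1, 2, 3, 4, 5, 6, 8, 9, 7]]
/-- An even permutation moving `0..3` to `6..9`. -/
def sig : List ℕ := [6, 7, 8, 9, 4, 5, 0, 1, 2, 3]

theorem good_all : ∀ t ∈ [z1, z2, tt] ++ (T1 ++ (V1 ++ T2)), Good 10 t := by
  intro t ht
  have : t ∈ FiveA.data.gens ++ (FiveV.data.gens ++ FiveUm.data.gens) := by
    revert t
    decide
  rcases List.mem_append.1 this with h | h
  · exact FiveA.gens_good t h
  rcases List.mem_append.1 h with h | h
  · exact FiveV.gens_good t h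
  · exact FiveUm.gens_good t h

theorem good_sig : Good 10 sig :=
  good_of_wordOK (w := [(0, 6, 1), (6, 1, 7), (2, 8, 3), (8, 3, 9)]) (by decide +kernel)

/-- The powers of a table of order five. -/
def pows (t : List ℕ) : List (List ℕ) :=
  [List.range 10, powT 10 t 1, powT 10 t 2, powT 10 t 3, powT 10 t 4]

variable {W : Type} [AddCommGroup W] [DistribMulAction (alternatingGroup (Fin 10)) W]

theorem exists_fixed_five [Finite W] (hW : ∀ w : W, 5 • w = 0) {z : List ℕ} (hz : Good 10 z)
    (hB : pGroupB 10 5 1 [z] (pows z) = true) (l : List (List ℕ)) (hl : ∀ t ∈ l, Good 10 t)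
    (hcomm : (l.all fun t => compT t z == compT z t) = true)
    {w₀ : W} (hw₀ : TFix 10 l w₀) (hne : w₀ ≠ 0) :
    ∃ w : W, w ≠ 0 ∧ TFix 10 (z :: l) w := by
  haveI : Fact (Nat.Prime 5) := ⟨by norm_num⟩
  have hzg : ∀ t ∈ [z], Good 10 t := fun t ht => by rw [List.mem_singleton.1 ht]; exact hz
  obtain ⟨w, hw, hne', hfix⟩ := exists_fixed hW hzg hB (fixSet 10 W l) (fun t ht w hw => by
    rw [List.mem_singleton.1 ht]
    intro t' ht'
    simp only [List.all_eq_true, beq_iff_eq] at hcomm
    rw [← mul_smul, elemT_mul_eq (hl t' ht') hz hz (hl t' ht') (hcomm t' ht'), mul_smul, hw t' ht'])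
    hw₀ hne
  exact ⟨w, hne', fun t ht => (List.mem_cons.1 ht).elim
    (fun h => hfix t (by rw [h]; exact List.mem_singleton_self z)) (hw t)⟩

/-- The combination `w + c • t w` is fixed by `z2` when `w` is. -/
theorem z2_fix {w : W} (hw : elemT 10 z2 • w = w) : elemT 10 z2 • elemT 10 tt • w = elemT 10 tt • w := by
  have gz : Good 10 z2 := good_all _ (by simp)
  have gt : Good 10 tt := good_all _ (by simp)
  rw [← mul_smul, elemT_mul_eq gz gt gt (good_powT gz 4) (by decide +kernel), mul_smul, elemT_powT gz]
  congr 1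
  simp only [pow_succ, pow_zero, one_mul, mul_smul, hw]

theorem tt_tt (w : W) : elemT 10 tt • elemT 10 tt • w = w := by
  have gt : Good 10 tt := good_all _ (by simp)
  rw [← mul_smul, ← elemT_compT gt gt, show compT tt tt = List.range 10 by decide +kernel, elemT_range,
    one_smul]

theorem tt_comm {t : List ℕ} (ht : t ∈ T1 ++ V1) {w : W} (hw : elemT 10 t • w = w) :
    elemT 10 t • elemT 10 tt • w = elemT 10 tt • w := by
  have gt : Good 10 tt := good_all _ (by simp)
  have gg : Good 10 t := good_all _ (by
    rcases List.mem_append.1 ht with h | h <;> simp [h])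
  have he : compT t tt = compT tt t :=
    (by decide +kernel : ∀ t ∈ T1 ++ V1, compT t tt = compT tt t) t ht
  rw [← mul_smul, elemT_mul_eq gg gt gt gg he, mul_smul, hw]

theorem no_module [Finite W] [Nontrivial W] (hW : ∀ w : W, 5 • w = 0) (hNF : NoFix 10 W) : False := by
  haveI : Fact (Nat.Prime 5) := ⟨by norm_num⟩
  letI iA : DistribMulAction (alternatingGroup (Fin FiveA.data.n)) W := ‹_›
  letI iB : DistribMulAction (alternatingGroup (Fin FiveB.data.n)) W := ‹_›
  letI iP : DistribMulAction (alternatingGroup (Fin FiveUp.data.n)) W := ‹_›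
  letI iM : DistribMulAction (alternatingGroup (Fin FiveUm.data.n)) W := ‹_›
  letI iV : DistribMulAction (alternatingGroup (Fin FiveV.data.n)) W := ‹_›
  have gz1 : Good 10 z1 := good_all _ (by simp)
  have gz2 : Good 10 z2 := good_all _ (by simp)
  have hB1 : pGroupB 10 5 1 [z1] (pows z1) = true := by decide +kernel
  have hB2 : pGroupB 10 5 1 [z2] (pows z2) = true := by decide +kernel
  have gT1 : ∀ t ∈ T1, Good 10 t := fun t ht => good_all t (by simp [ht])
  have gV1 : ∀ t ∈ V1, Good 10 t := fun t ht => good_all t (by simp [ht])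
  have gT2 : ∀ t ∈ T2, Good 10 t := fun t ht => good_all t (by simp [ht])
  obtain ⟨w₀, hw₀⟩ := exists_ne (0 : W)
  -- a nonzero vector fixed by the four-group
  obtain ⟨v, hv, hv0⟩ : ∃ v : W, TFix 10 V1 v ∧ v ≠ 0 := by
    by_contra hnone
    push Not at hnone
    obtain ⟨u, hu0, hu⟩ := exists_fixed_five hW gz1 hB1 [] (by simp) (by decide) (w₀ := w₀)
      (by intro t ht; simp at ht) hw₀
    refine hu0 (Cert.sound FiveV.data FiveV.gens_good FiveV.check hW u ?_ ?_)
    · intro c hc
      have hc' : c = ((2 : ℕ), (1 : ℕ)) := by revert c; decide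
      subst hc'
      rw [one_smul]
      exact hu z1 (by simp)
    · intro R hR
      have hk : killShape FiveV.data R V1 = true := by revert R; decide +kernel
      exact ruleHolds_of_kill hk fun w hw => hnone w hw
  by_cases hcase : ∃ w : W, TFix 10 T1 w ∧ w ≠ 0
  · obtain ⟨w₁, hw₁, hw₁0⟩ := hcase
    obtain ⟨u, hu0, hu⟩ := exists_fixed_five hW gz2 hB2 T1 gT1 (by decide +kernel) hw₁ hw₁0
    refine hu0 (Cert.sound FiveUp.data FiveUp.gens_good FiveUp.check hW u ?_ ?_)
    · intro c hc
      have : c.2 = 1 ∧ FiveUp.data.gT c.1 ∈ z2 :: T1 := by revert c; decide +kernel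
      rw [this.1, one_smul]
      exact hu _ this.2
    · intro R hR
      have hk : triShape FiveUp.data R = true ∨ R.conds.map (fun c => (FiveUp.data.gT c.1, c.2))
          = (z2 :: T1).map (fun t => (t, 1)) ∧ R.out.map (fun c => (c.1, FiveUp.data.gT c.2))
          = [(1, List.range 10), (4, tt)] := by
        revert R; decide +kernel
      rcases hk with hk | ⟨hc, ho⟩
      · exact ruleHolds_of_tri FiveUp.gens_good hk hNF
      intro w hw
      have hfix : TFix 10 (z2 :: T1) w := by
        intro t ht
        have : (t, 1) ∈ R.conds.map (fun c => (FiveUp.data.gT c.1, c.2)) := by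
          rw [hc]; exact List.mem_map.2 ⟨t, ht, rfl⟩
        obtain ⟨c, hc', he⟩ := List.mem_map.1 this
        obtain ⟨rfl, h1⟩ := Prod.mk.inj he
        have := hw c hc'
        rw [h1, one_smul] at this
        exact this
      have hsum : (R.out.map fun x => x.1 • (FiveUp.data.gE x.2 • w))
          = (R.out.map fun c => (c.1, FiveUp.data.gT c.2)).map fun x => x.1 • (elemT 10 x.2 • w) := by
        rw [List.map_map]; rfl
      rw [hsum, ho]
      simp only [List.map_cons, List.map_nil, List.sum_cons, List.sum_nil, add_zero, elemT_range,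
        one_smul]
      set w' := w + 4 • elemT 10 tt • w with hw'
      refine Cert.sound FiveA.data FiveA.gens_good FiveA.check hW w' ?_ ?_
      · intro c hc
        have : (FiveA.data.gT c.1, c.2) ∈ (z2, 1) :: (tt, 4) :: T1.map (fun t => (t, 1)) := by
          revert c; decide +kernel
        show elemT 10 (FiveA.data.gT c.1) • w' = _
        rcases List.mem_cons.1 this with h | h
        · obtain ⟨h1, h2⟩ := Prod.mk.inj h
          rw [h1, h2, one_smul, hw', smul_add, smul_comm _ (4 : ℕ), z2_fix (hfix z2 (by simp)),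
            hfix z2 (by simp)]
        rcases List.mem_cons.1 h with h | h
        · obtain ⟨h1, h2⟩ := Prod.mk.inj h
          rw [h1, h2, hw', smul_add, smul_comm _ (4 : ℕ), tt_tt, smul_add, ← mul_smul]
          have h16 : (4 * 4 : ℕ) • (elemT 10 tt • w) = elemT 10 tt • w := by
            rw [show (4 * 4 : ℕ) = 5 * 3 + 1 from rfl, add_smul, mul_smul, hW, one_smul, zero_add]
          rw [h16, add_comm]
        · obtain ⟨t, ht, he⟩ := List.mem_map.1 h
          obtain ⟨h1, h2⟩ := Prod.mk.inj he
          rw [← h1, ← h2, one_smul, hw', smul_add, smul_comm _ (4 : ℕ),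
            tt_comm (List.mem_append_left _ ht) (hfix t (List.mem_cons_of_mem _ ht)),
            hfix t (List.mem_cons_of_mem _ ht)]
      · intro R' hR'
        have hk : triShape FiveA.data R' = true := by revert R'; decide +kernel
        exact ruleHolds_of_tri FiveA.gens_good hk hNF
  · push Not at hcase
    obtain ⟨u, hu0, hu⟩ := exists_fixed_five hW gz2 hB2 V1 gV1 (by decide +kernel) hv hv0
    refine hu0 (Cert.sound FiveUm.data FiveUm.gens_good FiveUm.check hW u ?_ ?_)
    · intro c hc
      have : c.2 = 1 ∧ FiveUm.data.gT c.1 ∈ z2 :: V1 := by revert c; decide +kernel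
      rw [this.1, one_smul]
      exact hu _ this.2
    · intro R hR
      have hk : triShape FiveUm.data R = true ∨ killShape FiveUm.data R T2 = true ∨
          R.conds.map (fun c => (FiveUm.data.gT c.1, c.2))
          = (z2 :: V1).map (fun t => (t, 1)) ∧ R.out.map (fun c => (c.1, FiveUm.data.gT c.2))
          = [(1, List.range 10), (1, tt)] := by
        revert R; decide +kernel
      rcases hk with hk | hk | ⟨hc, ho⟩
      · exact ruleHolds_of_tri FiveUm.gens_good hk hNF
      · refine ruleHolds_of_kill hk fun w hw => ?_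
        have h1 : TFix 10 T1 (elemT 10 sig • w) := TFix.smul good_sig gT2 gT1 (by decide +kernel) hw
        exact (smul_eq_zero_iff_eq _).1 (hcase _ h1)
      intro w hw
      have hfix : TFix 10 (z2 :: V1) w := by
        intro t ht
        have : (t, 1) ∈ R.conds.map (fun c => (FiveUm.data.gT c.1, c.2)) := by
          rw [hc]; exact List.mem_map.2 ⟨t, ht, rfl⟩
        obtain ⟨c, hc', he⟩ := List.mem_map.1 this
        obtain ⟨rfl, h1⟩ := Prod.mk.inj he
        have := hw c hc'
        rw [h1, one_smul] at this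
        exact this
      have hsum : (R.out.map fun x => x.1 • (FiveUm.data.gE x.2 • w))
          = (R.out.map fun c => (c.1, FiveUm.data.gT c.2)).map fun x => x.1 • (elemT 10 x.2 • w) := by
        rw [List.map_map]; rfl
      rw [hsum, ho]
      simp only [List.map_cons, List.map_nil, List.sum_cons, List.sum_nil, add_zero, elemT_range,
        one_smul]
      set w' := w + elemT 10 tt • w with hw'
      refine Cert.sound FiveB.data FiveB.gens_good FiveB.check hW w' ?_ ?_
      · intro c hc
        have : c.2 = 1 ∧ FiveB.data.gT c.1 ∈ z2 :: tt :: V1 := by revert c; decide +kernel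
        show elemT 10 (FiveB.data.gT c.1) • w' = _
        rw [this.1, one_smul]
        rcases List.mem_cons.1 this.2 with h | h
        · rw [h, hw', smul_add, z2_fix (hfix z2 (by simp)), hfix z2 (by simp)]
        rcases List.mem_cons.1 h with h | h
        · rw [h, hw', smul_add, tt_tt, add_comm]
        · rw [hw', smul_add, tt_comm (List.mem_append_right _ h) (hfix _ (List.mem_cons_of_mem _ h)),
            hfix _ (List.mem_cons_of_mem _ h)]
      · intro R' hR'
        have hk : triShape FiveB.data R' = true ∨ killShape FiveB.data R' T1 = true := by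
          revert R'; decide +kernel
        rcases hk with hk | hk
        · exact ruleHolds_of_tri FiveB.gens_good hk hNF
        · exact ruleHolds_of_kill hk hcase

theorem fixedVectorCond : FixedVectorCond 5 10 := by
  intro W _ _ _ _ hW
  by_contra h
  push Not at h
  refine no_module hW fun w L hL hfix => ?_
  by_contra hw
  obtain ⟨l, hl, hne⟩ := h w hw L hL
  exact hne (hfix l hl)

end CfsgLib.AltCentral.Five
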