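import Mathlib
import Cfsg.Agent.Lib.AltCentral.CertGood

/-!
Tools for using the certificates: a nonsolvability criterion, fixed points of `p`-groups given by
tables, and standard shapes of rules.
-/

set_option autoImplicit false

namespace CfsgLib.AltCentral

open Subgroup
open scoped commutatorElement

/-- A nontrivial group generated by elements of orders two and three with product of order prime to
six is nonsolvable. -/
theorem not_isSolvable_of_triple {G : Type*} [Group G] {x y : G} {q : ℕ} (hq : q.Coprime 6)
    (hx : x ^ 2 = 1) (hy : y ^ 3 = 1) (hxy : (x * y) ^ q = 1) (hne : x ≠ 1) :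
    ¬ Group.IsSolvable G := by
  intro hs
  have hab : ∀ {A : Type _} [CommGroup A] (a b : A), a ^ 2 = 1 → b ^ 3 = 1 → (a * b) ^ q = 1 →
      a = 1 ∧ b = 1 := by
    intro A _ a b ha hb hab
    have h6 : (a * b) ^ 6 = 1 := by
      rw [mul_pow, show a ^ 6 = (a ^ 2) ^ 3 by rw [← pow_mul], show b ^ 6 = (b ^ 3) ^ 2 by rw [← pow_mul],
        ha, hb, one_pow, one_pow, one_mul]
    have h1 : a * b = 1 := by
      have := pow_gcd_eq_one.2 ⟨hab, h6⟩
      rwa [hq, pow_one] at this
    have hb' : b = a⁻¹ := eq_inv_of_mul_eq_one_right h1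
    have ha3 : a ^ 3 = 1 := by rw [← inv_eq_one, ← inv_pow, ← hb', hb]
    have ha1 : a = 1 := by
      have := pow_succ a 2
      rw [ha3, ha, one_mul] at this
      exact this.symm
    exact ⟨ha1, by rw [hb', ha1, inv_one]⟩
  have hmem : ∀ n, x ∈ derivedSeries G n ∧ y ∈ derivedSeries G n := by
    intro n
    induction n with
    | zero => simp
    | succ n ih =>
      let D := derivedSeries G n
      let x' : D := ⟨x, ih.1⟩
      let y' : D := ⟨y, ih.2⟩
      obtain ⟨h1, h2⟩ := hab (Abelianization.of x') (Abelianization.of y')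
        (by rw [← map_pow, show x' ^ 2 = 1 from Subtype.ext hx, map_one])
        (by rw [← map_pow, show y' ^ 3 = 1 from Subtype.ext hy, map_one])
        (by rw [← map_mul, ← map_pow, show (x' * y') ^ q = 1 from Subtype.ext hxy, map_one])
      have key : ∀ z : D, Abelianization.of z = 1 → (z : G) ∈ derivedSeries G (n + 1) := by
        intro z hz
        rw [← MonoidHom.mem_ker, Abelianization.ker_of] at hz
        rw [derivedSeries_succ, ← Subgroup.map_subtype_commutator]
        exact Subgroup.mem_map_of_mem _ hz
      exact ⟨key x' h1, key y' h2⟩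
  obtain ⟨n, hn⟩ := hs
  have := (hmem n).1
  rw [hn, Subgroup.mem_bot] at this
  exact hne this

/-- Powers of a table. -/
def powT (n : ℕ) (t : List ℕ) : ℕ → List ℕ
  | 0 => List.range n
  | k + 1 => compT t (powT n t k)

theorem good_powT {n : ℕ} {t : List ℕ} (h : Good n t) : ∀ k, Good n (powT n t k)
  | 0 => good_range n
  | k + 1 => good_compT h (good_powT h k)

theorem elemT_powT {n : ℕ} {t : List ℕ} (h : Good n t) :
    ∀ k, elemT n (powT n t k) = elemT n t ^ k
  | 0 => by rw [powT, elemT_range, pow_zero]
  | k + 1 => by rw [powT, elemT_compT h (good_powT h k), elemT_powT h k, pow_succ']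

/-- An equation between products of tables gives one between elements. -/
theorem elemT_mul_eq {n : ℕ} {a b c d : List ℕ} (ha : Good n a) (hb : Good n b) (hc : Good n c)
    (hd : Good n d) (h : compT a b = compT c d) : elemT n a * elemT n b = elemT n c * elemT n d := by
  rw [← elemT_compT ha hb, ← elemT_compT hc hd, h]

/-- Two tables generate an image of a hyperbolic triangle group. -/
def triB (n : ℕ) (l : List (List ℕ)) : Bool :=
  match l with
  | [a, b] => (a != List.range n) && ((powT n a 2 == List.range n) && ((powT n b 3 == List.range n) &&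
      ((powT n (compT a b) 5 == List.range n) || (powT n (compT a b) 7 == List.range n))))
  | _ => false

section

variable {W : Type*} [AddCommGroup W] {n : ℕ} [DistribMulAction (alternatingGroup (Fin n)) W]

/-- The vector is fixed by the elements with the given tables. -/
def TFix (n : ℕ) [DistribMulAction (alternatingGroup (Fin n)) W] (l : List (List ℕ)) (w : W) : Prop :=
  ∀ t ∈ l, elemT n t • w = w

/-- No nonzero vector is fixed by a nonsolvable subgroup. -/
def NoFix (n : ℕ) (W : Type*) [AddCommGroup W] [DistribMulAction (alternatingGroup (Fin n)) W] : Prop :=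
  ∀ (w : W) (L : Subgroup (alternatingGroup (Fin n))), ¬ Group.IsSolvable L →
    (∀ l ∈ L, l • w = w) → w = 0

theorem NoFix.eq_zero_of_tri (hNF : NoFix n W) {l : List (List ℕ)} (hl : ∀ t ∈ l, Good n t)
    (htri : triB n l = true) {w : W} (hw : TFix n l w) : w = 0 := by
  match l, hl, htri, hw with
  | [], _, h, _ => simp [triB] at h
  | [_], _, h, _ => simp [triB] at h
  | _ :: _ :: _ :: _, _, h, _ => simp [triB] at h
  | [a, b], hl, h, hw =>
    simp only [triB, Bool.and_eq_true, Bool.or_eq_true, bne_iff_ne, beq_iff_eq] at h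
    obtain ⟨ha1, ha2, hb3, hq⟩ := h
    have ga : Good n a := hl a (by simp)
    have gb : Good n b := hl b (by simp)
    refine hNF w (MulAction.stabilizer _ w) ?_ fun g hg => hg
    let x : MulAction.stabilizer (alternatingGroup (Fin n)) w := ⟨elemT n a, hw a (by simp)⟩
    let y : MulAction.stabilizer (alternatingGroup (Fin n)) w := ⟨elemT n b, hw b (by simp)⟩
    have hx : x ^ 2 = 1 := Subtype.ext (by
      show elemT n a ^ 2 = 1
      rw [← elemT_powT ga, ha2, elemT_range])
    have hy : y ^ 3 = 1 := Subtype.ext (by
      show elemT n b ^ 3 = 1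
      rw [← elemT_powT gb, hb3, elemT_range])
    have hne : x ≠ 1 := by
      intro h1
      apply ha1
      rw [← tab_elemT ga, show elemT n a = 1 from congrArg Subtype.val h1, OneMemClass.coe_one, tab_one]
    rcases hq with h5 | h7
    · refine not_isSolvable_of_triple (q := 5) (by norm_num) hx hy (Subtype.ext ?_) hne
      show (elemT n a * elemT n b) ^ 5 = 1
      rw [← elemT_compT ga gb, ← elemT_powT (good_compT ga gb), h5, elemT_range]
    · refine not_isSolvable_of_triple (q := 7) (by norm_num) hx hy (Subtype.ext ?_) hne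
      show (elemT n a * elemT n b) ^ 7 = 1
      rw [← elemT_compT ga gb, ← elemT_powT (good_compT ga gb), h7, elemT_range]

/-- The listed tables form a finite set closed under the generators and consisting of elements of
order dividing `p ^ e`. -/
def pGroupB (n p e : ℕ) (l H : List (List ℕ)) : Bool :=
  H.contains (List.range n) && ((H.all fun h => powT n h (p ^ e) == List.range n) &&
    (l.all fun g => H.all fun h => H.contains (compT g h)))

theorem isPGroup_closure {p e : ℕ} {l H : List (List ℕ)} (hl : ∀ t ∈ l, Good n t)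
    (h : pGroupB n p e l H = true) :
    IsPGroup p (Subgroup.closure {g : alternatingGroup (Fin n) | ∃ t ∈ l, elemT n t = g}) := by
  simp only [pGroupB, Bool.and_eq_true, List.all_eq_true, beq_iff_eq, List.contains_iff_mem] at h
  obtain ⟨h1, hpow, hcl⟩ := h
  rintro ⟨g, hg⟩
  have hmem : tab (g : Equiv.Perm (Fin n)) ∈ H := by
    rw [← Subgroup.mem_toSubmonoid, Subgroup.closure_toSubmonoid_of_finite] at hg
    induction hg using Submonoid.closure_induction_left with
    | one => rw [OneMemClass.coe_one, tab_one]; exact h1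
    | mul_left x hx y _ ih =>
      obtain ⟨t, ht, rfl⟩ := hx
      rw [Subgroup.coe_mul, tab_mul, tab_elemT (hl t ht)]
      exact hcl t ht _ ih
  refine ⟨e, Subtype.ext ?_⟩
  have hp := hpow _ hmem
  have := elemT_powT (⟨g, rfl⟩ : Good n (tab (g : Equiv.Perm (Fin n)))) (p ^ e)
  rw [hp, elemT_range, elemT_tab] at this
  exact this.symm

theorem exists_fixed [Finite W] {p e : ℕ} [hp : Fact p.Prime] (hW : ∀ w : W, p • w = 0)
    {l H : List (List ℕ)} (hl : ∀ t ∈ l, Good n t) (h : pGroupB n p e l H = true)
    (S : AddSubgroup W) (hS : ∀ t ∈ l, ∀ w ∈ S, elemT n t • w ∈ S) {w₀ : W} (hw₀ : w₀ ∈ S)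
    (hne : w₀ ≠ 0) : ∃ w ∈ S, w ≠ 0 ∧ TFix n l w := by
  let P := Subgroup.closure {g : alternatingGroup (Fin n) | ∃ t ∈ l, elemT n t = g}
  have hP : IsPGroup p P := isPGroup_closure hl h
  have hinv : ∀ g ∈ P, ∀ w ∈ S, g • w ∈ S := by
    intro g hg
    rw [← Subgroup.mem_toSubmonoid, Subgroup.closure_toSubmonoid_of_finite] at hg
    induction hg using Submonoid.closure_induction_left with
    | one => intro w hw; rwa [one_smul]
    | mul_left x hx y _ ih =>
      obtain ⟨t, ht, rfl⟩ := hx
      intro w hw
      rw [mul_smul]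
      exact hS t ht _ (ih w hw)
  letI : MulAction P S :=
    { smul := fun g w => ⟨(g : alternatingGroup (Fin n)) • (w : W), hinv g g.2 w w.2⟩
      one_smul := fun w => Subtype.ext (one_smul _ (w : W))
      mul_smul := fun g g' w => Subtype.ext (mul_smul (g : alternatingGroup (Fin n)) (g' : alternatingGroup (Fin n)) (w : W)) }
  have hdvd : p ∣ Nat.card S := by
    have ho : addOrderOf (⟨w₀, hw₀⟩ : S) = p :=
      addOrderOf_eq_prime (Subtype.ext (hW w₀)) fun h => hne (congrArg Subtype.val h)
    rw [← ho]
    exact addOrderOf_dvd_natCard _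
  obtain ⟨b, hb, hb0⟩ := hP.exists_fixed_point_of_prime_dvd_card_of_fixed_point S hdvd
    (a := 0) (fun g => Subtype.ext (smul_zero _))
  refine ⟨b, b.2, fun h0 => hb0 (Subtype.ext h0.symm), fun t ht => ?_⟩
  exact congrArg Subtype.val (hb ⟨elemT n t, Subgroup.subset_closure ⟨t, ht, rfl⟩⟩)

/-- The vectors fixed by the listed elements. -/
def fixSet (n : ℕ) (W : Type*) [AddCommGroup W] [DistribMulAction (alternatingGroup (Fin n)) W]
    (l : List (List ℕ)) : AddSubgroup W where
  carrier := {w | TFix n l w}
  zero_mem' := fun _ _ => smul_zero _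
  add_mem' := fun ha hb t ht => by rw [smul_add, ha t ht, hb t ht]
  neg_mem' := fun ha t ht => by rw [smul_neg, ha t ht]

/-- An element permuting two lists by conjugation maps fixed vectors to fixed vectors. -/
theorem TFix.smul {s : List ℕ} {l l' : List (List ℕ)} (hs : Good n s) (hl : ∀ t ∈ l, Good n t)
    (hl' : ∀ t ∈ l', Good n t)
    (h : (l'.all fun t' => l.any fun t => compT t' s == compT s t) = true) {w : W} (hw : TFix n l w) :
    TFix n l' (elemT n s • w) := by
  intro t' ht'
  simp only [List.all_eq_true, List.any_eq_true, beq_iff_eq] at h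
  obtain ⟨t, ht, he⟩ := h t' ht'
  rw [← mul_smul, elemT_mul_eq (hl' t' ht') hs hs (hl t ht) he, mul_smul, hw t ht]

end

/-! ### Standard rules -/

/-- The rule says that vectors fixed by the tables `l` vanish. -/
def killShape (C : Cert) (R : Rule) (l : List (List ℕ)) : Bool :=
  (R.conds.all fun c => c.2 == 1) && ((R.conds.map fun c => C.gT c.1) == l &&
    match R.out with
    | [(1, e)] => C.gT e == List.range C.n
    | _ => false)

theorem ruleHolds_of_kill {W : Type*} [AddCommGroup W] {C : Cert}
    [DistribMulAction (alternatingGroup (Fin C.n)) W] {R : Rule} {l : List (List ℕ)}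
    (h : killShape C R l = true) (hl : ∀ w : W, TFix C.n l w → w = 0) : C.RuleHolds W R := by
  simp only [killShape, Bool.and_eq_true, List.all_eq_true, beq_iff_eq] at h
  obtain ⟨hc, hl', ho⟩ := h
  intro w hw
  have hw0 : w = 0 := by
    apply hl w
    intro t ht
    rw [← hl'] at ht
    obtain ⟨c, hc', rfl⟩ := List.mem_map.1 ht
    have := hw c hc'
    rw [hc c hc', one_smul] at this
    exact this
  subst hw0
  simp

/-- The rule kills vectors fixed by two elements generating a nonsolvable group. -/
def triShape (C : Cert) (R : Rule) : Bool :=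
  killShape C R (R.conds.map fun c => C.gT c.1) && triB C.n (R.conds.map fun c => C.gT c.1)

theorem ruleHolds_of_tri {W : Type*} [AddCommGroup W] {C : Cert}
    [DistribMulAction (alternatingGroup (Fin C.n)) W] {R : Rule}
    (hgood : ∀ t ∈ C.gens, Good C.n t) (h : triShape C R = true) (hNF : NoFix C.n W) :
    C.RuleHolds W R := by
  simp only [triShape, Bool.and_eq_true] at h
  refine ruleHolds_of_kill h.1 fun w hw => hNF.eq_zero_of_tri ?_ h.2 hw
  intro t ht
  obtain ⟨c, -, rfl⟩ := List.mem_map.1 ht
  unfold Cert.gT
  by_cases hg : c.1 < C.gens.length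
  · rw [List.getD_eq_getElem?_getD, List.getElem?_eq_getElem hg, Option.getD_some]
    exact hgood _ (List.getElem_mem hg)
  · rw [List.getD_eq_getElem?_getD, List.getElem?_eq_none (by omega), Option.getD_none]
    exact good_range _

end CfsgLib.AltCentral
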