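import Cfsg.Agent.Lib.AltCentral.CertGood

/-! Certificate data: stage TwoS, degree 9, characteristic 2. -/

set_option autoImplicit false
set_option maxRecDepth 100000

namespace CfsgLib.AltCentral.TwoS

def gens : List (List ℕ) :=
  [[1, 2, 0, 3, 4, 5, 6, 7, 8], [0, 2, 3, 4, 5, 6, 7, 1, 8], [2, 6, 0, 3, 4, 5, 1, 7, 8], [7, 3, 4, 6, 0, 1, 5, 2, 8], [3, 6, 5, 0, 7, 2, 1, 4, 8], [3, 1, 4, 0, 2, 5, 6, 7, 8], [2, 0, 1, 3, 4, 5, 6, 7, 8], [0, 1, 2, 3, 4, 5, 6, 7, 8], [5, 4, 2, 3, 1, 0, 6, 7, 8], [4, 0, 3, 5, 1, 2, 6, 7, 8], [3, 4, 2, 0, 1, 5, 6, 7, 8], [5, 3, 0, 4, 1, 2, 6, 7, 8], [6, 2, 1, 3, 4, 5, 0, 7, 8], [2, 3, 0, 4, 6, 7, 5, 1, 8], [6, 0, 7, 1, 3, 4, 5, 2, 8], [7, 3, 1, 4, 5, 6, 2, 0, 8]]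

def hel : List (List (ℕ × ℕ × List ℕ × ℕ)) :=
  [[(0, 0, [0, 1, 2, 3, 4, 5, 6, 7, 8], 1), (0, 0, [2, 6, 0, 3, 4, 5, 1, 7, 8], 1), (1, 0, [7, 3, 4, 6, 0, 1, 5, 2, 8], 1), (2, 0, [3, 6, 5, 0, 7, 2, 1, 4, 8], 1), (1, 1, [4, 5, 7, 6, 0, 1, 3, 2, 8], 1), (2, 1, [5, 1, 3, 0, 7, 2, 6, 4, 8], 1), (0, 2, [7, 3, 4, 1, 2, 6, 5, 0, 8], 1), (1, 2, [2, 6, 0, 5, 7, 3, 1, 4, 8], 1), (2, 2, [4, 0, 7, 1, 3, 6, 2, 5, 8], 1), (0, 3, [3, 1, 5, 2, 7, 0, 6, 4, 8], 1), (1, 3, [6, 5, 1, 7, 2, 4, 3, 0, 8], 1), (0, 4, [4, 5, 7, 1, 2, 6, 3, 0, 8], 1), (1, 4, [0, 1, 2, 5, 7, 3, 6, 4, 8], 1), (2, 4, [7, 2, 4, 1, 3, 6, 0, 5, 8], 1), (0, 5, [5, 6, 3, 2, 7, 0, 1, 4, 8], 1), (1, 5, [1, 3, 6, 7, 2, 4, 5, 0, 8], 1), (2, 6, [4, 0, 7, 6, 5, 1, 2, 3, 8], 1), (2, 7, [5, 1, 3, 2, 4, 0, 6, 7, 8], 1), (0, 8, [4, 2, 7, 6, 3, 1, 0, 5, 8], 1), (1, 8, [0, 7, 2, 3, 6, 5, 4, 1, 8], 1), (1, 9, [6, 3, 1, 4, 2, 7, 5, 0, 8], 1), (2, 9, [0, 6, 2, 5, 4, 3, 1, 7,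 8], 1), (0, 10, [1, 5, 6, 7, 0, 4, 3, 2, 8], 1), (2, 10, [1, 2, 6, 4, 5, 7, 0, 3, 8], 1), (2, 11, [7, 2, 4, 6, 5, 1, 0, 3, 8], 1), (2, 12, [3, 6, 5, 2, 4, 0, 1, 7, 8], 1), (0, 13, [7, 0, 4, 6, 3, 1, 2, 5, 8], 1), (1, 13, [2, 4, 0, 3, 6, 5, 7, 1, 8], 1), (1, 14, [1, 5, 6, 4, 2, 7, 3, 0, 8], 1), (2, 14, [2, 1, 0, 5, 4, 3, 6, 7, 8], 1), (0, 15, [6, 3, 1, 7, 0, 4, 5, 2, 8], 1), (2, 15, [6, 0, 1, 4, 5, 7, 2, 3, 8], 1)], [(0, 16, [4, 2, 7, 1, 5, 6, 0, 3, 8], 1), (1, 16, [0, 7, 2, 5, 1, 3, 4, 6, 8], 1), (0, 17, [5, 6, 3, 0, 4, 2, 1, 7, 8], 1), (1, 17, [1, 3, 6, 4, 0, 7, 5, 2, 8], 1), (1, 18, [0, 4, 2, 5, 6, 3, 7, 1, 8], 1), (2, 18, [7, 5, 4, 1, 0, 6, 3, 2, 8], 1), (0, 19, [2, 7, 0, 3, 1, 5, 4, 6, 8], 1), (2, 19, [3, 4, 5, 0, 1, 2, 7, 6, 8], 1), (2, 20, [1, 0, 6, 7, 5, 4, 2, 3, 8], 1), (2, 22, [6, 2, 1, 4, 3, 7, 0, 5, 8], 1), (0, 24, [7, 0, 4, 1, 5, 6, 2, 3, 8], 1), (1, 24, [2, 4, 0, 5, 1, 3, 7, 6, 8], 1), (0, 25, [3,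 1, 5, 0, 4, 2, 6, 7, 8], 1), (1, 25, [6, 5, 1, 4, 0, 7, 3, 2, 8], 1), (1, 26, [2, 7, 0, 5, 6, 3, 4, 1, 8], 1), (2, 26, [4, 3, 7, 1, 0, 6, 5, 2, 8], 1), (0, 27, [0, 4, 2, 3, 1, 5, 7, 6, 8], 1), (2, 27, [5, 7, 3, 0, 1, 2, 4, 6, 8], 1), (2, 28, [6, 2, 1, 7, 5, 4, 0, 3, 8], 1), (2, 30, [1, 0, 6, 4, 3, 7, 2, 5, 8], 1), (2, 32, [7, 5, 4, 6, 2, 1, 3, 0, 8], 1), (2, 33, [3, 4, 5, 2, 6, 0, 7, 1, 8], 1), (2, 34, [2, 1, 0, 3, 7, 5, 6, 4, 8], 1), (2, 35, [6, 0, 1, 7, 3, 4, 2, 5, 8], 1), (2, 36, [3, 7, 5, 2, 1, 0, 4, 6, 8], 1), (2, 38, [5, 4, 3, 0, 6, 2, 7, 1, 8], 1), (2, 42, [4, 3, 7, 6, 2, 1, 5, 0, 8], 1), (2, 43, [5, 7, 3, 2, 6, 0, 4, 1, 8], 1), (2, 44, [0, 6, 2, 3, 7, 5, 1, 4, 8], 1), (2, 45, [1, 2, 6, 7, 3, 4, 0, 5, 8], 1), (2, 46, [5, 4, 3, 2, 1, 0, 7, 6, 8], 1), (2, 48, [3, 7, 5, 0, 6, 2, 4, 1, 8], 1)]]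

def reps : List (List (ℕ × ℕ × List ℕ)) :=
  [[(0, 0, [0, 1, 2, 3, 4, 5, 6, 7, 8]), (0, 0, [1, 2, 0, 3, 4, 5, 6, 7, 8]), (1, 0, [0, 2, 3, 4, 5, 6, 7, 1, 8]), (0, 1, [2, 0, 1, 3, 4, 5, 6, 7, 8]), (1, 1, [2, 3, 0, 4, 5, 6, 7, 1, 8]), (0, 2, [1, 0, 3, 4, 5, 6, 7, 2, 8]), (1, 2, [0, 3, 4, 5, 6, 7, 1, 2, 8]), (1, 3, [3, 0, 2, 4, 5, 6, 7, 1, 8]), (0, 4, [0, 3, 1, 4, 5, 6, 7, 2, 8]), (1, 4, [3, 4, 0, 5, 6, 7, 1, 2, 8]), (0, 5, [2, 1, 3, 4, 5, 6, 7, 0, 8]), (1, 5, [2, 0, 4, 5, 6, 7, 1, 3, 8]), (0, 6, [1, 3, 4, 5, 6, 7, 2, 0, 8]), (1, 6, [0, 4, 5, 6, 7, 1, 2, 3, 8]), (0, 7, [3, 1, 0, 4, 5, 6, 7, 2, 8]), (1, 7, [4, 0, 3, 5, 6, 7, 1, 2, 8]), (0, 8, [1, 3, 2, 4, 5, 6, 7, 0, 8]), (1, 8, [0, 4, 2, 5, 6, 7, 1, 3, 8]), (0, 9, [3, 4, 1, 5, 6, 7, 2, 0, 8]), (1, 9, [4, 5, 0, 6, 7, 1, 2, 3, 8]), (1, 10, [3, 2, 4, 5, 6, 7, 1, 0, 8]), (0, 11, [0, 1, 4, 5, 6, 7, 2, 3, 8]), (1, 11, [3, 0, 5, 6, 7, 1, 2, 4, 8]), (0, 12, [2, 3, 4, 5,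 6, 7, 0, 1, 8]), (1, 12, [2, 4, 5, 6, 7, 1, 3, 0, 8]), (0, 13, [1, 4, 5, 6, 7, 2, 0, 3, 8]), (1, 13, [0, 5, 6, 7, 1, 2, 3, 4, 8]), (0, 14, [3, 2, 1, 4, 5, 6, 7, 0, 8]), (1, 15, [5, 0, 4, 6, 7, 1, 2, 3, 8]), (1, 16, [2, 4, 3, 5, 6, 7, 1, 0, 8]), (0, 17, [1, 4, 0, 5, 6, 7, 2, 3, 8]), (1, 17, [0, 5, 3, 6, 7, 1, 2, 4, 8])], [(0, 18, [3, 4, 2, 5, 6, 7, 0, 1, 8]), (1, 18, [4, 5, 2, 6, 7, 1, 3, 0, 8]), (0, 19, [4, 5, 1, 6, 7, 2, 0, 3, 8]), (1, 19, [5, 6, 0, 7, 1, 2, 3, 4, 8]), (0, 20, [3, 0, 4, 5, 6, 7, 2, 1, 8]), (1, 20, [4, 3, 5, 6, 7, 1, 2, 0, 8]), (0, 21, [1, 2, 4, 5, 6, 7, 0, 3, 8]), (1, 21, [0, 2, 5, 6, 7, 1, 3, 4, 8]), (0, 22, [3, 1, 5, 6, 7, 2, 0, 4, 8]), (1, 22, [4, 0, 6, 7, 1, 2, 3, 5, 8]), (1, 23, [3, 4, 5, 6, 7, 1, 0, 2, 8]), (0, 24, [0, 4, 5, 6, 7, 2, 3, 1, 8]), (1, 24, [3, 5, 6, 7, 1, 2, 4, 0, 8]), (0, 25, [2, 4, 5, 6, 7, 0, 1, 3, 8]), (1, 25, [2, 5, 6, 7, 1, 3, 0, 4, 8]), (0, 26, [1, 5, 6, 7, 2, 0, 3,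 4, 8]), (1, 26, [0, 6, 7, 1, 2, 3, 4, 5, 8]), (1, 27, [4, 3, 2, 5, 6, 7, 1, 0, 8]), (0, 28, [5, 1, 4, 6, 7, 2, 0, 3, 8]), (1, 28, [6, 0, 5, 7, 1, 2, 3, 4, 8]), (0, 29, [0, 4, 3, 5, 6, 7, 2, 1, 8]), (1, 29, [3, 5, 4, 6, 7, 1, 2, 0, 8]), (0, 30, [2, 4, 1, 5, 6, 7, 0, 3, 8]), (1, 30, [2, 5, 0, 6, 7, 1, 3, 4, 8]), (0, 31, [1, 5, 3, 6, 7, 2, 0, 4, 8]), (1, 31, [0, 6, 4, 7, 1, 2, 3, 5, 8]), (1, 32, [4, 5, 3, 6, 7, 1, 0, 2, 8]), (0, 33, [4, 5, 0, 6, 7, 2, 3, 1, 8]), (1, 33, [5, 6, 3, 7, 1, 2, 4, 0, 8]), (0, 34, [4, 5, 2, 6, 7, 0, 1, 3, 8]), (1, 34, [5, 6, 2, 7, 1, 3, 0, 4, 8]), (0, 35, [5, 6, 1, 7, 2, 0, 3, 4, 8])], [(1, 35, [6, 7, 0, 1, 2, 3, 4, 5, 8]), (1, 36, [4, 0, 5, 6, 7, 1, 3, 2, 8]), (0, 37, [4, 3, 5, 6, 7, 2, 0, 1, 8]), (1, 37, [5, 4, 6, 7, 1, 2, 3, 0, 8]), (1, 38, [2, 3, 5, 6, 7, 1, 0, 4, 8]), (0, 39, [1, 0, 5, 6, 7, 2, 3, 4, 8]), (1, 39, [0, 3, 6, 7, 1, 2, 4, 5, 8]), (0, 40, [3, 2, 5, 6, 7, 0, 1, 4, 8]),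 (1, 40, [4, 2, 6, 7, 1, 3, 0, 5, 8]), (0, 41, [4, 1, 6, 7, 2, 0, 3, 5, 8]), (1, 41, [5, 0, 7, 1, 2, 3, 4, 6, 8]), (0, 42, [3, 4, 5, 6, 7, 2, 1, 0, 8]), (1, 42, [4, 5, 6, 7, 1, 2, 0, 3, 8]), (0, 43, [1, 4, 5, 6, 7, 0, 3, 2, 8]), (1, 43, [0, 5, 6, 7, 1, 3, 4, 2, 8]), (0, 44, [3, 5, 6, 7, 2, 0, 4, 1, 8]), (1, 44, [4, 6, 7, 1, 2, 3, 5, 0, 8]), (1, 45, [3, 5, 6, 7, 1, 0, 2, 4, 8]), (0, 46, [0, 5, 6, 7, 2, 3, 1, 4, 8]), (0, 47, [2, 5, 6, 7, 0, 1, 3, 4, 8]), (1, 47, [2, 6, 7, 1, 3, 0, 4, 5, 8]), (0, 48, [1, 6, 7, 2, 0, 3, 4, 5, 8]), (1, 48, [0, 7, 1, 2, 3, 4, 5, 6, 8]), (0, 49, [4, 3, 0, 5, 6, 7, 2, 1, 8]), (1, 49, [5, 4, 3, 6, 7, 1, 2, 0, 8]), (0, 50, [5, 2, 4, 6, 7, 0, 1, 3, 8]), (1, 50, [6, 2, 5, 7, 1, 3, 0, 4, 8]), (0, 51, [6, 1, 5, 7, 2, 0, 3, 4, 8]), (1, 51, [7, 0, 6, 1, 2, 3, 4, 5, 8]), (1, 52, [0, 5, 4, 6, 7, 1, 3, 2, 8]), (0, 53, [3, 5, 4, 6, 7, 2, 0, 1, 8]), (1, 53, [4, 6, 5, 7, 1, 2, 3, 0, 8])], [(1, 54,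 [3, 5, 2, 6, 7, 1, 0, 4, 8]), (0, 55, [0, 5, 1, 6, 7, 2, 3, 4, 8]), (1, 55, [3, 6, 0, 7, 1, 2, 4, 5, 8]), (0, 56, [2, 5, 3, 6, 7, 0, 1, 4, 8]), (1, 56, [2, 6, 4, 7, 1, 3, 0, 5, 8]), (0, 57, [1, 6, 4, 7, 2, 0, 3, 5, 8]), (1, 57, [0, 7, 5, 1, 2, 3, 4, 6, 8]), (0, 58, [4, 5, 3, 6, 7, 2, 1, 0, 8]), (1, 58, [5, 6, 4, 7, 1, 2, 0, 3, 8]), (0, 59, [4, 5, 1, 6, 7, 0, 3, 2, 8]), (0, 60, [5, 6, 3, 7, 2, 0, 4, 1, 8]), (1, 60, [6, 7, 4, 1, 2, 3, 5, 0, 8]), (1, 61, [5, 6, 3, 7, 1, 0, 2, 4, 8]), (0, 62, [5, 6, 0, 7, 2, 3, 1, 4, 8]), (1, 62, [6, 7, 3, 1, 2, 4, 0, 5, 8]), (0, 63, [5, 6, 2, 7, 0, 1, 3, 4, 8]), (1, 64, [7, 1, 0, 2, 3, 4, 5, 6, 8]), (0, 65, [4, 1, 5, 6, 7, 2, 3, 0, 8]), (1, 65, [5, 0, 6, 7, 1, 2, 4, 3, 8]), (0, 66, [4, 3, 5, 6, 7, 0, 1, 2, 8]), (1, 66, [5, 4, 6, 7, 1, 3, 0, 2, 8]), (0, 67, [5, 4, 6, 7, 2, 0, 3, 1, 8]), (1, 67, [6, 5, 7, 1, 2, 3, 4, 0, 8]), (0, 68, [0, 3, 5, 6, 7, 2, 1, 4, 8]), (1, 68, [3, 4, 6,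 7, 1, 2, 0, 5, 8]), (0, 69, [2, 1, 5, 6, 7, 0, 3, 4, 8]), (1, 69, [2, 0, 6, 7, 1, 3, 4, 5, 8]), (0, 70, [1, 3, 6, 7, 2, 0, 4, 5, 8]), (1, 71, [4, 3, 6, 7, 1, 0, 2, 5, 8]), (0, 72, [4, 0, 6, 7, 2, 3, 1, 5, 8]), (1, 72, [5, 3, 7, 1, 2, 4, 0, 6, 8]), (0, 73, [4, 2, 6, 7, 0, 1, 3, 5, 8])], [(0, 75, [3, 4, 5, 6, 7, 0, 2, 1, 8]), (1, 77, [2, 5, 6, 7, 1, 0, 4, 3, 8]), (0, 78, [1, 5, 6, 7, 2, 3, 4, 0, 8]), (1, 78, [0, 6, 7, 1, 2, 4, 5, 3, 8]), (0, 79, [3, 5, 6, 7, 0, 1, 4, 2, 8]), (1, 79, [4, 6, 7, 1, 3, 0, 5, 2, 8]), (0, 80, [4, 6, 7, 2, 0, 3, 5, 1, 8]), (1, 80, [5, 7, 1, 2, 3, 4, 6, 0, 8]), (0, 81, [3, 5, 6, 7, 2, 1, 0, 4, 8]), (1, 81, [4, 6, 7, 1, 2, 0, 3, 5, 8]), (0, 82, [1, 5, 6, 7, 0, 3, 2, 4, 8]), (1, 83, [3, 6, 7, 1, 0, 2, 4, 5, 8]), (0, 84, [0, 6, 7, 2, 3, 1, 4, 5, 8]), (1, 84, [3, 7, 1, 2, 4, 0, 5, 6, 8]), (1, 85, [2, 7, 1, 3, 0, 4, 5, 6, 8]), (0, 86, [1, 7, 2, 0, 3, 4, 5, 6, 8]), (1, 87, [5, 4, 0, 6, 7, 1,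 3, 2, 8]), (0, 88, [5, 4, 3, 6, 7, 2, 0, 1, 8]), (1, 88, [6, 5, 4, 7, 1, 2, 3, 0, 8]), (1, 89, [6, 3, 5, 7, 1, 0, 2, 4, 8]), (0, 90, [6, 0, 5, 7, 2, 3, 1, 4, 8]), (1, 90, [7, 3, 6, 1, 2, 4, 0, 5, 8]), (0, 91, [6, 2, 5, 7, 0, 1, 3, 4, 8]), (1, 91, [7, 2, 6, 1, 3, 0, 4, 5, 8]), (0, 92, [7, 1, 6, 2, 0, 3, 4, 5, 8]), (1, 92, [1, 0, 7, 2, 3, 4, 5, 6, 8]), (0, 94, [3, 5, 4, 6, 7, 0, 1, 2, 8]), (1, 94, [4, 6, 5, 7, 1, 3, 0, 2, 8]), (0, 95, [4, 6, 5, 7, 2, 0, 3, 1, 8]), (1, 95, [5, 7, 6, 1, 2, 3, 4, 0, 8]), (0, 96, [3, 5, 0, 6, 7, 2, 1, 4, 8]), (0, 97, [1, 5, 2, 6, 7, 0, 3, 4, 8])], [(1, 97, [0, 6, 2, 7, 1, 3, 4, 5, 8]), (1, 98, [4, 7, 0, 1, 2, 3, 5, 6, 8]), (1, 99, [3, 6, 4, 7, 1, 0, 2, 5, 8]), (0, 100, [0, 6, 4, 7, 2, 3, 1, 5, 8]), (1, 100, [3, 7, 5, 1, 2, 4, 0, 6, 8]), (1, 101, [2, 7, 5, 1, 3, 0, 4, 6, 8]), (0, 102, [1, 7, 5, 2, 0, 3, 4, 6, 8]), (0, 103, [4, 5, 3, 6, 7, 0, 2, 1, 8]), (1, 103, [5, 6, 4, 7, 1, 3, 2,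 0, 8]), (0, 104, [5, 6, 4, 7, 2, 0, 1, 3, 8]), (1, 104, [6, 7, 5, 1, 2, 3, 0, 4, 8]), (0, 106, [5, 6, 3, 7, 0, 1, 4, 2, 8]), (1, 106, [6, 7, 4, 1, 3, 0, 5, 2, 8]), (0, 107, [6, 7, 4, 2, 0, 3, 5, 1, 8]), (0, 108, [5, 6, 3, 7, 2, 1, 0, 4, 8]), (0, 109, [5, 6, 1, 7, 0, 3, 2, 4, 8]), (0, 110, [6, 7, 3, 2, 0, 4, 1, 5, 8]), (1, 110, [7, 1, 4, 2, 3, 5, 0, 6, 8]), (1, 111, [6, 7, 3, 1, 0, 2, 4, 5, 8]), (0, 112, [7, 2, 1, 0, 3, 4, 5, 6, 8]), (0, 113, [4, 2, 5, 6, 7, 0, 3, 1, 8]), (1, 114, [6, 0, 7, 1, 2, 3, 5, 4, 8]), (1, 116, [6, 5, 7, 1, 2, 4, 0, 3, 8]), (0, 117, [5, 4, 6, 7, 0, 1, 3, 2, 8]), (1, 117, [6, 5, 7, 1, 3, 0, 4, 2, 8]), (0, 118, [6, 5, 7, 2, 0, 3, 4, 1, 8]), (1, 118, [7, 6, 1, 2, 3, 4, 5, 0, 8]), (0, 119, [1, 3, 5, 6, 7, 0, 2, 4, 8]), (1, 121, [3, 2, 6, 7, 1, 0, 4, 5, 8]), (0, 122, [0, 1, 6, 7, 2, 3, 4, 5, 8]), (1, 122, [3, 0, 7, 1, 2, 4, 5, 6, 8]), (0, 123, [2, 3, 6, 7, 0, 1, 4, 5, 8])], [(1, 123, [2, 4,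 7, 1, 3, 0, 5, 6, 8]), (0, 124, [4, 3, 6, 7, 2, 1, 0, 5, 8]), (1, 124, [5, 4, 7, 1, 2, 0, 3, 6, 8]), (0, 125, [4, 1, 6, 7, 0, 3, 2, 5, 8]), (1, 127, [5, 3, 7, 1, 0, 2, 4, 6, 8]), (1, 128, [4, 5, 6, 7, 1, 0, 3, 2, 8]), (0, 129, [0, 5, 6, 7, 2, 1, 4, 3, 8]), (1, 129, [3, 6, 7, 1, 2, 0, 5, 4, 8]), (0, 130, [2, 5, 6, 7, 0, 3, 4, 1, 8]), (1, 130, [2, 6, 7, 1, 3, 4, 5, 0, 8]), (1, 131, [0, 7, 1, 2, 3, 5, 6, 4, 8]), (1, 132, [4, 6, 7, 1, 0, 2, 5, 3, 8]), (1, 133, [5, 7, 1, 2, 4, 0, 6, 3, 8]), (0, 134, [4, 6, 7, 0, 1, 3, 5, 2, 8]), (1, 134, [5, 7, 1, 3, 0, 4, 6, 2, 8]), (0, 137, [4, 6, 7, 2, 0, 1, 3, 5, 8]), (1, 137, [5, 7, 1, 2, 3, 0, 4, 6, 8]), (1, 138, [2, 6, 7, 1, 0, 4, 3, 5, 8]), (1, 139, [4, 7, 1, 2, 0, 3, 5, 6, 8]), (0, 140, [1, 6, 7, 0, 3, 2, 4, 5, 8]), (1, 140, [0, 7, 1, 3, 4, 2, 5, 6, 8]), (1, 141, [4, 1, 2, 3, 5, 0, 6, 7, 8]), (0, 142, [0, 7, 2, 3, 1, 4, 5, 6, 8]), (1, 142, [3, 1, 2, 4, 0, 5, 6, 7, 8]), (0,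 143, [2, 7, 0, 1, 3, 4, 5, 6, 8]), (1, 143, [2, 1, 3, 0, 4, 5, 6, 7, 8]), (1, 144, [6, 5, 0, 7, 1, 2, 4, 3, 8]), (0, 145, [5, 4, 3, 6, 7, 0, 1, 2, 8]), (1, 146, [7, 6, 5, 1, 2, 3, 4, 0, 8]), (0, 147, [6, 3, 5, 7, 2, 1, 0, 4, 8]), (1, 147, [7, 4, 6, 1, 2, 0, 3, 5, 8]), (1, 148, [7, 0, 6, 1, 3, 4, 2, 5, 8])], [(0, 149, [7, 3, 6, 2, 0, 4, 1, 5, 8]), (1, 150, [7, 3, 6, 1, 0, 2, 4, 5, 8]), (0, 151, [7, 0, 6, 2, 3, 1, 4, 5, 8]), (1, 152, [1, 2, 7, 3, 0, 4, 5, 6, 8]), (1, 154, [4, 6, 5, 7, 1, 0, 2, 3, 8]), (0, 155, [4, 6, 5, 7, 2, 3, 1, 0, 8]), (1, 155, [5, 7, 6, 1, 2, 4, 0, 3, 8]), (0, 156, [4, 6, 5, 7, 0, 1, 3, 2, 8]), (1, 157, [6, 1, 7, 2, 3, 4, 5, 0, 8]), (1, 159, [2, 6, 3, 7, 1, 0, 4, 5, 8]), (0, 160, [1, 6, 0, 7, 2, 3, 4, 5, 8]), (1, 160, [0, 7, 3, 1, 2, 4, 5, 6, 8]), (1, 161, [5, 1, 0, 2, 3, 4, 6, 7, 8]), (1, 163, [0, 7, 5, 1, 3, 4, 2, 6, 8]), (0, 164, [3, 7, 5, 2, 0, 4, 1, 6, 8]), (0, 165, [0, 7, 5, 2, 3, 1,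 4, 6, 8]), (1, 165, [3, 1, 6, 2, 4, 0, 5, 7, 8]), (0, 166, [2, 7, 5, 0, 1, 3, 4, 6, 8]), (1, 168, [6, 7, 5, 1, 2, 4, 3, 0, 8]), (0, 169, [5, 6, 4, 7, 0, 1, 2, 3, 8]), (1, 169, [6, 7, 5, 1, 3, 0, 2, 4, 8]), (0, 170, [6, 7, 5, 2, 0, 3, 1, 4, 8]), (1, 170, [7, 1, 6, 2, 3, 4, 0, 5, 8]), (1, 171, [6, 7, 4, 1, 0, 2, 5, 3, 8]), (1, 172, [7, 1, 5, 2, 4, 0, 6, 3, 8]), (0, 173, [6, 7, 4, 0, 1, 3, 5, 2, 8]), (0, 176, [6, 7, 3, 0, 1, 4, 2, 5, 8]), (1, 177, [1, 2, 5, 3, 4, 6, 0, 7, 8]), (0, 181, [6, 1, 7, 2, 0, 3, 5, 4, 8]), (1, 183, [6, 5, 7, 1, 0, 2, 4, 3, 8]), (1, 184, [7, 6, 1, 2, 4, 0, 5, 3, 8]), (0, 185, [6, 5, 7, 0, 1, 3, 4, 2, 8])], [(1, 185, [7, 6, 1, 3, 0, 4, 5, 2, 8]), (0, 186, [7, 6, 2, 0, 3, 4, 5, 1, 8]), (1, 186, [1, 7, 2, 3, 4, 5, 6, 0, 8]), (1, 187, [2, 4, 6, 7, 1, 0, 3, 5, 8]), (0, 188, [3, 0, 6, 7, 2, 1, 4, 5, 8]), (0, 192, [0, 4, 7, 2, 3, 1, 5, 6, 8]), (1, 192, [3, 5, 1, 2, 4, 0, 6, 7, 8]), (0, 197, [4,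 5, 6, 7, 2, 1, 3, 0, 8]), (0, 198, [1, 5, 6, 7, 0, 2, 4, 3, 8]), (1, 198, [0, 6, 7, 1, 3, 2, 5, 4, 8]), (0, 199, [3, 6, 7, 2, 0, 1, 5, 4, 8]), (1, 199, [4, 7, 1, 2, 3, 0, 6, 5, 8]), (1, 200, [3, 6, 7, 1, 0, 4, 5, 2, 8]), (1, 201, [3, 7, 1, 2, 4, 5, 6, 0, 8]), (0, 202, [1, 7, 2, 0, 3, 5, 6, 4, 8]), (1, 203, [5, 7, 1, 2, 0, 3, 6, 4, 8]), (1, 209, [3, 7, 1, 2, 0, 5, 4, 6, 8]), (1, 211, [2, 7, 1, 0, 4, 3, 5, 6, 8]), (1, 213, [5, 2, 3, 4, 6, 0, 7, 1, 8]), (0, 214, [1, 7, 0, 3, 2, 4, 5, 6, 8]), (0, 215, [3, 2, 0, 4, 1, 5, 6, 7, 8]), (1, 215, [4, 2, 3, 5, 0, 6, 7, 1, 8]), (0, 217, [0, 2, 3, 1, 4, 5, 6, 7, 8]), (1, 218, [7, 6, 0, 1, 2, 3, 5, 4, 8]), (1, 222, [1, 5, 7, 2, 3, 0, 4, 6, 8]), (0, 226, [7, 1, 6, 0, 3, 2, 4, 5, 8]), (0, 228, [4, 6, 5, 7, 2, 1, 0, 3, 8]), (1, 228, [5, 7, 6, 1, 2, 0, 3, 4, 8]), (1, 229, [5, 7, 6, 1, 3, 4, 2, 0, 8]), (0, 230, [5, 7, 6, 2, 0, 4, 1, 3, 8]), (1, 230, [6, 1, 7, 2, 3, 5, 0, 4, 8]),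 (0, 233, [0, 6, 3, 7, 2, 1, 4, 5, 8])], [(0, 235, [1, 7, 3, 2, 0, 4, 5, 6, 8]), (1, 242, [7, 1, 6, 2, 3, 5, 4, 0, 8]), (1, 243, [6, 7, 5, 1, 0, 2, 3, 4, 8]), (0, 244, [6, 7, 5, 2, 3, 1, 0, 4, 8]), (1, 244, [7, 1, 6, 2, 4, 0, 3, 5, 8]), (1, 248, [1, 2, 6, 3, 5, 0, 7, 4, 8]), (0, 252, [6, 2, 7, 0, 1, 3, 5, 4, 8]), (1, 253, [7, 6, 1, 2, 0, 3, 5, 4, 8]), (1, 254, [1, 7, 2, 3, 5, 0, 6, 4, 8]), (0, 259, [0, 4, 6, 7, 2, 1, 3, 5, 8]), (1, 261, [0, 5, 1, 3, 4, 2, 6, 7, 8]), (1, 262, [4, 6, 2, 3, 5, 0, 7, 1, 8]), (1, 264, [2, 6, 7, 1, 0, 3, 5, 4, 8]), (1, 265, [0, 7, 1, 2, 4, 3, 6, 5, 8]), (1, 266, [4, 7, 1, 3, 0, 2, 6, 5, 8]), (0, 267, [4, 7, 2, 0, 3, 1, 6, 5, 8]), (1, 273, [3, 1, 2, 0, 5, 4, 6, 7, 8]), (1, 274, [6, 3, 4, 5, 7, 0, 1, 2, 8]), (1, 277, [5, 3, 4, 6, 0, 7, 1, 2, 8]), (1, 280, [2, 6, 1, 3, 4, 0, 5, 7, 8]), (1, 284, [6, 1, 7, 2, 4, 5, 3, 0, 8]), (1, 285, [6, 1, 7, 3, 0, 5, 2, 4, 8]), (0, 286, [6, 2, 7, 0,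 3, 5, 1, 4, 8]), (0, 289, [7, 2, 6, 0, 3, 5, 4, 1, 8]), (0, 297, [1, 4, 6, 7, 0, 2, 3, 5, 8]), (1, 298, [0, 6, 2, 4, 5, 3, 7, 1, 8]), (1, 307, [3, 7, 2, 4, 5, 0, 6, 1, 8])]]

def act0 : List (List (ℕ × ℕ)) :=
  [[(1, 0), (3, 0), (5, 0), (0, 0), (8, 0), (10, 0), (12, 0), (14, 0), (16, 0), (18, 0), (2, 0), (21, 0), (23, 0), (25, 0), (27, 0), (20, 1), (4, 0), (30, 0), (32, 0), (34, 0), (36, 0), (38, 0), (40, 0), (6, 0), (43, 0), (45, 0), (47, 0), (7, 0), (50, 0), (52, 0), (54, 0), (56, 0)], [(9, 0), (59, 0), (61, 0), (63, 0), (15, 1), (66, 0), (11, 0), (69, 0), (71, 0), (73, 0), (75, 0), (77, 0), (79, 0), (13, 0), (82, 0), (83, 0), (85, 0), (87, 0), (89, 0), (91, 0), (74, 3), (94, 0), (17, 0), (97, 0), (99, 0), (101, 0), (103, 0), (105, 0), (106, 0), (19, 0), (109, 0), (111, 0)], [(96, 53), (113, 0), (115, 0), (117, 0), (119, 0), (121, 0), (123, 0), (22, 0), (125, 0), (127, 0), (29, 3), (128, 0), (124, 19), (24,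 0), (130, 0), (132, 0), (134, 0), (136, 0), (138, 0), (26, 0), (140, 0), (98, 17), (143, 0), (126, 5), (145, 0), (28, 0), (148, 0), (150, 0), (152, 0), (108, 8), (154, 0), (156, 0)], [(158, 0), (159, 0), (48, 17), (31, 0), (163, 0), (153, 56), (166, 0), (167, 0), (169, 0), (33, 0), (171, 0), (173, 0), (174, 0), (175, 0), (176, 0), (35, 0), (179, 0), (180, 0), (147, 27), (37, 0), (90, 38), (183, 0), (185, 0), (187, 0), (81, 19), (39, 0), (189, 0), (191, 0), (193, 0), (195, 0), (49, 9), (41, 0)], [(42, 0), (198, 0), (200, 0), (186, 54), (44, 0), (203, 12), (205, 0), (92, 42), (120, 19), (207, 0), (46, 0), (160, 17), (211, 0), (212, 44), (214, 0), (216, 0), (162, 13), (219, 0), (197, 54), (221, 0), (116, 27), (224, 0), (51, 0), (226, 0), (135, 15), (57, 57), (53, 0), (229, 0), (231, 0), (133, 50), (64, 49), (55, 0)], [(234, 0), (210, 0), (227, 56), (190, 56), (238, 0), (239, 0), (241, 0), (58, 0), (155, 54), (243,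 0), (245, 0), (60, 0), (247, 12), (249, 0), (93, 35), (62, 0), (250, 0), (178, 28), (240, 38), (209, 27), (65, 0), (252, 0), (232, 60), (67, 0), (253, 12), (255, 0), (257, 0), (68, 0), (260, 0), (236, 15), (100, 57), (70, 0)], [(261, 0), (76, 19), (196, 21), (72, 0), (248, 38), (263, 0), (264, 0), (266, 0), (78, 0), (170, 31), (270, 0), (157, 41), (202, 5), (80, 0), (222, 26), (251, 4), (165, 29), (112, 38), (213, 33), (84, 0), (273, 29), (161, 36), (275, 0), (276, 0), (86, 0), (278, 0), (215, 10), (88, 0), (172, 40), (114, 38), (225, 21), (246, 0)], [(271, 28), (206, 15), (281, 0), (144, 24), (282, 0), (168, 54), (285, 0), (95, 0), (269, 30), (287, 0), (139, 17), (288, 0), (122, 42), (188, 47), (274, 7), (208, 29), (177, 58), (102, 0), (199, 23), (104, 0), (291, 0), (201, 61), (258, 61), (220, 51), (194, 43), (107, 0), (110, 0), (137, 4), (294, 0), (292, 38), (277, 45), (118, 0)], [(244, 51), (131, 54), (223,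 31), (297, 0), (237, 47), (280, 21), (298, 44), (146, 54), (129, 0), (254, 54), (242, 55), (303, 0), (283, 41), (182, 24), (204, 9), (149, 26), (217, 38), (141, 17), (164, 7), (142, 0), (218, 24), (265, 26), (272, 27), (295, 0), (192, 21), (151, 0), (293, 24), (290, 29), (279, 31), (300, 41), (310, 0), (305, 31)], [(304, 38), (311, 0), (268, 61), (256, 51), (184, 46), (228, 10), (181, 0), (284, 61), (306, 37), (312, 0), (307, 1), (308, 16), (230, 41), (296, 12), (299, 60), (309, 13), (235, 27), (233, 61), (301, 52), (262, 34), (302, 45), (267, 20), (313, 40), (314, 22), (259, 0), (286, 40), (289, 16)]]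

def act1 : List (List (ℕ × ℕ)) :=
  [[(2, 0), (4, 0), (6, 0), (7, 0), (9, 0), (11, 0), (13, 0), (15, 0), (17, 0), (19, 0), (20, 0), (22, 0), (24, 0), (26, 0), (21, 1), (28, 0), (29, 0), (31, 0), (33, 0), (35, 0), (37, 0), (39, 0), (41, 0), (42, 0), (44, 0), (46, 0), (48, 0), (49, 0), (51, 0), (53, 0), (55, 0), (57, 0)], [(58, 0), (60, 0), (62, 0), (64, 0), (65, 0), (67, 0), (68, 0), (70, 0), (72, 0), (74, 0), (76, 0), (78, 0), (80, 0), (81, 0), (45, 2), (84, 0), (86, 0), (88, 0), (90, 0), (92, 0), (93, 0), (95, 0), (96, 0), (98, 0), (100, 0), (102, 0), (104, 0), (16, 4), (107, 0), (108, 0), (110, 0), (97, 53)], [(112, 0), (114, 0), (116, 0), (118, 0), (120, 0), (122, 0), (113, 42), (124, 0), (126, 0), (30, 3), (109, 23), (125, 19), (18, 53), (129, 0), (131, 0), (133, 0), (135, 0), (137, 0), (75, 2), (139, 0), (141, 0), (142, 0), (0, 0), (144, 0), (146, 0), (147, 0), (149, 0), (151, 0), (153, 0), (27, 52), (155,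 0), (157, 0)], [(77, 35), (160, 0), (161, 0), (162, 0), (164, 0), (165, 0), (61, 14), (168, 0), (170, 0), (5, 4), (172, 0), (23, 49), (8, 14), (105, 53), (177, 0), (178, 0), (1, 0), (148, 27), (181, 0), (91, 38), (182, 0), (184, 0), (186, 0), (82, 19), (119, 24), (188, 0), (190, 0), (192, 0), (194, 0), (38, 3), (163, 23), (196, 0)], [(197, 0), (199, 0), (201, 0), (202, 0), (203, 0), (204, 0), (206, 0), (145, 56), (71, 2), (208, 0), (209, 0), (210, 0), (212, 0), (213, 0), (215, 0), (217, 0), (218, 0), (195, 38), (220, 0), (222, 0), (223, 0), (111, 59), (225, 0), (211, 36), (227, 0), (3, 0), (228, 0), (230, 0), (134, 50), (232, 0), (25, 35), (233, 0)], [(235, 0), (236, 0), (200, 30), (237, 0), (234, 31), (240, 0), (103, 14), (156, 54), (242, 0), (244, 0), (246, 0), (247, 0), (248, 0), (36, 49), (106, 15), (34, 53), (159, 16), (251, 0), (187, 16), (239, 57), (117, 60), (128, 4), (167, 58), (253, 0), (254, 0), (256,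 0), (258, 0), (259, 0), (40, 42), (101, 57), (189, 31), (89, 24)], [(262, 0), (54, 9), (229, 23), (12, 3), (169, 23), (173, 55), (265, 0), (267, 0), (268, 0), (269, 0), (231, 4), (271, 0), (243, 22), (252, 41), (66, 63), (166, 29), (158, 3), (272, 0), (123, 42), (273, 0), (214, 36), (274, 0), (264, 16), (277, 0), (241, 57), (154, 33), (279, 0), (73, 38), (52, 52), (226, 21), (280, 0), (14, 61)], [(174, 59), (180, 42), (85, 36), (79, 16), (283, 0), (284, 0), (286, 0), (205, 41), (59, 4), (275, 44), (216, 0), (138, 16), (219, 56), (121, 5), (140, 45), (99, 14), (69, 52), (250, 27), (289, 0), (290, 0), (292, 0), (270, 51), (171, 59), (32, 59), (293, 0), (87, 59), (56, 16), (278, 23), (43, 4), (295, 0), (296, 0), (245, 51)], [(255, 18), (224, 31), (10, 0), (50, 42), (207, 36), (298, 0), (299, 0), (249, 31), (300, 0), (301, 0), (302, 0), (193, 37), (294, 13), (176, 14), (282, 4), (94, 63), (63, 24), (304, 0), (305,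 0), (130, 16), (266, 26), (306, 0), (175, 4), (303, 17), (307, 0), (287, 57), (291, 29), (281, 29), (308, 0), (309, 0), (132, 63), (143, 44)], [(47, 16), (260, 57), (152, 0), (185, 46), (285, 30), (257, 43), (179, 48), (310, 41), (150, 22), (261, 21), (313, 0), (83, 15), (311, 8), (183, 4), (297, 37), (263, 22), (312, 28), (288, 22), (221, 19), (314, 0), (136, 39), (127, 44), (198, 63), (238, 31), (115, 24), (276, 46), (191, 10)]]

def act2 : List (List (ℕ × ℕ)) :=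
  [[(0, 1), (40, 3), (147, 10), (71, 5), (90, 10), (35, 22), (11, 19), (51, 10), (34, 49), (172, 18), (289, 24), (6, 19), (273, 52), (163, 18), (302, 3), (15, 19), (62, 22), (107, 18), (143, 4), (109, 26), (20, 19), (49, 27), (22, 21), (87, 54), (144, 29), (283, 38), (140, 56), (110, 7), (28, 21), (247, 18), (161, 26), (96, 29)], [(52, 54), (93, 29), (8, 53), (5, 16), (36, 60), (65, 21), (141, 52), (68, 21), (1, 3), (131, 62), (88, 29), (202, 56), (113, 41), (195, 8), (234, 38), (274, 16), (237, 30), (21, 38), (200, 61), (7, 24), (32, 54), (58, 29), (288, 4), (55, 29), (177, 37), (170, 47), (53, 29), (303, 33), (108, 48), (116, 51), (16, 16), (114, 48)], [(178, 44), (37, 21), (185, 10), (103, 51), (39, 21), (134, 15), (265, 62), (3, 9), (268, 62), (209, 17), (86, 30), (146, 41), (101, 38), (291, 33), (89, 51), (115, 23), (208, 50), (305, 35), (266, 25), (151, 49), (164, 30), (294, 48), (74, 32), (23, 54), (42,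 29), (78, 51), (4, 24), (250, 8), (136, 53), (33, 29), (286, 11), (228, 48)], [(31, 29), (97, 17), (230, 6), (307, 14), (290, 47), (76, 27), (137, 32), (67, 51), (156, 38), (106, 55), (105, 23), (17, 45), (60, 48), (19, 28), (27, 7), (311, 49), (257, 0), (44, 41), (63, 48), (79, 55), (61, 51), (154, 23), (132, 17), (165, 48), (279, 49), (239, 33), (199, 62), (312, 1), (201, 62), (190, 62), (212, 30), (149, 34)], [(258, 39), (192, 14), (130, 54), (41, 62), (118, 17), (278, 58), (69, 42), (295, 31), (92, 49), (102, 30), (236, 55), (189, 17), (26, 57), (38, 52), (196, 32), (18, 4), (24, 29), (246, 37), (75, 41), (2, 24), (175, 1), (127, 25), (299, 52), (83, 53), (287, 44), (269, 30), (117, 55), (155, 48), (104, 27), (251, 46), (298, 9), (159, 44)], [(242, 47), (30, 28), (244, 47), (13, 45), (84, 32), (119, 48), (203, 23), (310, 52), (168, 48), (293, 16), (57, 47), (267, 13), (9, 45), (235, 44), (309, 17), (148,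 1), (308, 61), (56, 58), (64, 44), (224, 48), (255, 20), (260, 62), (193, 59), (313, 58), (276, 4), (66, 24), (271, 23), (205, 28), (300, 62), (139, 17), (125, 62), (222, 34)], [(129, 14), (182, 59), (275, 10), (45, 35), (142, 30), (219, 51), (253, 17), (122, 62), (50, 31), (124, 62), (43, 57), (166, 55), (256, 31), (187, 26), (254, 55), (272, 41), (80, 50), (73, 17), (249, 54), (281, 29), (126, 32), (304, 34), (214, 54), (264, 24), (220, 42), (241, 63), (261, 14), (197, 51), (216, 15), (314, 42), (191, 25), (263, 53)], [(179, 48), (297, 25), (238, 35), (270, 20), (95, 48), (229, 60), (98, 6), (306, 7), (245, 31), (284, 6), (46, 27), (173, 44), (138, 23), (48, 32), (226, 8), (121, 36), (262, 21), (217, 63), (160, 47), (301, 13), (162, 47), (232, 61), (145, 58), (29, 45), (248, 21), (210, 54), (91, 35), (157, 46), (285, 41), (198, 17), (206, 23), (180, 13)], [(204, 61), (112, 0), (128, 39), (277, 16), (181, 62),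 (218, 14), (240, 21), (223, 49), (215, 10), (70, 62), (82, 34), (171, 20), (72, 62), (153, 32), (227, 13), (186, 55), (207, 41), (12, 52), (47, 22), (194, 24), (184, 4), (259, 22), (133, 37), (120, 53), (292, 46), (211, 29), (296, 42), (25, 27), (233, 6), (252, 41), (94, 2), (152, 44)], [(54, 4), (10, 10), (100, 47), (77, 36), (280, 46), (169, 22), (85, 48), (135, 61), (282, 15), (225, 34), (158, 5), (150, 52), (188, 62), (243, 20), (14, 3), (59, 36), (213, 25), (81, 8), (231, 7), (99, 14), (176, 31), (174, 17), (167, 52), (111, 53), (123, 1), (183, 37), (221, 15)]]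

def act3 : List (List (ℕ × ℕ)) :=
  []

def act4 : List (List (ℕ × ℕ)) :=
  []

def act5 : List (List (ℕ × ℕ)) :=
  [[(312, 31), (76, 16), (158, 33), (237, 57), (103, 33), (168, 4), (172, 4), (175, 4), (228, 52), (247, 4), (59, 33), (49, 0), (54, 1), (88, 1), (243, 4), (107, 4), (108, 4), (20, 0), (30, 1), (169, 8), (17, 0), (29, 1), (144, 1), (23, 1), (28, 1), (233, 8), (239, 32), (97, 33), (24, 1), (21, 1), (18, 1), (293, 53)], [(87, 1), (109, 8), (106, 8), (159, 35), (248, 59), (163, 8), (196, 3), (42, 0), (305, 34), (278, 61), (39, 0), (211, 11), (272, 11), (261, 15), (197, 0), (236, 40), (50, 6), (11, 0), (48, 6), (307, 15), (52, 1), (229, 13), (12, 1), (58, 0), (60, 8), (187, 35), (55, 0), (10, 36), (56, 35), (63, 8), (156, 54), (61, 35)], [(95, 35), (68, 0), (287, 8), (262, 15), (65, 0), (98, 8), (208, 11), (209, 11), (259, 0), (200, 19), (173, 10), (139, 11), (1, 22), (251, 12), (81, 0), (189, 19),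 (277, 22), (78, 0), (188, 19), (127, 19), (119, 2), (145, 6), (288, 29), (32, 1), (13, 1), (101, 13), (117, 54), (148, 60), (184, 27), (96, 0), (171, 8), (64, 8)], [(93, 0), (27, 36), (69, 35), (250, 49), (112, 49), (89, 20), (146, 20), (4, 36), (177, 49), (178, 49), (34, 35), (15, 4), (16, 4), (33, 35), (155, 35), (282, 54), (100, 53), (234, 8), (298, 15), (137, 11), (147, 1), (90, 54), (222, 38), (84, 11), (166, 47), (192, 15), (124, 0), (130, 19), (122, 0), (129, 19), (249, 20), (83, 19)], [(153, 15), (125, 19), (123, 19), (266, 12), (297, 19), (300, 0), (257, 29), (135, 12), (238, 32), (115, 2), (215, 22), (75, 2), (190, 33), (275, 29), (216, 17), (210, 29), (22, 1), (85, 6), (102, 13), (116, 1), (91, 60), (253, 27), (150, 19), (181, 38), (258, 51), (128, 42), (240, 14), (110, 8), (62, 54), (244, 54), (2, 36), (35, 8)], [(162, 0), (212, 17), (160, 0), (37, 35), (195, 47), (218, 20), (120, 47), (231, 13),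 (5, 4), (19, 35), (283, 54), (94, 35), (6, 4), (74, 24), (176, 42), (7, 4), (174, 15), (104, 53), (105, 53), (180, 16), (179, 22), (151, 27), (226, 46), (183, 19), (92, 38), (269, 45), (186, 12), (57, 8), (82, 19), (79, 19), (140, 36), (263, 19)], [(121, 42), (276, 61), (220, 27), (164, 47), (38, 3), (46, 0), (260, 19), (279, 54), (73, 19), (203, 0), (292, 31), (201, 0), (206, 12), (284, 41), (204, 12), (219, 6), (70, 2), (71, 2), (143, 29), (43, 2), (161, 17), (213, 29), (214, 44), (138, 16), (142, 17), (274, 56), (165, 13), (207, 6), (194, 38), (221, 60), (118, 27), (225, 0)], [(246, 21), (223, 0), (182, 46), (280, 21), (8, 52), (53, 20), (290, 54), (167, 20), (232, 12), (25, 35), (113, 35), (273, 17), (47, 40), (3, 56), (136, 30), (26, 30), (154, 14), (264, 30), (291, 12), (14, 4), (157, 54), (295, 40), (224, 21), (9, 4), (36, 59), (126, 13), (99, 53), (77, 12), (271, 50), (149, 38), (256, 12), (294, 21)],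 [(254, 12), (134, 29), (152, 51), (72, 0), (198, 19), (45, 42), (67, 42), (191, 19), (241, 32), (268, 0), (131, 12), (310, 61), (265, 0), (185, 18), (281, 51), (252, 50), (44, 2), (235, 17), (217, 57), (141, 29), (193, 31), (80, 16), (41, 31), (199, 54), (227, 21), (270, 51), (111, 54), (170, 54), (205, 41), (285, 12), (306, 25), (66, 35)], [(86, 29), (296, 40), (230, 54), (242, 12), (202, 61), (31, 49), (255, 21), (245, 40), (289, 40), (132, 19), (114, 42), (299, 29), (133, 0), (308, 41), (309, 41), (311, 51), (304, 44), (40, 25), (286, 34), (51, 42), (301, 41), (302, 41), (267, 31), (303, 51), (0, 61), (313, 17), (314, 17)]]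

def act6 : List (List (ℕ × ℕ)) :=
  [[(3, 0), (0, 0), (10, 0), (1, 0), (16, 0), (2, 0), (23, 0), (27, 0), (4, 0), (32, 0), (5, 0), (38, 0), (6, 0), (45, 0), (7, 0), (36, 1), (8, 0), (54, 0), (9, 0), (61, 0), (15, 1), (11, 0), (71, 0), (12, 0), (77, 0), (13, 0), (83, 0), (14, 0), (89, 0), (74, 3), (17, 0), (99, 0)], [(18, 0), (105, 0), (19, 0), (111, 0), (20, 0), (115, 0), (21, 0), (121, 0), (22, 0), (127, 0), (128, 0), (24, 0), (132, 0), (25, 0), (138, 0), (26, 0), (98, 17), (126, 5), (28, 0), (150, 0), (29, 0), (154, 0), (30, 0), (159, 0), (31, 0), (153, 56), (167, 0), (33, 0), (171, 0), (34, 0), (175, 0), (35, 0)], [(158, 53), (180, 0), (37, 0), (183, 0), (187, 0), (39, 0), (191, 0), (40, 0), (195, 0), (41, 0), (52, 3), (42, 0), (193, 19), (43, 0), (200, 0), (44, 0), (205, 0), (120, 19), (46, 0), (47, 0), (211, 0), (48, 0), (216, 0), (49, 0), (219, 0), (50, 0), (116, 27), (51, 0), (135, 15), (174, 8), (53,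 0), (231, 0)], [(64, 49), (55, 0), (85, 17), (56, 0), (190, 56), (57, 0), (241, 0), (58, 0), (243, 0), (59, 0), (60, 0), (249, 0), (93, 35), (62, 0), (250, 0), (63, 0), (209, 27), (65, 0), (221, 27), (66, 0), (148, 38), (67, 0), (255, 0), (68, 0), (136, 19), (69, 0), (236, 15), (70, 0), (76, 19), (72, 0), (87, 9), (73, 0)], [(75, 0), (264, 0), (78, 0), (257, 54), (79, 0), (157, 50), (80, 0), (152, 42), (81, 0), (251, 4), (82, 0), (234, 17), (84, 0), (273, 17), (275, 0), (86, 0), (227, 10), (88, 0), (263, 54), (114, 38), (90, 0), (271, 28), (91, 0), (281, 0), (92, 0), (101, 57), (94, 0), (168, 54), (95, 0), (203, 41), (96, 0), (97, 0)], [(139, 17), (213, 33), (144, 20), (100, 0), (274, 7), (208, 29), (102, 0), (103, 0), (229, 54), (104, 0), (201, 61), (106, 0), (220, 40), (107, 0), (108, 0), (109, 0), (110, 0), (240, 37), (177, 26), (112, 0), (113, 0), (294, 0), (269, 10), (117, 0), (292, 46), (118, 0), (131,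 54), (119, 0), (237, 47), (122, 0), (163, 57), (123, 0)], [(280, 21), (124, 0), (248, 43), (125, 0), (194, 21), (146, 54), (129, 0), (242, 55), (130, 0), (245, 31), (204, 9), (133, 12), (270, 5), (134, 0), (225, 42), (137, 0), (239, 29), (179, 38), (161, 0), (140, 0), (141, 44), (210, 36), (142, 0), (218, 24), (143, 0), (272, 27), (276, 10), (145, 0), (247, 51), (147, 0), (206, 28), (258, 61)], [(149, 0), (222, 21), (151, 0), (162, 57), (293, 24), (155, 0), (300, 41), (156, 0), (182, 60), (305, 31), (160, 0), (304, 38), (189, 42), (260, 47), (164, 0), (165, 0), (178, 27), (166, 0), (266, 23), (169, 0), (256, 51), (170, 0), (223, 0), (172, 12), (196, 27), (173, 0), (176, 0), (207, 4), (181, 0), (184, 12), (265, 54), (185, 0)], [(291, 51), (186, 0), (246, 31), (312, 0), (188, 0), (192, 0), (307, 25), (197, 0), (198, 0), (277, 28), (199, 0), (309, 13), (290, 31), (232, 32), (202, 0), (224, 26), (278, 38), (212,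 29), (238, 7), (214, 0), (215, 0), (254, 18), (217, 0), (284, 61), (261, 21), (226, 0), (228, 0), (268, 41), (295, 31), (230, 0), (313, 40), (233, 0)], [(235, 0), (314, 22), (283, 29), (244, 0), (253, 27), (282, 10), (252, 0), (279, 0), (301, 12), (259, 0), (262, 44), (302, 60), (285, 41), (306, 52), (308, 18), (267, 0), (288, 27), (287, 61), (296, 58), (298, 1), (299, 22), (303, 20), (286, 0), (289, 0), (297, 0), (310, 40), (311, 16)]]

def act7 : List (List (ℕ × ℕ)) :=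
  [[(0, 0), (1, 0), (2, 0), (3, 0), (4, 0), (5, 0), (6, 0), (7, 0), (8, 0), (9, 0), (10, 0), (11, 0), (12, 0), (13, 0), (14, 0), (15, 0), (16, 0), (17, 0), (18, 0), (19, 0), (20, 0), (21, 0), (22, 0), (23, 0), (24, 0), (25, 0), (26, 0), (27, 0), (28, 0), (29, 0), (30, 0), (31, 0)], [(32, 0), (33, 0), (34, 0), (35, 0), (36, 0), (37, 0), (38, 0), (39, 0), (40, 0), (41, 0), (42, 0), (43, 0), (44, 0), (45, 0), (46, 0), (47, 0), (48, 0), (49, 0), (50, 0), (51, 0), (52, 0), (53, 0), (54, 0), (55, 0), (56, 0), (57, 0), (58, 0), (59, 0), (60, 0), (61, 0), (62, 0), (63, 0)], [(64, 0), (65, 0), (66, 0), (67, 0), (68, 0), (69, 0), (70, 0), (71, 0), (72, 0), (73, 0), (74, 0), (75, 0), (76, 0), (77, 0), (78, 0), (79, 0), (80, 0), (81, 0), (82, 0), (83, 0), (84, 0), (85, 0), (86, 0), (87, 0), (88, 0), (89, 0), (90, 0), (91, 0), (92, 0), (93, 0), (94, 0), (95, 0)], [(96, 0), (97, 0), (98, 0), (99, 0), (100, 0), (101, 0), (102,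 0), (103, 0), (104, 0), (105, 0), (106, 0), (107, 0), (108, 0), (109, 0), (110, 0), (111, 0), (112, 0), (113, 0), (114, 0), (115, 0), (116, 0), (117, 0), (118, 0), (119, 0), (120, 0), (121, 0), (122, 0), (123, 0), (124, 0), (125, 0), (126, 0), (127, 0)], [(128, 0), (129, 0), (130, 0), (131, 0), (132, 0), (133, 0), (134, 0), (135, 0), (136, 0), (137, 0), (138, 0), (139, 0), (140, 0), (141, 0), (142, 0), (143, 0), (144, 0), (145, 0), (146, 0), (147, 0), (148, 0), (149, 0), (150, 0), (151, 0), (152, 0), (153, 0), (154, 0), (155, 0), (156, 0), (157, 0), (158, 0), (159, 0)], [(160, 0), (161, 0), (162, 0), (163, 0), (164, 0), (165, 0), (166, 0), (167, 0), (168, 0), (169, 0), (170, 0), (171, 0), (172, 0), (173, 0), (174, 0), (175, 0), (176, 0), (177, 0), (178, 0), (179, 0), (180, 0), (181, 0), (182, 0), (183, 0), (184, 0), (185, 0), (186, 0), (187, 0), (188, 0), (189, 0), (190, 0), (191, 0)], [(192, 0), (193, 0), (194,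 0), (195, 0), (196, 0), (197, 0), (198, 0), (199, 0), (200, 0), (201, 0), (202, 0), (203, 0), (204, 0), (205, 0), (206, 0), (207, 0), (208, 0), (209, 0), (210, 0), (211, 0), (212, 0), (213, 0), (214, 0), (215, 0), (216, 0), (217, 0), (218, 0), (219, 0), (220, 0), (221, 0), (222, 0), (223, 0)], [(224, 0), (225, 0), (226, 0), (227, 0), (228, 0), (229, 0), (230, 0), (231, 0), (232, 0), (233, 0), (234, 0), (235, 0), (236, 0), (237, 0), (238, 0), (239, 0), (240, 0), (241, 0), (242, 0), (243, 0), (244, 0), (245, 0), (246, 0), (247, 0), (248, 0), (249, 0), (250, 0), (251, 0), (252, 0), (253, 0), (254, 0), (255, 0)], [(256, 0), (257, 0), (258, 0), (259, 0), (260, 0), (261, 0), (262, 0), (263, 0), (264, 0), (265, 0), (266, 0), (267, 0), (268, 0), (269, 0), (270, 0), (271, 0), (272, 0), (273, 0), (274, 0), (275, 0), (276, 0), (277, 0), (278, 0), (279, 0), (280, 0), (281, 0), (282, 0), (283, 0), (284, 0), (285, 0), (286,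 0), (287, 0)], [(288, 0), (289, 0), (290, 0), (291, 0), (292, 0), (293, 0), (294, 0), (295, 0), (296, 0), (297, 0), (298, 0), (299, 0), (300, 0), (301, 0), (302, 0), (303, 0), (304, 0), (305, 0), (306, 0), (307, 0), (308, 0), (309, 0), (310, 0), (311, 0), (312, 0), (313, 0), (314, 0)]]

def act8 : List (List (ℕ × ℕ)) :=
  [[(193, 42), (276, 44), (42, 46), (221, 32), (163, 4), (248, 32), (103, 61), (87, 15), (28, 33), (108, 43), (96, 46), (261, 3), (131, 49), (139, 6), (22, 33), (113, 61), (109, 52), (110, 2), (291, 4), (160, 8), (279, 62), (63, 33), (14, 36), (140, 39), (220, 47), (175, 13), (51, 54), (58, 46), (8, 36), (230, 58), (156, 33), (211, 6)], [(233, 43), (247, 39), (34, 1), (35, 54), (48, 49), (172, 39), (101, 43), (85, 6), (243, 13), (274, 26), (2, 46), (119, 1), (44, 19), (268, 6), (46, 60), (273, 47), (36, 53), (265, 39), (168, 13), (26, 54), (106, 33), (107, 49), (112, 9), (287, 8), (94, 1), (250,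 42), (27, 46), (69, 0), (65, 35), (290, 39), (242, 42), (21, 36)], [(254, 51), (60, 8), (97, 1), (218, 27), (171, 13), (59, 0), (114, 19), (186, 47), (138, 60), (214, 11), (162, 59), (126, 15), (312, 48), (300, 6), (148, 54), (86, 8), (227, 33), (216, 32), (116, 60), (278, 40), (293, 61), (39, 6), (79, 35), (7, 42), (249, 39), (283, 62), (189, 27), (142, 37), (204, 51), (98, 13), (56, 1), (192, 56)], [(10, 46), (66, 1), (93, 20), (245, 39), (266, 9), (38, 43), (191, 2), (6, 31), (277, 4), (284, 56), (52, 36), (53, 53), (9, 43), (16, 52), (17, 11), (251, 10), (54, 5), (15, 31), (70, 19), (244, 39), (82, 60), (288, 8), (202, 55), (43, 1), (120, 48), (256, 37), (122, 19), (141, 8), (304, 40), (130, 0), (75, 42), (217, 40)], [(203, 6), (275, 32), (125, 0), (12, 53), (165, 11), (282, 5), (180, 6), (309, 18), (239, 8), (231, 5), (72, 60), (13, 6), (23, 39), (123, 35), (91, 58), (188, 30), (305, 34), (158, 1), (264,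 27), (210, 37), (78, 54), (223, 36), (166, 6), (296, 61), (152, 60), (207, 19), (257, 47), (199, 9), (30, 36), (167, 57), (145, 1), (285, 62)], [(19, 35), (259, 47), (74, 59), (4, 4), (235, 29), (132, 2), (150, 6), (157, 56), (50, 20), (173, 8), (196, 24), (68, 20), (37, 39), (169, 35), (205, 9), (25, 20), (178, 12), (280, 1), (176, 12), (240, 2), (134, 6), (270, 10), (182, 21), (272, 32), (301, 31), (185, 48), (71, 47), (295, 37), (143, 32), (90, 38), (190, 21), (102, 11)], [(95, 57), (0, 15), (228, 57), (236, 22), (170, 10), (213, 22), (298, 40), (155, 5), (200, 48), (219, 6), (118, 23), (128, 6), (92, 51), (174, 5), (308, 24), (153, 19), (260, 35), (209, 12), (147, 58), (31, 6), (215, 49), (197, 16), (73, 2), (212, 53), (81, 30), (127, 40), (67, 38), (201, 6), (24, 47), (3, 30), (306, 14), (149, 33)], [(225, 12), (224, 12), (232, 1), (80, 36), (194, 56), (234, 0), (29, 37), (137, 9), (226, 1), (32, 43), (229,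 0), (164, 29), (195, 16), (237, 29), (307, 63), (136, 35), (179, 11), (263, 47), (62, 15), (40, 20), (115, 39), (99, 39), (253, 7), (33, 39), (5, 30), (88, 39), (57, 15), (111, 24), (252, 19), (246, 7), (64, 51), (303, 30)], [(121, 58), (154, 47), (299, 60), (161, 47), (208, 8), (11, 3), (297, 31), (241, 47), (146, 38), (49, 39), (100, 5), (294, 32), (45, 6), (313, 14), (181, 24), (314, 17), (183, 30), (47, 47), (41, 28), (129, 30), (1, 44), (104, 4), (83, 40), (20, 62), (177, 1), (289, 21), (133, 9), (89, 62), (105, 57), (159, 62), (292, 27), (55, 35)], [(117, 35), (281, 21), (61, 39), (18, 4), (286, 38), (84, 31), (267, 30), (187, 58), (151, 31), (262, 61), (198, 40), (258, 60), (77, 6), (184, 61), (302, 54), (255, 32), (124, 40), (144, 25), (222, 14), (238, 63), (206, 10), (135, 45), (311, 29), (310, 29), (76, 48), (269, 14), (271, 17)]]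

def act9 : List (List (ℕ × ℕ)) :=
  [[(297, 40), (260, 40), (28, 46), (193, 40), (248, 13), (39, 33), (209, 49), (22, 46), (32, 15), (95, 43), (88, 46), (300, 49), (84, 49), (18, 23), (37, 46), (250, 4), (23, 30), (244, 2), (27, 32), (29, 31), (2, 32), (201, 49), (227, 10), (115, 61), (99, 1), (38, 31), (125, 48), (13, 46), (20, 23), (60, 43), (257, 56), (180, 0)], [(105, 61), (64, 39), (11, 31), (283, 32), (154, 61), (159, 0), (277, 32), (174, 13), (179, 30), (130, 60), (45, 1), (63, 13), (116, 19), (173, 49), (86, 47), (272, 47), (96, 2), (305, 30), (21, 31), (200, 1), (104, 43), (187, 1), (284, 58), (167, 1), (153, 15), (268, 17), (100, 8), (110, 39), (19, 20), (107, 39), (172, 42), (157, 32)], [(85, 23), (155, 8), (156, 13), (122, 48), (282, 13), (231, 8), (72, 19), (287, 13), (214, 47), (217, 15), (35, 59), (137, 6), (236, 15), (4, 46), (273, 8), (307, 55), (94, 2), (298, 22), (141, 47), (81, 60), (163,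 5), (33, 2), (114, 30), (219, 55), (121, 0), (247, 49), (275, 6), (102, 42), (302, 51), (62, 13), (112, 30), (266, 17)], [(128, 1), (111, 13), (229, 54), (211, 11), (220, 5), (133, 17), (136, 2), (251, 12), (139, 17), (8, 46), (31, 20), (144, 53), (177, 63), (49, 43), (134, 23), (230, 32), (80, 46), (178, 39), (46, 19), (16, 36), (235, 47), (278, 15), (310, 0), (176, 49), (90, 27), (10, 46), (216, 11), (166, 32), (0, 22), (304, 22), (192, 21), (47, 60)], [(48, 6), (239, 47), (142, 8), (40, 2), (117, 48), (145, 2), (59, 2), (306, 37), (91, 27), (245, 31), (210, 47), (52, 39), (68, 6), (312, 2), (41, 30), (51, 15), (61, 1), (101, 8), (138, 1), (1, 10), (161, 42), (184, 29), (164, 42), (269, 40), (303, 35), (279, 46), (160, 13), (249, 8), (203, 9), (43, 57), (280, 15), (14, 46)], [(36, 43), (237, 44), (240, 50), (12, 43), (165, 29), (150, 20), (263, 2), (233, 8), (54, 36), (71, 35), (119, 39), (53, 20), (93, 39),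 (42, 39), (5, 52), (17, 43), (170, 12), (295, 36), (186, 40), (131, 46), (106, 13), (311, 1), (151, 29), (259, 48), (258, 50), (309, 60), (113, 58), (171, 8), (262, 40), (212, 8), (30, 9), (188, 19)], [(290, 20), (215, 22), (57, 57), (213, 22), (98, 59), (241, 8), (197, 19), (6, 39), (143, 32), (50, 2), (314, 44), (66, 2), (313, 7), (243, 17), (204, 44), (285, 50), (183, 2), (199, 12), (146, 58), (24, 6), (274, 3), (218, 32), (70, 30), (3, 17), (67, 30), (238, 36), (195, 1), (234, 8), (58, 58), (129, 54), (271, 23), (222, 12)], [(181, 7), (135, 40), (294, 46), (7, 51), (207, 17), (196, 56), (97, 57), (265, 9), (118, 33), (55, 20), (87, 43), (44, 30), (288, 53), (148, 6), (73, 2), (221, 6), (254, 10), (198, 2), (15, 11), (261, 56), (175, 35), (75, 39), (92, 12), (293, 7), (77, 4), (65, 39), (242, 12), (256, 58), (267, 45), (255, 19), (162, 44), (296, 50)], [(103, 47), (190, 46), (149, 55), (208, 32), (147, 38),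 (205, 36), (191, 42), (123, 48), (78, 19), (69, 6), (9, 39), (286, 23), (194, 33), (182, 61), (299, 34), (223, 31), (127, 2), (264, 2), (189, 11), (120, 30), (79, 40), (25, 33), (132, 31), (56, 58), (291, 20), (202, 40), (140, 17), (74, 32), (168, 30), (228, 30), (252, 36), (169, 54)], [(76, 30), (185, 43), (126, 24), (158, 39), (270, 35), (89, 49), (301, 45), (108, 9), (253, 32), (124, 48), (83, 42), (292, 61), (34, 2), (226, 31), (246, 40), (308, 23), (26, 40), (109, 51), (225, 59), (276, 21), (152, 43), (289, 46), (232, 36), (224, 12), (82, 60), (206, 14), (281, 42)]]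

def act10 : List (List (ℕ × ℕ)) :=
  [[(127, 31), (191, 31), (293, 44), (136, 16), (169, 4), (19, 33), (74, 5), (229, 52), (53, 33), (9, 1), (55, 33), (196, 5), (38, 1), (140, 11), (31, 33), (194, 3), (33, 33), (29, 1), (21, 0), (5, 36), (30, 1), (18, 0), (85, 11), (249, 2), (234, 8), (113, 0), (237, 32), (93, 33), (233, 13), (17, 1), (20, 1), (14, 36)], [(107, 2), (16, 36), (108, 8), (105, 35), (173, 4), (160, 8), (12, 1), (211, 11), (43, 0), (264, 19), (305, 34), (40, 0), (70, 19), (101, 8), (164, 32), (195, 19), (163, 17), (54, 1), (162, 13), (51, 60), (247, 2), (8, 36), (49, 1), (10, 36), (59, 0), (115, 35), (60, 8), (56, 0), (58, 35), (156, 13), (110, 42), (155, 54)], [(111, 15), (98, 8), (69, 0), (67, 48), (287, 8), (66, 0), (44, 19), (153, 15), (215, 61), (138, 19), (6, 9), (190, 15), (274, 26), (192, 15), (188, 19), (82, 0), (245, 55), (189, 19), (79, 0), (102, 32), (144, 6), (22, 2), (142, 44), (220,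 56), (139, 6), (112, 30), (147, 60), (116, 54), (269, 51), (27, 36), (97, 0), (154, 20)], [(171, 8), (94, 0), (65, 35), (231, 13), (261, 56), (45, 35), (83, 30), (168, 8), (250, 42), (35, 8), (109, 0), (32, 11), (34, 35), (106, 0), (62, 15), (64, 42), (89, 32), (25, 0), (114, 19), (57, 8), (91, 54), (148, 1), (271, 55), (145, 1), (218, 27), (179, 22), (129, 19), (125, 0), (130, 19), (123, 0), (126, 21), (0, 61)], [(207, 11), (122, 19), (124, 19), (268, 12), (166, 32), (256, 29), (254, 54), (255, 61), (3, 22), (227, 33), (73, 19), (88, 6), (13, 2), (304, 56), (86, 44), (288, 17), (84, 6), (119, 1), (312, 38), (90, 60), (117, 1), (149, 21), (262, 30), (270, 61), (281, 21), (71, 42), (95, 13), (63, 54), (61, 20), (295, 55), (243, 8), (176, 49)], [(37, 35), (161, 44), (50, 20), (48, 17), (46, 30), (297, 47), (132, 30), (177, 22), (103, 35), (4, 4), (266, 61), (96, 35), (248, 31), (36, 4), (178, 42), (228, 54), (159,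 53), (167, 16), (174, 15), (121, 16), (251, 12), (258, 20), (223, 46), (298, 61), (204, 31), (206, 55), (203, 29), (280, 10), (78, 19), (81, 19), (75, 42), (1, 61)], [(77, 42), (241, 47), (15, 3), (47, 19), (11, 9), (236, 40), (208, 8), (291, 55), (259, 19), (201, 12), (222, 31), (186, 29), (184, 61), (285, 50), (185, 23), (128, 2), (198, 35), (219, 6), (216, 44), (39, 2), (214, 44), (273, 27), (212, 44), (72, 31), (210, 44), (263, 16), (120, 38), (209, 6), (87, 57), (307, 22), (202, 61), (182, 46)], [(226, 0), (246, 21), (224, 0), (137, 36), (175, 54), (7, 52), (242, 29), (99, 20), (253, 21), (28, 20), (24, 35), (235, 29), (197, 40), (26, 30), (239, 0), (238, 0), (282, 31), (193, 47), (230, 29), (158, 35), (277, 34), (80, 23), (225, 21), (52, 11), (172, 61), (23, 11), (104, 15), (180, 12), (292, 27), (232, 21), (134, 54), (135, 31)], [(133, 29), (300, 29), (181, 13), (200, 19), (272, 8), (100, 57), (150, 32),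 (217, 22), (41, 19), (283, 50), (170, 31), (302, 29), (131, 12), (92, 51), (151, 31), (118, 23), (260, 35), (213, 38), (76, 28), (275, 17), (278, 0), (244, 25), (276, 0), (290, 40), (187, 24), (152, 21), (240, 61), (265, 50), (284, 12), (205, 50), (286, 19), (68, 35)], [(143, 17), (289, 60), (279, 40), (199, 23), (252, 38), (2, 44), (294, 12), (157, 23), (299, 21), (165, 47), (183, 31), (296, 21), (257, 29), (313, 14), (267, 29), (310, 41), (141, 57), (42, 25), (314, 4), (221, 16), (308, 48), (311, 1), (303, 41), (309, 1), (146, 27), (301, 14), (306, 4)]]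

def act11 : List (List (ℕ × ℕ)) :=
  [[(136, 40), (238, 36), (37, 46), (221, 50), (39, 33), (248, 13), (154, 61), (32, 15), (22, 46), (104, 43), (19, 46), (84, 49), (300, 49), (137, 6), (28, 46), (219, 55), (31, 46), (27, 32), (244, 2), (251, 12), (201, 49), (2, 32), (176, 49), (192, 5), (38, 31), (99, 1), (91, 27), (53, 46), (178, 49), (257, 56), (60, 43), (280, 15)], [(57, 43), (11, 31), (64, 39), (5, 52), (209, 49), (21, 23), (305, 22), (179, 30), (174, 13), (215, 22), (63, 13), (45, 1), (197, 19), (80, 6), (272, 47), (86, 47), (36, 39), (277, 42), (159, 1), (129, 54), (95, 43), (17, 23), (98, 43), (153, 15), (167, 1), (7, 4), (110, 39), (100, 8), (88, 20), (134, 6), (157, 32), (172, 42)], [(254, 40), (156, 13), (155, 8), (164, 47), (231, 8), (282, 13), (147, 38), (285, 62), (217, 15), (214, 47), (77, 24), (18, 23), (123, 48), (131, 6), (307, 55), (273, 8), (43, 2), (141, 47), (298, 22), (82, 48), (33, 2),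 (163, 5), (146, 15), (250, 4), (30, 31), (205, 6), (102, 42), (275, 6), (204, 40), (112, 30), (62, 13), (140, 17)], [(111, 13), (128, 1), (169, 54), (295, 47), (133, 17), (220, 5), (297, 2), (29, 31), (265, 17), (170, 39), (23, 36), (58, 53), (49, 43), (177, 63), (107, 12), (160, 54), (173, 28), (20, 31), (259, 19), (291, 49), (278, 15), (235, 47), (270, 41), (227, 10), (124, 48), (256, 47), (166, 32), (216, 11), (304, 22), (0, 22), (115, 42), (138, 48)], [(199, 6), (142, 8), (239, 47), (74, 33), (195, 60), (59, 2), (145, 2), (301, 44), (125, 48), (171, 17), (208, 47), (68, 6), (52, 39), (312, 35), (51, 15), (41, 30), (101, 8), (61, 1), (47, 27), (161, 42), (1, 10), (118, 7), (122, 54), (303, 35), (269, 40), (234, 59), (230, 62), (203, 9), (249, 8), (94, 57), (180, 0), (186, 47)], [(96, 35), (70, 47), (12, 43), (240, 50), (288, 17), (263, 2), (150, 20), (242, 39), (71, 35), (54, 36), (194, 24), (13, 20), (42,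 39), (93, 39), (283, 32), (187, 20), (8, 34), (211, 27), (14, 34), (4, 41), (290, 39), (202, 45), (92, 43), (46, 48), (309, 60), (258, 50), (50, 58), (245, 49), (212, 8), (262, 40), (121, 24), (189, 60)], [(106, 59), (130, 60), (105, 24), (241, 11), (284, 45), (213, 61), (116, 19), (97, 2), (3, 40), (113, 2), (223, 42), (66, 6), (182, 18), (243, 5), (302, 5), (287, 5), (127, 35), (48, 12), (114, 47), (109, 5), (274, 60), (44, 16), (237, 29), (143, 57), (76, 30), (260, 40), (117, 27), (279, 47), (144, 58), (200, 1), (267, 23), (181, 7)], [(222, 12), (294, 46), (135, 40), (268, 36), (196, 56), (207, 17), (6, 37), (139, 9), (184, 36), (87, 43), (55, 20), (218, 15), (165, 36), (73, 2), (148, 6), (193, 2), (85, 45), (132, 47), (56, 53), (89, 35), (75, 39), (175, 35), (151, 36), (293, 1), (35, 25), (65, 53), (233, 15), (10, 38), (271, 45), (255, 33), (34, 58), (296, 41)], [(190, 46), (103, 47), (299, 3), (210, 32),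 (72, 19), (247, 20), (191, 31), (236, 15), (79, 48), (9, 39), (69, 6), (224, 31), (119, 6), (313, 3), (149, 40), (314, 29), (183, 35), (264, 47), (188, 28), (26, 30), (78, 31), (108, 4), (198, 40), (15, 62), (16, 61), (311, 36), (266, 17), (40, 57), (228, 30), (168, 30), (281, 27), (229, 54)], [(67, 30), (292, 21), (158, 39), (126, 24), (310, 27), (261, 8), (306, 39), (25, 58), (253, 24), (90, 27), (83, 40), (185, 26), (162, 5), (226, 42), (308, 23), (246, 40), (120, 40), (24, 44), (225, 14), (276, 1), (206, 20), (232, 36), (289, 46), (286, 7), (81, 48), (152, 13), (252, 13)]]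

def act12 : List (List (ℕ × ℕ)) :=
  [[(22, 3), (40, 5), (111, 22), (3, 1), (19, 49), (314, 1), (212, 2), (308, 31), (175, 22), (86, 4), (114, 4), (126, 63), (49, 54), (268, 28), (250, 7), (15, 48), (116, 37), (213, 31), (29, 54), (4, 53), (20, 60), (273, 26), (0, 3), (38, 19), (204, 43), (125, 8), (238, 13), (150, 10), (130, 61), (18, 54), (235, 4), (240, 7)], [(220, 14), (267, 33), (148, 13), (221, 1), (36, 48), (118, 10), (23, 19), (80, 15), (1, 9), (179, 49), (263, 55), (244, 33), (66, 23), (100, 18), (199, 25), (281, 49), (252, 48), (12, 54), (200, 51), (176, 8), (216, 52), (313, 57), (249, 18), (55, 17), (298, 5), (193, 1), (183, 51), (60, 55), (59, 23), (62, 26), (61, 28), (289, 49)], [(99, 57), (132, 41), (44, 55), (94, 23), (208, 43), (165, 33), (297, 1), (71, 21), (163, 1), (271, 6), (172, 55), (246, 4), (245, 13), (227, 28), (78, 54), (255, 17), (39, 42), (135, 8), (189, 38), (84, 56), (83, 57),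 (300, 48), (9, 4), (141, 16), (223, 37), (89, 21), (109, 1), (302, 11), (233, 44), (171, 51), (67, 55), (243, 27)], [(262, 12), (97, 44), (260, 0), (64, 56), (45, 45), (232, 56), (133, 61), (286, 52), (282, 1), (174, 26), (309, 62), (304, 56), (303, 6), (90, 1), (299, 14), (2, 16), (149, 48), (185, 20), (10, 4), (180, 21), (16, 58), (310, 59), (37, 24), (134, 28), (287, 1), (187, 21), (234, 0), (206, 6), (269, 8), (25, 35), (11, 63), (257, 49)], [(219, 29), (184, 9), (28, 31), (224, 27), (65, 41), (102, 31), (119, 26), (81, 35), (284, 8), (278, 8), (160, 38), (266, 48), (226, 29), (87, 22), (142, 54), (247, 5), (256, 45), (146, 61), (145, 31), (311, 39), (34, 20), (112, 48), (27, 24), (164, 35), (279, 48), (201, 0), (167, 29), (155, 60), (296, 37), (217, 49), (177, 4), (159, 29)], [(138, 27), (173, 54), (202, 8), (72, 1), (151, 8), (69, 36), (272, 9), (154, 29), (168, 19), (306, 36), (182, 41), (93, 51), (74,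 23), (161, 54), (105, 28), (8, 16), (51, 35), (158, 4), (307, 49), (41, 53), (115, 21), (230, 41), (170, 41), (58, 51), (129, 5), (113, 13), (209, 27), (121, 21), (294, 62), (82, 27), (283, 41), (277, 24)], [(276, 47), (57, 1), (275, 45), (290, 37), (196, 12), (258, 11), (218, 0), (46, 34), (50, 51), (153, 0), (162, 35), (207, 48), (24, 43), (239, 55), (123, 6), (203, 48), (68, 43), (186, 38), (288, 5), (274, 28), (6, 11), (17, 61), (248, 55), (292, 20), (52, 52), (157, 53), (198, 0), (128, 29), (32, 14), (35, 1), (259, 44), (88, 58)], [(131, 38), (265, 43), (140, 29), (77, 26), (301, 8), (229, 19), (181, 41), (293, 52), (101, 57), (92, 44), (122, 0), (30, 4), (242, 27), (285, 54), (26, 20), (205, 23), (31, 7), (251, 33), (236, 38), (95, 38), (43, 36), (76, 20), (75, 4), (143, 9), (214, 23), (54, 45), (14, 7), (241, 36), (48, 48), (261, 60), (312, 39), (79, 17)], [(144, 18), (127, 53), (197, 2), (222, 44), (98,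 0), (253, 60), (96, 12), (42, 23), (280, 9), (225, 43), (139, 48), (33, 36), (13, 26), (124, 35), (291, 44), (73, 6), (166, 5), (21, 28), (211, 26), (194, 18), (192, 47), (191, 10), (137, 35), (152, 48), (264, 5), (47, 53), (104, 1), (190, 41), (136, 35), (237, 54), (103, 52), (120, 1)], [(210, 9), (63, 53), (195, 58), (270, 44), (215, 13), (231, 52), (188, 62), (305, 4), (156, 58), (70, 1), (56, 9), (110, 14), (85, 48), (228, 35), (91, 2), (108, 6), (107, 57), (295, 4), (169, 33), (178, 53), (7, 61), (106, 62), (117, 59), (147, 39), (254, 39), (53, 56), (5, 1)]]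

def act13 : List (List (ℕ × ℕ)) :=
  [[(22, 55), (39, 55), (199, 11), (68, 55), (268, 11), (265, 11), (191, 60), (266, 6), (131, 11), (153, 59), (300, 11), (198, 48), (260, 60), (105, 6), (279, 37), (127, 54), (201, 11), (280, 56), (227, 59), (75, 53), (193, 60), (276, 40), (55, 42), (238, 11), (106, 5), (34, 6), (165, 0), (277, 36), (267, 15), (179, 63), (180, 20), (47, 47)], [(145, 35), (71, 53), (209, 61), (192, 1), (263, 48), (309, 33), (132, 48), (93, 42), (96, 42), (283, 27), (97, 6), (27, 28), (185, 50), (110, 55), (237, 0), (3, 56), (117, 16), (297, 54), (302, 15), (30, 3), (128, 20), (140, 50), (66, 20), (0, 33), (312, 30), (168, 31), (84, 61), (119, 53), (133, 1), (45, 53), (101, 63), (89, 16)], [(123, 42), (303, 50), (311, 7), (173, 40), (33, 42), (109, 57), (125, 16), (31, 42), (242, 19), (291, 36), (43, 4), (178, 55), (244, 0), (8, 28), (294, 23), (255, 41), (248, 50), (79, 30), (189, 47), (102,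 0), (298, 0), (114, 42), (282, 4), (83, 38), (159, 47), (289, 33), (38, 3), (196, 0), (259, 16), (40, 62), (305, 27), (184, 0)], [(274, 3), (217, 33), (148, 24), (138, 47), (62, 31), (156, 50), (144, 52), (139, 61), (222, 19), (137, 61), (203, 1), (254, 50), (207, 46), (219, 16), (261, 45), (113, 32), (155, 4), (310, 36), (194, 27), (286, 33), (126, 38), (249, 51), (206, 0), (58, 42), (200, 50), (53, 42), (46, 31), (197, 31), (290, 19), (230, 27), (136, 63), (257, 15)], [(64, 55), (270, 44), (281, 8), (21, 30), (292, 8), (87, 47), (32, 58), (82, 3), (218, 20), (169, 40), (164, 0), (51, 24), (307, 21), (183, 28), (14, 54), (243, 52), (60, 44), (56, 47), (134, 50), (54, 9), (12, 3), (112, 28), (74, 0), (166, 36), (120, 16), (104, 52), (234, 30), (149, 38), (253, 0), (36, 49), (236, 49), (241, 17)], [(90, 23), (94, 63), (16, 39), (108, 31), (239, 45), (37, 37), (163, 34), (48, 61), (182, 54), (226, 33), (20, 3),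 (80, 1), (245, 7), (295, 41), (121, 32), (190, 1), (115, 7), (215, 51), (264, 40), (228, 4), (308, 33), (70, 37), (57, 2), (220, 0), (271, 12), (252, 41), (49, 30), (19, 42), (78, 31), (81, 31), (35, 52), (76, 31)], [(301, 21), (170, 19), (85, 29), (284, 27), (287, 25), (205, 23), (269, 9), (210, 21), (152, 8), (11, 15), (233, 36), (23, 47), (160, 39), (52, 58), (72, 39), (293, 43), (28, 11), (95, 24), (111, 28), (262, 0), (150, 22), (174, 61), (171, 52), (258, 58), (231, 4), (42, 55), (202, 17), (177, 33), (256, 1), (18, 9), (124, 32), (251, 0)], [(77, 12), (41, 16), (278, 44), (5, 54), (225, 38), (223, 38), (143, 51), (118, 0), (100, 52), (116, 31), (147, 23), (176, 25), (26, 3), (44, 57), (272, 41), (65, 37), (130, 10), (88, 52), (216, 20), (181, 1), (172, 20), (6, 3), (187, 12), (186, 41), (211, 48), (285, 60), (50, 12), (229, 49), (122, 37), (232, 41), (141, 7), (135, 0)], [(107, 25), (15, 30), (69, 55),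 (195, 32), (129, 31), (296, 7), (214, 5), (157, 54), (246, 8), (273, 21), (235, 34), (240, 29), (17, 15), (162, 43), (98, 36), (25, 16), (24, 22), (221, 45), (1, 24), (10, 54), (224, 62), (212, 42), (13, 55), (142, 1), (306, 28), (208, 27), (92, 38), (29, 14), (86, 23), (288, 51), (7, 8), (91, 32)], [(167, 46), (63, 7), (9, 3), (247, 20), (204, 46), (151, 4), (188, 37), (161, 25), (299, 63), (73, 32), (304, 46), (61, 44), (275, 1), (314, 46), (250, 36), (99, 3), (59, 21), (67, 0), (313, 20), (213, 57), (103, 61), (158, 40), (2, 8), (154, 10), (146, 31), (4, 36), (175, 13)]]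

def act14 : List (List (ℕ × ℕ)) :=
  [[(182, 60), (29, 52), (42, 39), (131, 54), (309, 54), (1, 1), (30, 8), (59, 2), (71, 3), (52, 13), (171, 53), (100, 9), (221, 10), (139, 40), (22, 5), (288, 46), (106, 59), (232, 36), (148, 10), (207, 55), (91, 15), (63, 22), (152, 61), (13, 11), (56, 32), (21, 19), (51, 33), (146, 58), (225, 50), (186, 36), (61, 49), (39, 56)], [(153, 36), (34, 42), (247, 24), (41, 33), (311, 24), (191, 22), (299, 34), (85, 61), (12, 19), (93, 30), (237, 53), (141, 26), (154, 50), (307, 2), (249, 61), (190, 28), (97, 44), (283, 30), (20, 38), (293, 32), (109, 22), (102, 25), (112, 36), (302, 40), (173, 18), (120, 46), (76, 42), (216, 4), (219, 40), (116, 5), (203, 21), (175, 26)], [(134, 20), (312, 50), (36, 19), (104, 46), (96, 11), (87, 27), (114, 43), (230, 44), (258, 9), (40, 21), (86, 49), (126, 44), (60, 7), (300, 4), (291, 19), (162, 18), (301, 49), (69, 33), (290, 33), (17, 17),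 (26, 44), (211, 56), (82, 27), (176, 7), (46, 37), (265, 24), (255, 61), (50, 21), (165, 33), (209, 22), (220, 25), (77, 50)], [(10, 35), (210, 26), (274, 42), (150, 56), (266, 1), (158, 29), (172, 33), (74, 34), (244, 24), (201, 4), (108, 26), (246, 2), (9, 15), (16, 53), (278, 5), (251, 32), (122, 0), (15, 54), (95, 12), (277, 38), (79, 31), (113, 21), (202, 49), (212, 24), (250, 18), (298, 42), (54, 57), (119, 21), (145, 46), (3, 3), (213, 12), (263, 20)], [(242, 25), (275, 28), (270, 56), (243, 51), (204, 27), (282, 24), (180, 41), (163, 27), (72, 8), (99, 29), (239, 60), (140, 49), (164, 13), (151, 44), (279, 48), (188, 17), (305, 54), (38, 38), (105, 40), (66, 46), (78, 61), (241, 48), (132, 15), (45, 36), (14, 24), (160, 0), (257, 52), (117, 31), (103, 29), (185, 20), (304, 28), (147, 59)], [(226, 38), (11, 42), (6, 30), (178, 33), (235, 39), (166, 35), (245, 47), (157, 34), (142, 34), (94, 29), (200,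 51), (267, 19), (128, 7), (174, 48), (90, 13), (143, 14), (4, 16), (187, 45), (7, 32), (240, 56), (254, 26), (125, 13), (193, 26), (118, 45), (227, 45), (167, 51), (28, 31), (295, 18), (25, 36), (205, 15), (273, 38), (107, 35)], [(70, 44), (0, 9), (18, 40), (197, 10), (170, 2), (75, 12), (256, 22), (155, 18), (196, 7), (65, 32), (272, 6), (37, 61), (269, 47), (169, 42), (308, 47), (233, 38), (271, 6), (98, 56), (285, 6), (281, 56), (238, 2), (236, 32), (181, 48), (43, 26), (135, 15), (127, 53), (67, 12), (284, 57), (303, 38), (130, 51), (121, 21), (149, 18)], [(8, 24), (5, 42), (110, 8), (262, 59), (194, 31), (310, 11), (276, 9), (313, 62), (19, 23), (83, 44), (159, 17), (23, 16), (195, 48), (2, 5), (268, 56), (124, 1), (314, 37), (217, 26), (253, 28), (214, 14), (115, 46), (231, 38), (62, 1), (33, 61), (224, 39), (88, 60), (57, 37), (252, 32), (111, 48), (53, 61), (292, 63), (24, 54)], [(306, 26), (44, 17),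 (101, 57), (161, 28), (208, 38), (259, 1), (184, 25), (223, 4), (58, 55), (129, 29), (261, 14), (294, 17), (296, 36), (137, 53), (73, 62), (179, 5), (133, 56), (47, 53), (35, 2), (49, 24), (248, 40), (218, 2), (32, 4), (168, 55), (206, 11), (289, 56), (183, 55), (89, 29), (264, 45), (229, 48), (64, 13), (55, 44)], [(199, 62), (31, 31), (156, 43), (228, 1), (286, 25), (144, 43), (68, 27), (280, 9), (123, 57), (80, 28), (198, 7), (138, 5), (192, 7), (297, 27), (287, 43), (189, 62), (136, 14), (84, 2), (222, 15), (215, 37), (177, 34), (81, 28), (48, 13), (234, 47), (27, 42), (92, 46), (260, 57)]]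

def act15 : List (List (ℕ × ℕ)) :=
  [[(127, 3), (195, 5), (177, 12), (27, 1), (111, 49), (123, 15), (142, 22), (81, 6), (19, 8), (3, 4), (294, 4), (100, 47), (219, 54), (252, 1), (31, 13), (89, 48), (269, 36), (238, 61), (154, 54), (32, 53), (115, 60), (288, 61), (10, 3), (187, 19), (169, 31), (21, 2), (84, 29), (222, 15), (245, 0), (105, 54), (82, 17), (39, 47)], [(29, 35), (124, 24), (258, 14), (151, 29), (180, 48), (131, 45), (128, 19), (152, 0), (16, 9), (165, 29), (173, 1), (253, 29), (148, 42), (274, 42), (309, 51), (233, 29), (24, 16), (77, 54), (290, 21), (97, 57), (166, 61), (215, 25), (49, 20), (85, 0), (310, 8), (30, 14), (184, 40), (249, 55), (8, 49), (250, 26), (93, 63), (188, 29)], [(144, 24), (133, 50), (205, 55), (168, 40), (96, 59), (178, 29), (192, 29), (76, 36), (260, 37), (53, 40), (196, 13), (106, 31), (202, 34), (44, 12), (257, 0), (170, 26), (191, 42), (88, 15), (57, 44), (273, 38),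 (234, 36), (289, 47), (61, 4), (210, 55), (7, 62), (114, 43), (59, 59), (259, 21), (214, 0), (172, 40), (255, 55), (283, 36)], [(302, 21), (139, 29), (137, 36), (209, 44), (120, 4), (33, 50), (270, 35), (79, 23), (244, 21), (60, 12), (73, 43), (297, 16), (197, 46), (271, 20), (47, 4), (23, 16), (63, 14), (291, 27), (15, 11), (67, 12), (74, 42), (129, 29), (183, 24), (225, 21), (86, 34), (312, 21), (143, 0), (37, 40), (110, 52), (138, 35), (71, 63), (149, 2)], [(41, 33), (265, 44), (150, 31), (108, 25), (221, 26), (34, 22), (46, 51), (251, 34), (299, 12), (109, 36), (304, 60), (308, 58), (48, 27), (227, 57), (218, 18), (18, 33), (185, 0), (247, 21), (125, 32), (164, 4), (175, 20), (0, 48), (126, 58), (160, 36), (267, 62), (232, 32), (95, 12), (300, 31), (91, 43), (94, 3), (207, 0), (305, 40)], [(179, 0), (20, 63), (156, 36), (87, 14), (140, 31), (236, 23), (35, 41), (293, 32), (266, 35), (147, 21), (103, 59),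 (14, 59), (62, 7), (189, 8), (2, 5), (54, 16), (135, 56), (13, 33), (311, 35), (52, 33), (51, 43), (313, 7), (223, 41), (243, 51), (242, 16), (90, 51), (278, 0), (237, 4), (112, 17), (42, 16), (226, 31), (296, 33)], [(199, 3), (241, 1), (78, 29), (92, 37), (104, 61), (5, 11), (284, 61), (25, 22), (116, 18), (1, 0), (130, 63), (102, 43), (132, 43), (56, 28), (280, 52), (224, 2), (136, 7), (246, 35), (26, 51), (287, 27), (45, 11), (99, 61), (282, 3), (230, 49), (174, 14), (182, 56), (277, 28), (146, 12), (167, 14), (158, 59), (28, 40), (263, 2)], [(204, 62), (306, 32), (141, 17), (264, 26), (117, 36), (295, 20), (75, 63), (186, 30), (208, 53), (101, 36), (163, 57), (159, 4), (314, 55), (303, 35), (98, 41), (181, 54), (153, 57), (217, 15), (145, 14), (203, 28), (200, 36), (9, 24), (72, 45), (272, 39), (198, 33), (64, 32), (11, 12), (176, 7), (216, 48), (262, 3), (66, 10), (157, 32)], [(276, 54), (194, 62), (107,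 59), (261, 34), (213, 33), (279, 60), (43, 15), (193, 24), (298, 3), (113, 4), (161, 48), (171, 36), (83, 26), (248, 11), (118, 59), (17, 16), (58, 21), (121, 28), (212, 24), (155, 34), (307, 18), (50, 0), (239, 28), (162, 34), (285, 24), (211, 53), (201, 55), (122, 29), (40, 3), (69, 44), (229, 4), (68, 16)], [(70, 51), (55, 7), (6, 42), (228, 45), (254, 59), (134, 49), (22, 45), (235, 48), (80, 49), (65, 32), (190, 46), (240, 20), (275, 48), (268, 27), (281, 2), (4, 18), (12, 29), (286, 63), (256, 22), (119, 10), (36, 55), (220, 4), (292, 44), (206, 32), (301, 49), (231, 56), (38, 1)]]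

def steps0 : List Step :=
  [.rule 4 [(0, 1), (182, 1), (193, 1)] [[], []] [(0, 1), (182, 1), (193, 1)],
   .rule 3 [(20, 1), (57, 1), (168, 1), (170, 1), (182, 1), (193, 1)] [[], [], []] [(20, 1), (57, 1), (168, 1), (170, 1), (182, 1), (193, 1)],
   .tr 0 1 [(36, 1), (101, 1), (155, 1), (245, 1), (232, 1), (76, 1)],
   .tr 0 2 [(15, 1), (153, 1), (229, 1), (201, 1), (269, 1), (124, 1)],
   .tr 1 3 [(28, 1), (3, 1), (284, 1), (269, 1), (176, 1), (194, 1)],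
   .tr 0 4 [(50, 1), (0, 1), (279, 1), (182, 1), (250, 1), (196, 1)],
   .rule 5 [(182, 1), (193, 1), (217, 1), (223, 1), (241, 1), (263, 1)] [[], []] [(182, 1), (193, 1), (217, 1), (223, 1), (241, 1), (263, 1)],
   .tr 1 6 [(167, 1), (54, 1), (154, 1), (14, 1), (250, 1), (249, 1)],
   .tr 0 7 [(58, 1), (17, 1), (53, 1), (27, 1), (110, 1), (107, 1)],
   .tr 0 8 [(103, 1), (30, 1), (94, 1), (7, 1), (176, 1), (173, 1)],
   .tr 1 9 [(168, 1), (55, 1), (155, 1), (15, 1), (159, 1), (36, 1)],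
   .tr 1 10 [(242, 1), (98, 1), (230, 1), (28, 1), (233, 1), (65, 1)],
   .tr 0 11 [(199, 1), (48, 1), (285, 1), (50, 1), (287, 1), (113, 1)],
   .tr 1 12 [(267, 1), (86, 1), (309, 1), (90, 1), (143, 1), (148, 1)],
   .tr 1 13 [(193, 1), (0, 1), (127, 1), (149, 1), (217, 1), (223, 1)],
   .rule 3 [(36, 1), (42, 1), (88, 1), (97, 1), (157, 1), (159, 1), (217, 1), (223, 1), (229, 1), (241, 1), (251, 1), (263, 1)] [[], [], []] [(36, 1), (42, 1), (88, 1), (97, 1), (157, 1), (159, 1), (217, 1), (223, 1), (229, 1), (241, 1), (251, 1), (263, 1)],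
   .tr 0 15 [(15, 1), (75, 1), (145, 1), (159, 1), (133, 1), (55, 1), (278, 1), (246, 1), (168, 1), (102, 1), (137, 1), (146, 1)],
   .tr 1 16 [(28, 1), (125, 1), (195, 1), (233, 1), (204, 1), (98, 1), (175, 1), (171, 1), (242, 1), (61, 1), (208, 1), (220, 1)],
   .tr 1 17 [(51, 1), (38, 1), (12, 1), (275, 1), (243, 1), (161, 1), (34, 1), (247, 1), (289, 1), (108, 1), (158, 1), (52, 1)],
   .tr 0 18 [(91, 1), (11, 1), (23, 1), (142, 1), (104, 1), (210, 1), (61, 1), (220, 1), (311, 1), (174, 1), (64, 1), (74, 1)],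
   .tr 1 19 [(151, 1), (22, 1), (42, 1), (215, 1), (170, 1), (123, 1), (108, 1), (52, 1), (238, 1), (106, 1), (112, 1), (109, 1)],
   .tr 1 20 [(211, 1), (41, 1), (76, 1), (277, 1), (246, 1), (192, 1), (8, 1), (93, 1), (140, 1), (172, 1), (1, 1), (105, 1)],
   .tr 0 21 [(84, 1), (73, 1), (124, 1), (265, 1), (258, 1), (261, 1), (16, 1), (108, 1), (211, 1), (247, 1), (3, 1), (33, 1)],
   .tr 0 22 [(140, 1), (127, 1), (193, 1), (254, 1), (223, 1), (280, 1), (4, 1), (174, 1), (84, 1), (220, 1), (0, 1), (59, 1)],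
   .tr 0 17 [(50, 1), (195, 1), (72, 1), (287, 1), (202, 1), (48, 1), (62, 1), (60, 1), (199, 1), (19, 1), (165, 1), (172, 1)],
   .tr 1 24 [(90, 1), (12, 1), (126, 1), (143, 1), (231, 1), (86, 1), (110, 1), (107, 1), (267, 1), (35, 1), (240, 1), (248, 1)],
   .tr 1 25 [(149, 1), (24, 1), (163, 1), (217, 1), (205, 1), (0, 1), (177, 1), (23, 1), (193, 1), (64, 1), (69, 1), (293, 1)],
   .rule 5 [(20, 1), (30, 1), (57, 1), (67, 1), (79, 1), (82, 1), (103, 1), (115, 1), (161, 1), (168, 1), (170, 1), (266, 1)] [[], []] [(20, 1), (30, 1), (57, 1), (67, 1), (79, 1), (82, 1), (103, 1), (115, 1), (161, 1), (168, 1), (170, 1), (266, 1)],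
   .tr 1 27 [(37, 1), (55, 1), (102, 1), (118, 1), (133, 1), (75, 1), (168, 1), (91, 1), (236, 1), (242, 1), (246, 1), (302, 1)],
   .tr 0 28 [(66, 1), (97, 1), (166, 1), (185, 1), (203, 1), (128, 1), (155, 1), (150, 1), (122, 1), (199, 1), (258, 1), (299, 1)],
   .tr 0 29 [(115, 1), (159, 1), (241, 1), (255, 1), (157, 1), (42, 1), (229, 1), (51, 1), (189, 1), (266, 1), (223, 1), (308, 1)],
   .tr 1 30 [(91, 1), (233, 1), (250, 1), (245, 1), (232, 1), (76, 1), (284, 1), (92, 1), (101, 1), (302, 1), (14, 1), (136, 1)]]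

def steps1 : List Step :=
  [.tr 0 31 [(150, 1), (287, 1), (110, 1), (201, 1), (269, 1), (124, 1), (279, 1), (152, 1), (153, 1), (299, 1), (27, 1), (120, 1)],
   .tr 1 32 [(225, 1), (143, 1), (177, 1), (269, 1), (176, 1), (194, 1), (303, 1), (227, 1), (3, 1), (83, 1), (49, 1), (119, 1)],
   .tr 0 33 [(206, 1), (216, 1), (178, 1), (182, 1), (250, 1), (196, 1), (309, 1), (144, 1), (0, 1), (26, 1), (87, 1), (187, 1)],
   .tr 0 27 [(36, 1), (54, 1), (101, 1), (117, 1), (132, 1), (138, 1), (167, 1), (37, 1), (210, 1), (155, 1), (245, 1), (242, 1)],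
   .tr 0 35 [(15, 1), (17, 1), (153, 1), (183, 1), (44, 1), (46, 1), (58, 1), (66, 1), (213, 1), (229, 1), (201, 1), (199, 1)],
   .tr 1 36 [(28, 1), (31, 1), (3, 1), (253, 1), (80, 1), (45, 1), (104, 1), (116, 1), (274, 1), (284, 1), (269, 1), (267, 1)],
   .tr 0 37 [(50, 1), (56, 1), (0, 1), (292, 1), (134, 1), (13, 1), (169, 1), (90, 1), (164, 1), (279, 1), (182, 1), (303, 1)],
   .rule 1 [(92, 1), (151, 1), (152, 1), (182, 1), (204, 1), (206, 1), (246, 1), (253, 1), (255, 1), (269, 1), (296, 1), (302, 1), (303, 1), (308, 1), (313, 1)] [[], []] [(92, 1), (151, 1), (152, 1), (182, 1), (204, 1), (206, 1), (246, 1), (253, 1), (255, 1), (269, 1), (296, 1), (302, 1), (303, 1), (308, 1), (313, 1)],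
   .tr 1 39 [(153, 1), (211, 1), (227, 1), (167, 1), (243, 1), (66, 1), (171, 1), (295, 1), (245, 1), (176, 1), (150, 1), (297, 1), (263, 1), (136, 1), (276, 1)],
   .tr 1 40 [(3, 1), (273, 1), (79, 1), (156, 1), (290, 1), (116, 1), (247, 1), (310, 1), (270, 1), (159, 1), (225, 1), (261, 1), (249, 1), (71, 1), (266, 1)],
   .tr 1 41 [(7, 1), (304, 1), (133, 1), (134, 1), (152, 1), (182, 1), (32, 1), (198, 1), (282, 1), (233, 1), (180, 1), (298, 1), (87, 1), (124, 1), (302, 1)],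
   .tr 0 42 [(14, 1), (235, 1), (203, 1), (205, 1), (135, 1), (232, 1), (9, 1), (264, 1), (293, 1), (287, 1), (65, 1), (307, 1), (126, 1), (193, 1), (299, 1)],
   .tr 1 43 [(21, 1), (138, 1), (271, 1), (252, 1), (145, 1), (59, 1), (19, 1), (300, 1), (257, 1), (143, 1), (114, 1), (314, 1), (163, 1), (54, 1), (83, 1)],
   .tr 0 44 [(38, 1), (46, 1), (149, 1), (294, 1), (219, 1), (105, 1), (34, 1), (230, 1), (131, 1), (216, 1), (147, 1), (289, 1), (190, 1), (17, 1), (26, 1)],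
   .tr 1 45 [(68, 1), (45, 1), (111, 1), (179, 1), (73, 1), (5, 1), (62, 1), (286, 1), (202, 1), (241, 1), (222, 1), (260, 1), (189, 1), (31, 1), (48, 1)],
   .tr 1 46 [(120, 1), (81, 1), (178, 1), (239, 1), (30, 1), (11, 1), (110, 1), (132, 1), (231, 1), (250, 1), (280, 1), (207, 1), (101, 1), (57, 1), (86, 1)],
   .tr 1 47 [(119, 1), (137, 1), (187, 1), (99, 1), (55, 1), (22, 1), (177, 1), (203, 1), (205, 1), (56, 1), (307, 1), (166, 1), (165, 1), (102, 1), (0, 1)],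
   .rule 0 [(267, 1), (286, 1), (289, 1), (296, 1), (299, 1), (301, 1), (302, 1), (303, 1), (306, 1), (308, 1), (309, 1), (310, 1), (311, 1), (313, 1), (314, 1)] [[], []] [(267, 1), (286, 1), (289, 1), (296, 1), (299, 1), (301, 1), (302, 1), (303, 1), (306, 1), (308, 1), (309, 1), (310, 1), (311, 1), (313, 1), (314, 1)],
   .tr 1 49 [(193, 1), (132, 1), (260, 1), (150, 1), (83, 1), (183, 1), (297, 1), (263, 1), (221, 1), (136, 1), (127, 1), (198, 1), (238, 1), (276, 1), (191, 1)],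
   .tr 0 50 [(76, 1), (44, 1), (237, 1), (51, 1), (26, 1), (67, 1), (312, 1), (146, 1), (114, 1), (120, 1), (41, 1), (264, 1), (274, 1), (218, 1), (70, 1)],
   .tr 1 51 [(18, 1), (80, 1), (121, 1), (92, 1), (48, 1), (118, 1), (115, 1), (220, 1), (181, 1), (119, 1), (74, 1), (300, 1), (305, 1), (279, 1), (113, 1)],
   .tr 1 52 [(33, 1), (135, 1), (188, 1), (153, 1), (86, 1), (186, 1), (91, 1), (52, 1), (128, 1), (82, 1), (109, 1), (311, 1), (288, 1), (303, 1), (148, 1)],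
   .tr 1 53 [(60, 1), (145, 1), (40, 1), (3, 1), (0, 1), (258, 1), (151, 1), (93, 1), (197, 1), (75, 1), (105, 1), (238, 1), (47, 1), (263, 1), (223, 1)],
   .rule 0 [(86, 1), (141, 1), (142, 1), (143, 1), (161, 1), (210, 1), (212, 1), (213, 1), (214, 1), (216, 1), (235, 1), (273, 1), (275, 1), (288, 1), (304, 1)] [[], []] [(86, 1), (141, 1), (142, 1), (143, 1), (161, 1), (210, 1), (212, 1), (213, 1), (214, 1), (216, 1), (235, 1), (273, 1), (275, 1), (288, 1), (304, 1)],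
   .tr 1 55 [(0, 1), (213, 1), (215, 1), (217, 1), (236, 1), (123, 1), (214, 1), (274, 1), (264, 1), (241, 1), (138, 1), (304, 1), (130, 1), (47, 1), (312, 1)],
   .tr 0 56 [(1, 1), (161, 1), (276, 1), (278, 1), (122, 1), (191, 1), (275, 1), (164, 1), (129, 1), (102, 1), (46, 1), (235, 1), (200, 1), (83, 1), (259, 1)],
   .tr 1 57 [(4, 1), (236, 1), (266, 1), (175, 1), (190, 1), (89, 1), (130, 1), (234, 1), (199, 1), (61, 1), (45, 1), (138, 1), (268, 1), (139, 1), (50, 1)],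
   .tr 0 58 [(8, 1), (122, 1), (242, 1), (62, 1), (100, 1), (28, 1), (200, 1), (139, 1), (266, 1), (19, 1), (13, 1), (46, 1), (283, 1), (160, 1), (89, 1)],
   .tr 1 59 [(17, 1), (190, 1), (289, 1), (110, 1), (164, 1), (51, 1), (268, 1), (210, 1), (302, 1), (35, 1), (26, 1), (45, 1), (281, 1), (235, 1), (147, 1)],
   .tr 1 60 [(31, 1), (189, 1), (260, 1), (177, 1), (234, 1), (92, 1), (294, 1), (123, 1), (297, 1), (64, 1), (48, 1), (81, 1), (287, 1), (138, 1), (222, 1)],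
   .tr 1 61 [(57, 1), (101, 1), (207, 1), (251, 1), (216, 1), (153, 1), (179, 1), (192, 1), (261, 1), (112, 1), (86, 1), (137, 1), (143, 1), (209, 1), (280, 1)],
   .tr 1 62 [(102, 1), (165, 1), (166, 1), (278, 1), (241, 1), (3, 1), (239, 1), (262, 1), (298, 1), (1, 1), (0, 1), (208, 1), (217, 1), (272, 1), (307, 1)]]

def steps2 : List Step :=
  [.rule 0 [(51, 1), (67, 1), (90, 1), (91, 1), (114, 1), (116, 1), (117, 1), (147, 1), (148, 1), (150, 1), (183, 1), (221, 1), (262, 1), (298, 1), (307, 1)] [[], []] [(51, 1), (67, 1), (90, 1), (91, 1), (114, 1), (116, 1), (117, 1), (147, 1), (148, 1), (150, 1), (183, 1), (221, 1), (262, 1), (298, 1), (307, 1)],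
   .tr 1 64 [(92, 1), (118, 1), (149, 1), (151, 1), (181, 1), (182, 1), (184, 1), (222, 1), (223, 1), (225, 1), (253, 1), (226, 1), (299, 1), (313, 1), (314, 1)],
   .tr 0 65 [(152, 1), (185, 1), (224, 1), (226, 1), (252, 1), (232, 1), (253, 1), (225, 1), (246, 1), (206, 1), (292, 1), (281, 1), (308, 1), (286, 1), (289, 1)],
   .tr 1 66 [(227, 1), (256, 1), (174, 1), (85, 1), (43, 1), (59, 1), (295, 1), (180, 1), (171, 1), (66, 1), (285, 1), (287, 1), (136, 1), (132, 1), (260, 1)],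
   .tr 0 67 [(144, 1), (244, 1), (93, 1), (98, 1), (77, 1), (105, 1), (284, 1), (65, 1), (60, 1), (115, 1), (300, 1), (305, 1), (120, 1), (44, 1), (237, 1)],
   .tr 0 68 [(162, 1), (291, 1), (108, 1), (48, 1), (24, 1), (33, 1), (279, 1), (113, 1), (106, 1), (37, 1), (230, 1), (233, 1), (81, 1), (79, 1), (188, 1)],
   .tr 1 69 [(200, 1), (185, 1), (8, 1), (86, 1), (44, 1), (60, 1), (303, 1), (148, 1), (172, 1), (67, 1), (286, 1), (275, 1), (137, 1), (133, 1), (40, 1)],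
   .tr 1 70 [(268, 1), (256, 1), (17, 1), (0, 1), (80, 1), (107, 1), (263, 1), (223, 1), (248, 1), (118, 1), (132, 1), (130, 1), (208, 1), (204, 1), (72, 1)],
   .tr 0 40 [(57, 1), (84, 1), (144, 1), (58, 1), (104, 1), (115, 1), (60, 1), (284, 1), (201, 1), (250, 1), (51, 1), (312, 1), (146, 1), (120, 1), (218, 1)],
   .tr 1 72 [(102, 1), (141, 1), (218, 1), (104, 1), (170, 1), (91, 1), (107, 1), (308, 1), (269, 1), (56, 1), (92, 1), (115, 1), (220, 1), (119, 1), (279, 1)],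
   .tr 1 73 [(61, 1), (213, 1), (279, 1), (170, 1), (246, 1), (151, 1), (23, 1), (136, 1), (176, 1), (100, 1), (153, 1), (91, 1), (52, 1), (82, 1), (303, 1)],
   .tr 1 74 [(108, 1), (274, 1), (303, 1), (246, 1), (171, 1), (211, 1), (42, 1), (71, 1), (159, 1), (164, 1), (3, 1), (151, 1), (93, 1), (75, 1), (263, 1)],
   .tr 0 75 [(174, 1), (164, 1), (309, 1), (258, 1), (60, 1), (84, 1), (75, 1), (22, 1), (55, 1), (238, 1), (0, 1), (226, 1), (108, 1), (128, 1), (146, 1)],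
   .tr 0 39 [(152, 1), (226, 1), (135, 1), (232, 1), (202, 1), (222, 1), (258, 1), (292, 1), (118, 1), (182, 1), (306, 1), (299, 1), (309, 1), (302, 1), (286, 1)],
   .tr 1 77 [(227, 1), (85, 1), (145, 1), (59, 1), (231, 1), (280, 1), (10, 1), (285, 1), (186, 1), (167, 1), (221, 1), (83, 1), (127, 1), (297, 1), (132, 1)],
   .tr 0 78 [(144, 1), (98, 1), (219, 1), (105, 1), (95, 1), (192, 1), (2, 1), (300, 1), (257, 1), (58, 1), (114, 1), (26, 1), (41, 1), (312, 1), (44, 1)],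
   .tr 1 79 [(218, 1), (161, 1), (73, 1), (5, 1), (157, 1), (262, 1), (6, 1), (311, 1), (224, 1), (104, 1), (181, 1), (48, 1), (74, 1), (115, 1), (80, 1)],
   .tr 1 80 [(279, 1), (236, 1), (30, 1), (11, 1), (232, 1), (299, 1), (13, 1), (238, 1), (174, 1), (170, 1), (128, 1), (86, 1), (109, 1), (91, 1), (135, 1)],
   .tr 1 81 [(303, 1), (219, 1), (55, 1), (22, 1), (59, 1), (83, 1), (26, 1), (140, 1), (106, 1), (246, 1), (197, 1), (0, 1), (105, 1), (151, 1), (145, 1)],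
   .tr 1 65 [(153, 1), (186, 1), (111, 1), (211, 1), (128, 1), (167, 1), (254, 1), (280, 1), (14, 1), (180, 1), (295, 1), (85, 1), (83, 1), (276, 1), (191, 1)],
   .tr 1 83 [(3, 1), (258, 1), (178, 1), (273, 1), (197, 1), (156, 1), (296, 1), (307, 1), (21, 1), (117, 1), (310, 1), (142, 1), (139, 1), (266, 1), (89, 1)],
   .tr 0 84 [(0, 1), (223, 1), (240, 1), (141, 1), (263, 1), (231, 1), (306, 1), (262, 1), (38, 1), (183, 1), (313, 1), (214, 1), (160, 1), (242, 1), (28, 1)],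
   .tr 1 85 [(2, 1), (14, 1), (69, 1), (213, 1), (249, 1), (205, 1), (221, 1), (299, 1), (68, 1), (253, 1), (276, 1), (264, 1), (235, 1), (289, 1), (51, 1)],
   .tr 1 86 [(6, 1), (21, 1), (122, 1), (274, 1), (87, 1), (252, 1), (226, 1), (83, 1), (120, 1), (295, 1), (266, 1), (300, 1), (138, 1), (260, 1), (92, 1)],
   .tr 0 87 [(12, 1), (38, 1), (189, 1), (164, 1), (126, 1), (294, 1), (281, 1), (26, 1), (81, 1), (284, 1), (242, 1), (230, 1), (46, 1), (237, 1), (152, 1)],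
   .tr 1 88 [(24, 1), (68, 1), (101, 1), (234, 1), (163, 1), (179, 1), (287, 1), (48, 1), (137, 1), (308, 1), (289, 1), (286, 1), (45, 1), (121, 1), (227, 1)],
   .tr 1 89 [(44, 1), (120, 1), (165, 1), (216, 1), (237, 1), (239, 1), (143, 1), (86, 1), (208, 1), (136, 1), (260, 1), (132, 1), (81, 1), (188, 1), (79, 1)],
   .tr 1 90 [(80, 1), (119, 1), (240, 1), (241, 1), (121, 1), (99, 1), (217, 1), (0, 1), (158, 1), (71, 1), (207, 1), (203, 1), (137, 1), (40, 1), (133, 1)],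
   .tr 0 73 [(166, 1), (212, 1), (215, 1), (169, 1), (245, 1), (150, 1), (173, 1), (302, 1), (182, 1), (99, 1), (152, 1), (37, 1), (172, 1), (187, 1), (295, 1)],
   .tr 0 92 [(241, 1), (273, 1), (276, 1), (243, 1), (201, 1), (51, 1), (249, 1), (299, 1), (232, 1), (31, 1), (135, 1), (66, 1), (247, 1), (68, 1), (284, 1)],
   .tr 1 93 [(250, 1), (304, 1), (266, 1), (290, 1), (269, 1), (92, 1), (87, 1), (83, 1), (59, 1), (57, 1), (145, 1), (116, 1), (32, 1), (120, 1), (308, 1)],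
   .tr 1 94 [(56, 1), (312, 1), (302, 1), (152, 1), (176, 1), (153, 1), (144, 1), (139, 1), (16, 1), (102, 1), (195, 1), (182, 1), (58, 1), (119, 1), (136, 1)]]

def steps3 : List Step :=
  [.tr 1 95 [(100, 1), (115, 1), (297, 1), (227, 1), (159, 1), (3, 1), (218, 1), (210, 1), (29, 1), (61, 1), (12, 1), (167, 1), (104, 1), (82, 1), (71, 1)],
   .tr 0 96 [(163, 1), (37, 1), (312, 1), (144, 1), (55, 1), (0, 1), (215, 1), (213, 1), (52, 1), (19, 1), (23, 1), (58, 1), (169, 1), (138, 1), (22, 1)],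
   .tr 0 83 [(57, 1), (257, 1), (35, 1), (84, 1), (42, 1), (58, 1), (277, 1), (192, 1), (27, 1), (65, 1), (284, 1), (98, 1), (26, 1), (218, 1), (70, 1)],
   .tr 1 98 [(102, 1), (224, 1), (64, 1), (141, 1), (76, 1), (104, 1), (306, 1), (262, 1), (49, 1), (114, 1), (308, 1), (161, 1), (48, 1), (279, 1), (113, 1)],
   .tr 1 99 [(61, 1), (174, 1), (112, 1), (213, 1), (18, 1), (170, 1), (221, 1), (299, 1), (88, 1), (181, 1), (136, 1), (236, 1), (86, 1), (303, 1), (148, 1)],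
   .tr 1 100 [(108, 1), (106, 1), (1, 1), (274, 1), (33, 1), (246, 1), (226, 1), (83, 1), (146, 1), (128, 1), (71, 1), (219, 1), (0, 1), (263, 1), (223, 1)],
   .tr 1 58 [(9, 1), (219, 1), (302, 1), (34, 1), (189, 1), (147, 1), (201, 1), (216, 1), (267, 1), (108, 1), (81, 1), (209, 1), (294, 1), (210, 1), (90, 1)],
   .tr 1 102 [(19, 1), (73, 1), (297, 1), (62, 1), (101, 1), (222, 1), (269, 1), (241, 1), (193, 1), (8, 1), (137, 1), (272, 1), (179, 1), (123, 1), (149, 1)],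
   .tr 0 103 [(34, 1), (127, 1), (312, 1), (109, 1), (153, 1), (225, 1), (182, 1), (102, 1), (76, 1), (16, 1), (207, 1), (217, 1), (209, 1), (191, 1), (224, 1)],
   .tr 1 104 [(62, 1), (196, 1), (115, 1), (105, 1), (3, 1), (180, 1), (167, 1), (61, 1), (18, 1), (29, 1), (166, 1), (154, 1), (272, 1), (89, 1), (174, 1)],
   .tr 0 105 [(109, 1), (248, 1), (37, 1), (33, 1), (0, 1), (65, 1), (58, 1), (19, 1), (32, 1), (52, 1), (241, 1), (53, 1), (217, 1), (28, 1), (93, 1)],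
   .tr 0 77 [(135, 1), (281, 1), (92, 1), (269, 1), (270, 1), (225, 1), (223, 1), (184, 1), (185, 1), (232, 1), (301, 1), (308, 1), (267, 1), (299, 1), (310, 1)],
   .tr 1 107 [(145, 1), (287, 1), (153, 1), (176, 1), (282, 1), (180, 1), (14, 1), (254, 1), (256, 1), (59, 1), (183, 1), (136, 1), (193, 1), (83, 1), (198, 1)],
   .tr 1 108 [(195, 1), (143, 1), (3, 1), (159, 1), (291, 1), (117, 1), (21, 1), (296, 1), (255, 1), (16, 1), (253, 1), (71, 1), (54, 1), (139, 1), (265, 1)],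
   .tr 0 109 [(72, 1), (216, 1), (0, 1), (55, 1), (256, 1), (183, 1), (38, 1), (306, 1), (118, 1), (4, 1), (292, 1), (22, 1), (17, 1), (160, 1), (254, 1)],
   .rule 2 [(118, 1), (149, 1), (151, 1), (225, 1), (246, 1), (252, 1), (270, 1), (271, 1), (289, 1), (292, 1), (294, 1), (303, 1), (306, 1), (310, 1), (314, 1)] [[], []] [(118, 1), (149, 1), (151, 1), (225, 1), (246, 1), (252, 1), (270, 1), (271, 1), (289, 1), (292, 1), (294, 1), (303, 1), (306, 1), (310, 1), (314, 1)],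
   .tr 1 111 [(186, 1), (111, 1), (211, 1), (180, 1), (171, 1), (43, 1), (282, 1), (94, 1), (260, 1), (285, 1), (179, 1), (263, 1), (221, 1), (198, 1), (191, 1)],
   .tr 1 112 [(258, 1), (178, 1), (273, 1), (117, 1), (247, 1), (78, 1), (291, 1), (155, 1), (207, 1), (309, 1), (239, 1), (249, 1), (226, 1), (265, 1), (89, 1)],
   .tr 0 113 [(223, 1), (240, 1), (141, 1), (183, 1), (220, 1), (130, 1), (256, 1), (229, 1), (251, 1), (267, 1), (208, 1), (107, 1), (281, 1), (254, 1), (28, 1)],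
   .tr 1 114 [(14, 1), (69, 1), (213, 1), (253, 1), (52, 1), (201, 1), (255, 1), (284, 1), (278, 1), (193, 1), (158, 1), (23, 1), (287, 1), (296, 1), (51, 1)],
   .tr 1 115 [(21, 1), (122, 1), (274, 1), (295, 1), (93, 1), (269, 1), (245, 1), (308, 1), (175, 1), (54, 1), (25, 1), (42, 1), (143, 1), (150, 1), (92, 1)],
   .tr 1 116 [(39, 1), (190, 1), (305, 1), (310, 1), (27, 1), (176, 1), (270, 1), (136, 1), (34, 1), (96, 1), (46, 1), (76, 1), (217, 1), (225, 1), (153, 1)],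
   .tr 1 117 [(70, 1), (189, 1), (288, 1), (198, 1), (49, 1), (159, 1), (282, 1), (71, 1), (62, 1), (77, 1), (45, 1), (18, 1), (154, 1), (180, 1), (3, 1)],
   .tr 0 118 [(123, 1), (236, 1), (304, 1), (264, 1), (87, 1), (55, 1), (293, 1), (22, 1), (109, 1), (24, 1), (13, 1), (32, 1), (53, 1), (65, 1), (0, 1)],
   .tr 0 94 [(110, 1), (235, 1), (242, 1), (268, 1), (182, 1), (152, 1), (126, 1), (26, 1), (105, 1), (101, 1), (219, 1), (90, 1), (9, 1), (81, 1), (302, 1)],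
   .tr 1 120 [(177, 1), (138, 1), (289, 1), (294, 1), (167, 1), (227, 1), (163, 1), (48, 1), (5, 1), (165, 1), (73, 1), (149, 1), (19, 1), (137, 1), (297, 1)],
   .tr 1 121 [(251, 1), (209, 1), (260, 1), (179, 1), (156, 1), (79, 1), (237, 1), (86, 1), (11, 1), (240, 1), (30, 1), (111, 1), (35, 1), (208, 1), (261, 1)],
   .tr 1 122 [(278, 1), (272, 1), (207, 1), (239, 1), (134, 1), (133, 1), (121, 1), (0, 1), (22, 1), (69, 1), (55, 1), (178, 1), (64, 1), (158, 1), (298, 1)],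
   .tr 0 41 [(0, 1), (141, 1), (132, 1), (231, 1), (268, 1), (90, 1), (220, 1), (313, 1), (204, 1), (55, 1), (206, 1), (280, 1), (107, 1), (22, 1), (242, 1)]]

def data : Cert where
  n := 9
  p := 2
  N := 315
  gens := gens
  hgens := [(2, 1), (3, 1), (4, 1)]
  hel := hel
  reps := reps
  act := [act0, act1, act2, act3, act4, act5, act6, act7, act8, act9, act10, act11, act12, act13, act14, act15]
  rules := [⟨[(5, 1), (6, 1)], [(1, 7)]⟩, ⟨[(8, 1), (9, 1)], [(1, 7)]⟩, ⟨[(10, 1), (11, 1)], [(1, 7)]⟩, ⟨[(2, 1), (12, 1), (13, 1)], [(1, 7)]⟩, ⟨[(2, 1), (14, 1)], [(1, 7)]⟩, ⟨[(2, 1), (15, 1)], [(1, 7)]⟩]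
  steps := [steps0, steps1, steps2, steps3]
  final := [(0, 1), (5, 1), (14, 1), (23, 1), (26, 1), (34, 1), (38, 1), (48, 1), (54, 1), (56, 1), (63, 1), (71, 1), (76, 1), (82, 1), (85, 1), (91, 1), (97, 1), (101, 1), (106, 1), (110, 1), (119, 1), (123, 1), (124, 1)]

theorem gens_good : ∀ t ∈ data.gens, Good data.n t :=
  data.gens_good [[(0, 1, 2)], [(1, 2, 3), (3, 4, 5), (5, 6, 7)], [(0, 2, 1), (1, 6, 2)], [(0, 7, 2), (1, 3, 6), (2, 4, 5), (4, 5, 6)], [(0, 3, 1), (1, 6, 3), (2, 5, 4), (4, 7, 5)], [(0, 3, 2), (2, 4, 3)], [(0, 2, 1)], [], [(0, 5, 1), (1, 4, 5)], [(0, 4, 1), (2, 3, 5)], [(0, 3, 1), (1, 4, 3)], [(0, 5, 2), (1, 3, 4)], [(0, 6, 1), (1, 2, 6)], [(0, 2, 1), (1, 3, 4), (2, 4, 6), (5, 7, 6)], [(0, 6, 5), (1, 5, 4), (2, 7, 3), (3, 4, 7)], [(0, 7, 1), (1, 3, 4), (2, 7, 4), (4, 5, 6)]] rfl (by decide +kernel)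

theorem base : data.baseOK = true := by decide +kernel

theorem actP0 : (List.range 0).all data.actPart = true := rfl

theorem actP1 : (List.range 1).all data.actPart = true :=
  Cert.all_range_succ actP0 (by decide +kernel)

theorem actP2 : (List.range 2).all data.actPart = true :=
  Cert.all_range_succ actP1 (by decide +kernel)

theorem actP3 : (List.range 3).all data.actPart = true :=
  Cert.all_range_succ actP2 (by decide +kernel)

theorem actP4 : (List.range 4).all data.actPart = true :=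
  Cert.all_range_succ actP3 (by decide +kernel)

theorem actP5 : (List.range 5).all data.actPart = true :=
  Cert.all_range_succ actP4 (by decide +kernel)

theorem actP6 : (List.range 6).all data.actPart = true :=
  Cert.all_range_succ actP5 (by decide +kernel)

theorem actP7 : (List.range 7).all data.actPart = true :=
  Cert.all_range_succ actP6 (by decide +kernel)

theorem actP8 : (List.range 8).all data.actPart = true :=
  Cert.all_range_succ actP7 (by decide +kernel)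

theorem actP9 : (List.range 9).all data.actPart = true :=
  Cert.all_range_succ actP8 (by decide +kernel)

theorem actP10 : (List.range 10).all data.actPart = true :=
  Cert.all_range_succ actP9 (by decide +kernel)

theorem actP11 : (List.range 11).all data.actPart = true :=
  Cert.all_range_succ actP10 (by decide +kernel)

theorem actP12 : (List.range 12).all data.actPart = true :=
  Cert.all_range_succ actP11 (by decide +kernel)

theorem actP13 : (List.range 13).all data.actPart = true :=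
  Cert.all_range_succ actP12 (by decide +kernel)

theorem actP14 : (List.range 14).all data.actPart = true :=
  Cert.all_range_succ actP13 (by decide +kernel)

theorem actP15 : (List.range 15).all data.actPart = true :=
  Cert.all_range_succ actP14 (by decide +kernel)

theorem actP16 : (List.range 16).all data.actPart = true :=
  Cert.all_range_succ actP15 (by decide +kernel)

theorem stp0 : data.stepsOK 0 = true := rfl

theorem stp1 : data.stepsOK 100 = true :=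
  data.stepsOK_add stp0 100 (by decide +kernel)

theorem stp2 : data.stepsOK 125 = true :=
  data.stepsOK_add stp1 25 (by decide +kernel)

theorem numSteps_eq : data.numSteps = 125 := by decide +kernel

theorem check : data.check = true := by
  simp only [Cert.check, Bool.and_eq_true]
  exact ⟨base, actP16, numSteps_eq ▸ stp2⟩

end CfsgLib.AltCentral.TwoS
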