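import Cfsg.Agent.Lib.AltCentral.ModuleTools
import Cfsg.Agent.Lib.AltCentral.Reduce
import Cfsg.Agent.Lib.AltCentral.TwoA
import Cfsg.Agent.Lib.AltCentral.TwoB
import Cfsg.Agent.Lib.AltCentral.TwoC
import Cfsg.Agent.Lib.AltCentral.TwoS

/-!
Every nonzero module for the alternating group of degree nine in characteristic two has a nonzero
vector with nonsolvable stabiliser.
-/

set_option autoImplicit false

namespace CfsgLib.AltCentral.Two

/-- The tables of the listed stabiliser generators of a certificate. -/
def hTabs (C : Cert) : List (List ℕ) := C.hgens.map fun c => C.gT c.1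

variable {W : Type} [AddCommGroup W] [DistribMulAction (alternatingGroup (Fin 9)) W]

theorem no_module [Finite W] [Nontrivial W] (hW : ∀ w : W, 2 • w = 0) (hNF : NoFix 9 W) : False := by
  haveI : Fact (Nat.Prime 2) := ⟨by norm_num⟩
  letI iS : DistribMulAction (alternatingGroup (Fin TwoS.data.n)) W := ‹_›
  letI iA : DistribMulAction (alternatingGroup (Fin TwoA.data.n)) W := ‹_›
  letI iB : DistribMulAction (alternatingGroup (Fin TwoB.data.n)) W := ‹_›
  letI iC : DistribMulAction (alternatingGroup (Fin TwoC.data.n)) W := ‹_›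
  have hA : ∀ w : W, TFix 9 (hTabs TwoA.data) w → w = 0 := by
    intro w hw
    refine Cert.sound TwoA.data TwoA.gens_good TwoA.check hW w ?_ ?_
    · intro c hc
      have h1 : c.2 = 1 := by revert c; decide +kernel
      rw [h1, one_smul]
      exact hw _ (List.mem_map.2 ⟨c, hc, rfl⟩)
    · intro R hR
      have hk : triShape TwoA.data R = true := by revert R; decide +kernel
      exact ruleHolds_of_tri TwoA.gens_good hk hNF
  have hB : ∀ w : W, TFix 9 (hTabs TwoB.data) w → w = 0 := by
    intro w hw
    refine Cert.sound TwoB.data TwoB.gens_good TwoB.check hW w ?_ ?_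
    · intro c hc
      have h1 : c.2 = 1 := by revert c; decide +kernel
      rw [h1, one_smul]
      exact hw _ (List.mem_map.2 ⟨c, hc, rfl⟩)
    · intro R hR
      have hk : triShape TwoB.data R = true := by revert R; decide +kernel
      exact ruleHolds_of_tri TwoB.gens_good hk hNF
  have hC : ∀ w : W, TFix 9 (hTabs TwoC.data) w → w = 0 := by
    intro w hw
    refine Cert.sound TwoC.data TwoC.gens_good TwoC.check hW w ?_ ?_
    · intro c hc
      have h1 : c.2 = 1 := by revert c; decide +kernel
      rw [h1, one_smul]
      exact hw _ (List.mem_map.2 ⟨c, hc, rfl⟩)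
    · intro R hR
      have hk : triShape TwoC.data R = true := by revert R; decide +kernel
      exact ruleHolds_of_tri TwoC.gens_good hk hNF
  have gS : ∀ t ∈ hTabs TwoS.data, Good 9 t := fun t ht => TwoS.gens_good t
    ((by decide +kernel : ∀ t ∈ hTabs TwoS.data, t ∈ TwoS.data.gens) t ht)
  obtain ⟨w₀, hw₀⟩ := exists_ne (0 : W)
  obtain ⟨u, -, hu0, hu⟩ := exists_fixed hW gS
    (e := 3) (H := TwoS.data.hel.flatten.map fun e => e.2.2.1) (by decide +kernel) ⊤
    (fun _ _ _ _ => AddSubgroup.mem_top _) (AddSubgroup.mem_top w₀) hw₀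
  refine hu0 (Cert.sound TwoS.data TwoS.gens_good TwoS.check hW u ?_ ?_)
  · intro c hc
    have h1 : c.2 = 1 := by revert c; decide +kernel
    rw [h1, one_smul]
    exact hu _ (List.mem_map.2 ⟨c, hc, rfl⟩)
  · intro R hR
    have hk : triShape TwoS.data R = true ∨ killShape TwoS.data R (hTabs TwoA.data) = true ∨
        killShape TwoS.data R (hTabs TwoB.data) = true ∨ killShape TwoS.data R (hTabs TwoC.data) = true := by
      revert R; decide +kernel
    rcases hk with hk | hk | hk | hk
    · exact ruleHolds_of_tri TwoS.gens_good hk hNF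
    · exact ruleHolds_of_kill hk hA
    · exact ruleHolds_of_kill hk hB
    · exact ruleHolds_of_kill hk hC

theorem fixedVectorCond : FixedVectorCond 2 9 := by
  intro W _ _ _ _ hW
  by_contra h
  push Not at h
  refine no_module hW fun w L hL hfix => ?_
  by_contra hw
  obtain ⟨l, hl, hne⟩ := h w hw L hL
  exact hne (hfix l hl)

end CfsgLib.AltCentral.Two
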